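import Cfsg.Agent.MElevenUnique.Local

/-!
A simple group of order 7920: the normaliser of a Sylow 3-subgroup and its involutions.
-/

set_option autoImplicit false

open scoped Pointwise
open MulAction

namespace CfsgLib.MElevenUnique

variable {G : Type*} [Group G] [Finite G] [IsSimpleGroup G] [Fact (Nat.Prime 3)]
  (hG : Nat.card G = 7920)
include hG

theorem card_Ng3 (P : Sylow 3 G) : Nat.card (Ng (P : Subgroup G)) = 144 :=
  card_Ng55 hG (card_sylow_three hG) P

theorem Cs3 (P : Sylow 3 G) : Cs (P : Subgroup G) = (P : Subgroup G) :=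
  Cs55 hG (card_sylow_three hG) P

theorem elem_three {P : Sylow 3 G} {u : G} (hu : u ∈ (P : Subgroup G)) (hu1 : u ≠ 1) :
    orderOf u = 3 ∧ Nat.card (Cg u) = 18 ∧ Cg u ≤ Ng (P : Subgroup G) :=
  (local55 hG (card_sylow_three hG) P).1 u hu hu1

theorem transitive_three (P : Sylow 3 G) {u v : G} (hu : u ∈ (P : Subgroup G)) (hv : v ∈ (P : Subgroup G))
    (hu1 : u ≠ 1) (hv1 : v ≠ 1) : ∃ g ∈ Ng (P : Subgroup G), g * u * g⁻¹ = v :=
  (local55 hG (card_sylow_three hG) P).2 u hu v hv hu1 hv1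

/-- A nontrivial element of `P` fixes only `P`. -/
theorem free3 {P : Sylow 3 G} {e : G} (he : e ∈ (P : Subgroup G)) (he1 : e ≠ 1) {Q : Sylow 3 G}
    (h : e • Q = Q) : Q = P := by
  have hQ := (fix3_iff hG he).1 h
  have hle := (sylow_le_Cg hG Q hQ).trans (elem_three hG he he1).2.2
  refine Sylow.ext (Subgroup.eq_of_le_of_card_ge (fun a ha => ?_) (by rw [card_sylow3 hG P, card_sylow3 hG Q]))
  obtain ⟨k, hk⟩ := three_pow hG ha
  exact mem_sylow_of_normalizes hk (hle ha)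

theorem Ng_zpowers_le {P : Sylow 3 G} {u : G} (hu : u ∈ (P : Subgroup G)) (hu1 : u ≠ 1) :
    Ng (Subgroup.zpowers u) ≤ Ng (P : Subgroup G) := by
  intro g hg
  have h1 : g * u * g⁻¹ ∈ (P : Subgroup G) :=
    (Subgroup.zpowers_le.2 hu) ((Subgroup.mem_normalizer_iff.1 hg u).1 (Subgroup.mem_zpowers u))
  refine smul_sylow_eq_iff.1 (free3 hG h1 (fun e => hu1 (conj_eq_one_iff.1 e)) ?_)
  exact smul_sylow_eq_iff.2 (Subgroup.le_normalizer ((mem_smul_sylow P g).2 hu))

omit [Finite G] [IsSimpleGroup G] [Fact (Nat.Prime 3)] hG in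
theorem invol_sq {r : G} (hr : orderOf r = 2) : r * r = 1 := by rw [← pow_two, ← hr, pow_orderOf_eq_one]

omit [Finite G] [IsSimpleGroup G] [Fact (Nat.Prime 3)] hG in
theorem invol_ne {r : G} (hr : orderOf r = 2) : r ≠ 1 := fun e => by
  rw [e, orderOf_one] at hr; norm_num at hr

theorem eq_one_of_self_inverse {P : Sylow 3 G} {x : G} (hx : x ∈ (P : Subgroup G)) (h : x = x⁻¹) : x = 1 := by
  have h2 : x * x = 1 := by nth_rewrite 1 [h]; exact inv_mul_cancel x
  rw [eq_self_of_pow_nine (pow_nine hG hx), h2, one_pow]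

theorem not_invol_mem {P : Sylow 3 G} {r : G} (hr : orderOf r = 2) : r ∉ (P : Subgroup G) := fun h =>
  invol_ne hr (eq_one_of_self_inverse hG h (inv_eq_of_mul_eq_one_right (invol_sq hr)).symm)

/-- An inverting element is an involution. -/
theorem inverter {P : Sylow 3 G} {g : G} (hgN : g ∈ Ng (P : Subgroup G))
    (hg : ∀ e ∈ (P : Subgroup G), g * e * g⁻¹ = e⁻¹) : orderOf g = 2 := by
  have h2 : g * g ∈ (P : Subgroup G) := by
    rw [← Cs3 hG P]
    refine mem_Cs.2 fun e he => ?_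
    have : g * g * e * (g * g)⁻¹ = e := by
      calc g * g * e * (g * g)⁻¹ = g * (g * e * g⁻¹) * g⁻¹ := by group
        _ = g * e⁻¹ * g⁻¹ := by rw [hg e he]
        _ = (g * e * g⁻¹)⁻¹ := conj_inv.symm
        _ = e := by rw [hg e he, inv_inv]
    exact (mul_inv_eq_iff_eq_mul.1 this).symm
  have h1 : g * g = 1 := eq_one_of_self_inverse hG h2 (by
    nth_rewrite 1 [← hg _ h2]
    rw [← mul_assoc g g g, mul_inv_cancel_right])
  refine orderOf_eq_prime (by rw [pow_two, h1]) fun e => ?_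
  obtain ⟨x, hx⟩ : ∃ x : (P : Subgroup G), x ≠ 1 :=
    haveI : Nontrivial (P : Subgroup G) := Finite.one_lt_card_iff_nontrivial.1 (by rw [card_sylow3 hG P]; norm_num)
    exists_ne 1
  refine hx (Subtype.ext (eq_one_of_self_inverse hG x.2 ?_))
  have := hg x x.2
  rwa [e, one_mul, inv_one, mul_one] at this

theorem invol_cases {P : Sylow 3 G} {r : G} (hr : orderOf r = 2) (hrN : r ∈ Ng (P : Subgroup G)) :
    (∀ e ∈ (P : Subgroup G), r * e * r⁻¹ = e⁻¹) ∨ ∃ u ∈ (P : Subgroup G), u ≠ 1 ∧ r ∈ Cg u := by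
  by_cases h : ∀ y ∈ (P : Subgroup G), r * y = y * r → y = 1
  · left
    intro e he
    rw [inv_eq_of_mul_eq_one_right (invol_sq hr)]
    exact GraphSimple.inverts_of_fpf (invol_sq hr) hrN h he
  · right
    push Not at h
    obtain ⟨u, hu, hc, hu1⟩ := h
    exact ⟨u, hu, hu1, mem_Cg.2 hc⟩

/-- The elements of `P` fixed by a reflection. -/
theorem fixed_of_reflection {P : Sylow 3 G} {r u : G} (hr : orderOf r = 2) (hu : u ∈ (P : Subgroup G))
    (hu1 : u ≠ 1) (hru : r ∈ Cg u) {x : G} (hx : x ∈ (P : Subgroup G)) (hxr : r ∈ Cg x) :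
    x ∈ Subgroup.zpowers u := by
  set A := (P : Subgroup G) ⊓ Cg r
  have huA : u ∈ A := ⟨hu, mem_Cg_comm.1 hru⟩
  have hP := card_sylow3 hG P
  have hd : Nat.card A ∣ 9 := hP ▸ Subgroup.card_dvd_of_le inf_le_left
  have hne : Nat.card A ≠ 9 := fun e => by
    have hle : (P : Subgroup G) ≤ Cg r :=
      (Subgroup.eq_of_le_of_card_ge (inf_le_left : A ≤ _) (by rw [e, hP])).symm.le.trans inf_le_right
    exact not_invol_mem hG hr (Cs3 hG P ▸ mem_Cs_of_le_Cg hle)
  have he : Subgroup.zpowers u = A := Subgroup.eq_of_le_of_card_ge (Subgroup.zpowers_le.2 huA) (by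
    rw [Nat.card_zpowers, (elem_three hG hu hu1).1]
    have := Nat.le_of_dvd (by norm_num) hd
    interval_cases Nat.card A <;> omega)
  rw [he]
  exact ⟨hx, mem_Cg_comm.1 hxr⟩

/-- The elements inverted by a reflection. -/
theorem card_inverted_le {P : Sylow 3 G} {r u : G} (hu : u ∈ (P : Subgroup G))
    (hu1 : u ≠ 1) (hru : r ∈ Cg u) :
    Nat.card {x : G // x ∈ (P : Subgroup G) ∧ r * x * r⁻¹ = x⁻¹} ≤ 3 := by
  let B : Subgroup G :=
    { carrier := {x | x ∈ (P : Subgroup G) ∧ r * x * r⁻¹ = x⁻¹}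
      one_mem' := ⟨one_mem _, by simp⟩
      mul_mem' := by
        rintro x y ⟨hx, hx'⟩ ⟨hy, hy'⟩
        refine ⟨mul_mem hx hy, ?_⟩
        rw [← conj_mul, hx', hy', ← mul_inv_rev, mem_Cg.1 (sylow_le_Cg hG P hx hy)]
      inv_mem' := by
        rintro x ⟨hx, hx'⟩
        exact ⟨inv_mem hx, by rw [← conj_inv, hx']⟩ }
  have hle : B ≤ (P : Subgroup G) := fun x hx => hx.1
  have hP := card_sylow3 hG P
  have hd : Nat.card B ∣ 9 := hP ▸ Subgroup.card_dvd_of_le hle
  have hne : Nat.card B ≠ 9 := fun e => hu1 (eq_one_of_self_inverse hG hu (by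
    have h := ((Subgroup.eq_of_le_of_card_ge hle (by rw [e, hP])).symm.le hu : u ∈ B).2
    rwa [mem_Cg.1 hru, mul_inv_cancel_right] at h))
  show Nat.card B ≤ 3
  have := Nat.le_of_dvd (by norm_num) hd
  interval_cases Nat.card B <;> omega

theorem card_involutions_Cg_le {P : Sylow 3 G} {u : G} (hu : u ∈ (P : Subgroup G)) (hu1 : u ≠ 1) :
    Nat.card {h : G // h ∈ Cg u ∧ orderOf h = 2} ≤ 3 := by
  obtain ⟨-, h18, -⟩ := elem_three hG hu hu1
  rcases isEmpty_or_nonempty {h : G // h ∈ Cg u ∧ orderOf h = 2} with he | ⟨r, hru, hr⟩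
  · rw [Nat.card_of_isEmpty]; norm_num
  have hidx : ((P : Subgroup G).subgroupOf (Cg u)).index = 2 := by
    have h := ((P : Subgroup G).subgroupOf (Cg u)).index_mul_card
    rw [Nat.card_congr (Subgroup.subgroupOfEquivOfLe (sylow_le_Cg hG P hu)).toEquiv, card_sylow3 hG P, h18] at h
    omega
  refine (Nat.card_le_card_of_injective (β := {x : G // x ∈ (P : Subgroup G) ∧ r * x * r⁻¹ = x⁻¹})
    (fun h => ⟨r * h.1, ?_, ?_⟩) ?_).trans (card_inverted_le hG hu hu1 hru)
  · exact (Subgroup.mul_mem_iff_of_index_two hidx (a := ⟨r, hru⟩) (b := ⟨h.1, h.2.1⟩)).2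
      (iff_of_false (not_invol_mem hG hr) (not_invol_mem hG h.2.2))
  · rw [mul_inv_rev, inv_eq_of_mul_eq_one_right (invol_sq h.2.2), inv_eq_of_mul_eq_one_right (invol_sq hr),
      ← mul_assoc, invol_sq hr, one_mul]
  · intro a b e
    exact Subtype.ext (mul_left_cancel (congrArg Subtype.val e))

theorem card_inverters_le {P : Sylow 3 G} :
    Nat.card {h : G // h ∈ Ng (P : Subgroup G) ∧ ∀ e ∈ (P : Subgroup G), h * e * h⁻¹ = e⁻¹} ≤ 9 := by
  obtain ⟨t, htN, ht⟩ := exists_inverting hG P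
  rw [← card_sylow3 hG P]
  refine Nat.card_le_card_of_injective (fun h => ⟨t⁻¹ * h.1, ?_⟩) fun a b e =>
    Subtype.ext (mul_left_cancel (congrArg Subtype.val e))
  refine (Cs3 hG P).le (mem_Cs.2 fun e he => ?_)
  have h1 := h.2.2 e he
  have h2 : t⁻¹ * e⁻¹ * t = e := by rw [← ht e he]; group
  have : t⁻¹ * h.1 * e * (t⁻¹ * h.1)⁻¹ = e := by
    calc t⁻¹ * h.1 * e * (t⁻¹ * h.1)⁻¹ = t⁻¹ * (h.1 * e * h.1⁻¹) * t := by group
      _ = e := by rw [h1, h2]
  exact (mul_inv_eq_iff_eq_mul.1 this).symm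

theorem card_reflections_le {P : Sylow 3 G} :
    Nat.card {h : G // orderOf h = 2 ∧ ∃ u ∈ (P : Subgroup G), u ≠ 1 ∧ h ∈ Cg u} ≤ 12 := by
  classical
  haveI := Fintype.ofFinite {u : (P : Subgroup G) // u ≠ 1}
  have hS : Nat.card (Σ u : {u : (P : Subgroup G) // u ≠ 1}, {h : G // h ∈ Cg ((u : (P : Subgroup G)) : G) ∧ orderOf h = 2})
      ≤ 8 * 3 := by
    rw [Nat.card_sigma]
    refine (Finset.sum_le_card_nsmul _ _ 3 fun u _ =>
      card_involutions_Cg_le hG u.1.2 fun e => u.2 (Subtype.ext e)).trans ?_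
    have h8 : Fintype.card {u : (P : Subgroup G) // u ≠ 1} = 8 := by
      haveI := Fintype.ofFinite (P : Subgroup G)
      rw [← Nat.card_eq_fintype_card, Nat.card_eq_fintype_card (α := {u : (P : Subgroup G) // u ≠ 1}),
        Fintype.card_subtype_compl, Fintype.card_subtype_eq, ← Nat.card_eq_fintype_card, card_sylow3 hG P]
    rw [Finset.card_univ, h8, smul_eq_mul]
  let v : {h : G // orderOf h = 2 ∧ ∃ u ∈ (P : Subgroup G), u ≠ 1 ∧ h ∈ Cg u} → G := fun h => h.2.2.choose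
  have hv : ∀ h, v h ∈ (P : Subgroup G) ∧ v h ≠ 1 ∧ h.1 ∈ Cg (v h) := fun h => h.2.2.choose_spec
  have hinv : ∀ h, h.1 ∈ Cg (v h)⁻¹ := fun h =>
    mem_Cg.2 (Commute.inv_right (mem_Cg.1 (hv h).2.2)).eq
  let f : {h : G // orderOf h = 2 ∧ ∃ u ∈ (P : Subgroup G), u ≠ 1 ∧ h ∈ Cg u} × Bool →
      Σ u : {u : (P : Subgroup G) // u ≠ 1}, {h : G // h ∈ Cg ((u : (P : Subgroup G)) : G) ∧ orderOf h = 2} :=
    fun p => bif p.2 then ⟨⟨⟨v p.1, (hv p.1).1⟩, fun e => (hv p.1).2.1 (congrArg Subtype.val e)⟩,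
        ⟨p.1.1, (hv p.1).2.2, p.1.2.1⟩⟩
      else ⟨⟨⟨(v p.1)⁻¹, inv_mem (hv p.1).1⟩, fun e => (hv p.1).2.1 (inv_eq_one.1 (congrArg Subtype.val e))⟩,
        ⟨p.1.1, hinv p.1, p.1.2.1⟩⟩
  have hf : Function.Injective f := by
    rintro ⟨h, b⟩ ⟨h', b'⟩ e
    have e1 : h.1 = h'.1 := by
      have := congrArg (fun s : Σ u : {u : (P : Subgroup G) // u ≠ 1},
        {h : G // h ∈ Cg ((u : (P : Subgroup G)) : G) ∧ orderOf h = 2} => (s.2 : G)) e
      cases b <;> cases b' <;> simpa [f] using this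
    obtain rfl := Subtype.ext e1
    have e2 := congrArg (fun s : Σ u : {u : (P : Subgroup G) // u ≠ 1},
      {h : G // h ∈ Cg ((u : (P : Subgroup G)) : G) ∧ orderOf h = 2} => ((s.1 : (P : Subgroup G)) : G)) e
    cases b <;> cases b' <;> simp only [f, cond_true, cond_false] at e2
    · rfl
    · exact absurd (eq_one_of_self_inverse hG (hv h).1 e2.symm) (hv h).2.1
    · exact absurd (eq_one_of_self_inverse hG (hv h).1 e2) (hv h).2.1
    · rfl
  have := (Nat.card_le_card_of_injective f hf).trans hS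
  rw [Nat.card_prod, Nat.card_eq_fintype_card (α := Bool), Fintype.card_bool] at this
  omega

theorem card_invol_Ng_le {P : Sylow 3 G} :
    Nat.card {h : G // h ∈ Ng (P : Subgroup G) ∧ orderOf h = 2} ≤ 21 := by
  classical
  refine (Nat.card_le_card_of_injective
    (β := {h : G // h ∈ Ng (P : Subgroup G) ∧ ∀ e ∈ (P : Subgroup G), h * e * h⁻¹ = e⁻¹} ⊕
      {h : G // orderOf h = 2 ∧ ∃ u ∈ (P : Subgroup G), u ≠ 1 ∧ h ∈ Cg u})
    (fun h => if hc : ∀ e ∈ (P : Subgroup G), h.1 * e * h.1⁻¹ = e⁻¹ then Sum.inl ⟨h.1, h.2.1, hc⟩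
      else Sum.inr ⟨h.1, h.2.2, (invol_cases hG h.2.2 h.2.1).resolve_left hc⟩) ?_).trans ?_
  · intro a b e
    apply Subtype.ext
    have := congrArg (Sum.elim Subtype.val Subtype.val) e
    simpa [apply_dite] using this
  · rw [Nat.card_sum]
    exact Nat.add_le_add (card_inverters_le hG) (card_reflections_le hG)

theorem reflection_data {P : Sylow 3 G} {r u : G} (hr : orderOf r = 2) (hu : u ∈ (P : Subgroup G))
    (hu1 : u ≠ 1) (hru : r ∈ Cg u) :
    Nat.card (Cg r) = 48 ∧ Nat.card ↥(Cg r ⊓ Ng (P : Subgroup G)) = 12 ∧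
      fixCard (Sylow 3 G) r = 7 ∧
      ∀ h ∈ Ng (P : Subgroup G), orderOf h = 2 → IsConj r h := by
  classical
  obtain ⟨h3, h18, hle⟩ := elem_three hG hu hu1
  have hP := card_sylow3 hG P
  have hrN : r ∈ Ng (P : Subgroup G) := hle hru
  have hur : u ∈ Cg r := mem_Cg_comm.1 hru
  set X := Subgroup.zpowers u with hXdef
  set H := Cg r ⊓ Ng (P : Subgroup G) with hH
  have hHX : H ≤ Ng X := by
    rintro g ⟨hg1, hg2⟩
    refine mem_Ng_zpowers (fixed_of_reflection hG hr hu hu1 hru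
      ((Subgroup.mem_normalizer_iff.1 hg2 u).1 hu) ?_)
    have h := (mem_Cg_conj (g := g)).2 hru
    rwa [show g * r * g⁻¹ = r by rw [mem_Cg.1 hg1, mul_inv_cancel_right]] at h
  have hH36 : Nat.card H ∣ 36 := by
    have := Subgroup.card_dvd_of_le hHX
    rwa [hXdef, card_Ng_three hG h3, h18] at this
  have hno9 : ∀ K : Subgroup G, K ≤ Cg r → u ∈ K → ¬ 9 ∣ Nat.card K := by
    intro K hK huK h9
    obtain ⟨R, -, hR⟩ := exists_le_sylow_of_mem (a := 2) (k := 1) (x := u) (H := K)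
      (by rw [h3, pow_one]) huK h9 (fun T => by rw [card_sylow3 hG T]; norm_num)
    exact not_invol_mem hG hr (Cs3 hG R ▸ mem_Cs_of_le_Cg (hR.trans hK))
  have hH12 : 12 ≤ Nat.card H := by
    set D := (Cg r).subgroupOf (Ng (P : Subgroup G)) with hD
    have hidx : D.index ≤ 12 := by
      refine le_trans ?_ (card_reflections_le hG (P := P))
      rw [Subgroup.index_eq_card]
      refine Nat.card_le_card_of_injective (fun q => ⟨(q.out : G) * r * (q.out : G)⁻¹, ?_, ?_⟩) ?_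
      · rw [← hr]
        exact orderOf_injective (MulAut.conj (q.out : G)).toMonoidHom (MulAut.conj _).injective r
      · exact ⟨(q.out : G) * u * (q.out : G)⁻¹, (Subgroup.mem_normalizer_iff.1 q.out.2 u).1 hu,
          fun e => hu1 (conj_eq_one_iff.1 e), mem_Cg_conj.2 hru⟩
      · intro q q' e
        have e' : (q.out : G) * r * (q.out : G)⁻¹ = (q'.out : G) * r * (q'.out : G)⁻¹ := congrArg Subtype.val e
        rw [← q.out_eq', ← q'.out_eq']
        refine QuotientGroup.eq.2 (Subgroup.mem_subgroupOf.2 (mem_Cg.2 ?_))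
        show (q.out : G)⁻¹ * (q'.out : G) * r = r * ((q.out : G)⁻¹ * (q'.out : G))
        calc (q.out : G)⁻¹ * (q'.out : G) * r
            = (q.out : G)⁻¹ * ((q'.out : G) * r * (q'.out : G)⁻¹) * (q'.out : G) := by group
          _ = (q.out : G)⁻¹ * ((q.out : G) * r * (q.out : G)⁻¹) * (q'.out : G) := by rw [e']
          _ = _ := by group
    have h1 := D.index_mul_card
    have hDc : Nat.card D = Nat.card H := by
      rw [hD, ← Subgroup.inf_subgroupOf_right,
        Nat.card_congr (Subgroup.subgroupOfEquivOfLe inf_le_right).toEquiv]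
    rw [card_Ng3 hG P, hDc] at h1
    have := Nat.mul_le_mul_right (Nat.card H) hidx
    omega
  have h12 : Nat.card H = 12 := by
    have h9 := hno9 H inf_le_left ⟨hur, Subgroup.le_normalizer hu⟩
    have := Nat.le_of_dvd (by norm_num) hH36
    have hm : Nat.card H ∈ Nat.divisors 36 := Nat.mem_divisors.2 ⟨hH36, by norm_num⟩
    rw [show Nat.divisors 36 = {1, 2, 3, 4, 6, 9, 12, 18, 36} by decide] at hm
    simp only [Finset.mem_insert, Finset.mem_singleton] at hm
    rcases hm with e | e | e | e | e | e | e | e | e <;> first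
      | exact e
      | omega
      | exact absurd (by rw [e]; norm_num) h9
  -- Sylow 3-subgroups of the centraliser
  have hXle : X ≤ Cg r := Subgroup.zpowers_le.2 hur
  have hXS : IsPGroup 3 (X.subgroupOf (Cg r)) := IsPGroup.of_card (n := 1) (by
    rw [Nat.card_congr (Subgroup.subgroupOfEquivOfLe hXle).toEquiv, Nat.card_zpowers, h3, pow_one])
  have h9' := hno9 _ le_rfl hur
  have hXi : ¬ 3 ∣ (X.subgroupOf (Cg r)).index := by
    have h1 := (X.subgroupOf (Cg r)).index_mul_card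
    rw [Nat.card_congr (Subgroup.subgroupOfEquivOfLe hXle).toEquiv, Nat.card_zpowers, h3] at h1
    intro h
    apply h9'
    rw [← h1]
    obtain ⟨d, hd⟩ := h
    exact ⟨d, by rw [hd]; ring⟩
  have hk := Small.card_sylow_mul_card_normalizer (hXS.toSylow hXi)
  have hmod3 := Small.card_sylow_mod 3 (G := Cg r)
  have heqH : Cg r ⊓ Ng X = H :=
    le_antisymm (inf_le_inf_left _ (Ng_zpowers_le hG hu hu1)) (le_inf inf_le_left hHX)
  rw [show ((hXS.toSylow hXi) : Subgroup (Cg r)) = X.subgroupOf (Cg r) from rfl,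
    ← Subgroup.subgroupOf_normalizer_eq hXle, ← Subgroup.inf_subgroupOf_left (Ng X) (Cg r),
    Nat.card_congr (Subgroup.subgroupOfEquivOfLe inf_le_left).toEquiv, heqH, h12] at hk
  -- fixed points
  have hfree : ∀ Q : Sylow 3 G, u • Q = Q → Q = P := fun Q h => free3 hG hu hu1 h
  have hufix : fixCard (Sylow 3 G) r % 3 = 1 := by
    rw [fix_modEq_inter (mem_Cg.1 hru : Commute r u) (h3 ▸ pow_orderOf_eq_one u)]
    have : Nat.card {a : Sylow 3 G // r • a = a ∧ u • a = a} = 1 := by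
      rw [Nat.card_eq_one_iff_unique]
      exact ⟨⟨fun c d => Subtype.ext ((hfree _ c.2.2).trans (hfree _ d.2.2).symm)⟩,
        ⟨⟨P, smul_sylow_eq_iff.2 hrN, smul_sylow_eq_iff.2 (Subgroup.le_normalizer hu)⟩⟩⟩
    rw [this]
  haveI : Nontrivial (Sylow 3 G) := Finite.one_lt_card_iff_nontrivial.1 (by rw [card_sylow_three hG]; norm_num)
  have h4 := four_dvd_moved (X := Sylow 3 G) (nc hG) hr
  have hlef := fixCard_le (X := Sylow 3 G) r
  have hlt : fixCard (Sylow 3 G) r < 55 := by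
    by_contra hge
    exact invol_ne hr (eq_one_of_fixCard (X := Sylow 3 G) (by rw [card_sylow_three hG]; omega))
  rw [card_sylow_three hG] at h4 hlef
  have hf := fix_mul (X := Sylow 3 G) P r
  have hst : stabilizer G P = Ng (P : Subgroup G) := by ext g; exact smul_sylow_eq_iff
  rw [hst, card_Ng3 hG P, ← hk] at hf
  set F := {h : G // h ∈ Ng (P : Subgroup G) ∧ IsConj r h}
  have hF21 : Nat.card F ≤ 21 := by
    refine le_trans (Nat.card_le_card_of_injective
      (β := {h : G // h ∈ Ng (P : Subgroup G) ∧ orderOf h = 2}) (fun h => ⟨h.1, h.2.1, ?_⟩) ?_) (card_invol_Ng_le hG)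
    · obtain ⟨c, hc⟩ := isConj_iff.1 h.2.2
      rw [← hc, ← hr]
      exact orderOf_injective (MulAut.conj c).toMonoidHom (MulAut.conj c).injective r
    · intro a b e
      exact Subtype.ext (congrArg (fun z : {h : G // h ∈ Ng (P : Subgroup G) ∧ orderOf h = 2} => (z : G)) e)
  have hd := card_dvd hG (Cg r)
  have h11 := not_eleven_Cg hG (invol_ne hr) (by rw [hr]; norm_num)
  have hle7 := card_le hG (Cg_ne_top hG (invol_ne hr))
  rw [← hk] at hd h11 hle7 ⊢
  generalize Nat.card (Sylow 3 (Cg r)) = n at hk hd h11 hle7 hmod3 hf ⊢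
  have hn : n = 1 ∨ n = 4 ∨ n = 10 := by
    have hn60 : n ≤ 60 := by omega
    interval_cases n <;> first
      | omega
      | (exfalso; norm_num at hd; done)
      | (exfalso; norm_num at h11; done)
  have hf7 : 7 ≤ fixCard (Sylow 3 G) r := by
    generalize fixCard (Sylow 3 G) r = f at hufix h4 hlef hlt
    interval_cases f <;> omega
  have hres : n = 4 ∧ fixCard (Sylow 3 G) r = 7 ∧ Nat.card F = 21 := by
    generalize fixCard (Sylow 3 G) r = f at hufix h4 hlef hlt hf hf7 ⊢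
    rcases hn with rfl | rfl | rfl
    · omega
    · omega
    · exfalso
      interval_cases f <;> omega
  obtain ⟨rfl, hfix, hF⟩ := hres
  refine ⟨by norm_num, h12, hfix, fun h hh ho => ?_⟩
  let ι : F → {h : G // h ∈ Ng (P : Subgroup G) ∧ orderOf h = 2} := fun h => ⟨h.1, h.2.1, by
    obtain ⟨c, hc⟩ := isConj_iff.1 h.2.2
    rw [← hc, ← hr]
    exact orderOf_injective (MulAut.conj c).toMonoidHom (MulAut.conj c).injective r⟩
  have hι : Function.Injective ι := fun a b e =>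
    Subtype.ext (congrArg (fun z : {h : G // h ∈ Ng (P : Subgroup G) ∧ orderOf h = 2} => (z : G)) e)
  obtain ⟨⟨x, hx⟩, e⟩ := (hι.bijective_of_nat_card_le ((card_invol_Ng_le hG).trans hF.ge)).2 ⟨h, hh, ho⟩
  have e' : x = h := congrArg (fun z : {h : G // h ∈ Ng (P : Subgroup G) ∧ orderOf h = 2} => (z : G)) e
  exact e' ▸ hx.2

theorem exists_reflection_Cg {P : Sylow 3 G} {u : G} (hu : u ∈ (P : Subgroup G)) (hu1 : u ≠ 1) :
    ∃ r, orderOf r = 2 ∧ r ∈ Cg u := by
  haveI := Fact.mk Nat.prime_two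
  obtain ⟨⟨r, hru⟩, hr⟩ := exists_prime_orderOf_dvd_card' (G := Cg u) 2
    (by rw [(elem_three hG hu hu1).2.1]; norm_num)
  rw [← Subgroup.orderOf_coe] at hr
  exact ⟨r, hr, hru⟩

theorem exists_ne_one_sylow (P : Sylow 3 G) : ∃ u ∈ (P : Subgroup G), u ≠ 1 := by
  haveI : Nontrivial (P : Subgroup G) :=
    Finite.one_lt_card_iff_nontrivial.1 (by rw [card_sylow3 hG P]; norm_num)
  obtain ⟨u, hu⟩ := exists_ne (1 : (P : Subgroup G))
  exact ⟨u, u.2, fun e => hu (Subtype.ext e)⟩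

/-- All involutions normalising `P`. -/
theorem invol_data {P : Sylow 3 G} {t : G} (ht : orderOf t = 2) (htN : t ∈ Ng (P : Subgroup G)) :
    Nat.card (Cg t) = 48 ∧ fixCard (Sylow 3 G) t = 7 := by
  obtain ⟨u, hu, hu1⟩ := exists_ne_one_sylow hG P
  obtain ⟨r, hr, hru⟩ := exists_reflection_Cg hG hu hu1
  obtain ⟨h48, -, h7, hconj⟩ := reflection_data hG hr hu hu1 hru
  have hc := hconj t htN ht
  refine ⟨(card_Cg_of_isConj hc).trans h48, ?_⟩
  obtain ⟨c, hc'⟩ := isConj_iff.1 hc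
  rw [← hc', fixCard_conj]
  exact h7

theorem card_Cg_inverter {P : Sylow 3 G} {t : G} (htN : t ∈ Ng (P : Subgroup G))
    (ht : ∀ e ∈ (P : Subgroup G), t * e * t⁻¹ = e⁻¹) :
    Nat.card ↥(Cg t ⊓ Ng (P : Subgroup G)) = 16 := by
  set D := (Cg t).subgroupOf (Ng (P : Subgroup G)) with hD
  have hidx : D.index ≤ 9 := by
    refine le_trans ?_ (card_inverters_le hG (P := P))
    rw [Subgroup.index_eq_card]
    refine Nat.card_le_card_of_injective (fun q => ⟨(q.out : G) * t * (q.out : G)⁻¹,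
      mul_mem (mul_mem q.out.2 htN) (inv_mem q.out.2), fun e he => ?_⟩) ?_
    · have he' := (Subgroup.mem_normalizer_iff''.1 q.out.2 e).1 he
      calc (q.out : G) * t * (q.out : G)⁻¹ * e * ((q.out : G) * t * (q.out : G)⁻¹)⁻¹
          = (q.out : G) * (t * ((q.out : G)⁻¹ * e * q.out) * t⁻¹) * (q.out : G)⁻¹ := by group
        _ = e⁻¹ := by rw [ht _ he']; group
    · intro q q' e
      have e' : (q.out : G) * t * (q.out : G)⁻¹ = (q'.out : G) * t * (q'.out : G)⁻¹ := congrArg Subtype.val e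
      rw [← q.out_eq', ← q'.out_eq']
      refine QuotientGroup.eq.2 (Subgroup.mem_subgroupOf.2 (mem_Cg.2 ?_))
      show (q.out : G)⁻¹ * (q'.out : G) * t = t * ((q.out : G)⁻¹ * (q'.out : G))
      calc (q.out : G)⁻¹ * (q'.out : G) * t
          = (q.out : G)⁻¹ * ((q'.out : G) * t * (q'.out : G)⁻¹) * (q'.out : G) := by group
        _ = (q.out : G)⁻¹ * ((q.out : G) * t * (q.out : G)⁻¹) * (q'.out : G) := by rw [e']
        _ = _ := by group
  have h1 := D.index_mul_card
  rw [card_Ng3 hG P] at h1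
  have hDc : Nat.card D = Nat.card ↥(Cg t ⊓ Ng (P : Subgroup G)) := by
    rw [hD, ← Subgroup.inf_subgroupOf_right,
      Nat.card_congr (Subgroup.subgroupOfEquivOfLe inf_le_right).toEquiv]
  rw [hDc] at h1
  set H := Cg t ⊓ Ng (P : Subgroup G) with hH
  have hno3 : ¬ 3 ∣ Nat.card H := fun h => by
    obtain ⟨⟨x, hx'⟩, hx⟩ := exists_prime_orderOf_dvd_card' (G := H) 3 h
    rw [← Subgroup.orderOf_coe] at hx
    simp only at hx
    have hxP := mem_sylow_of_normalizes (k := 1) (by rw [hx, pow_one]) hx'.2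
    have hself : x = x⁻¹ := by
      have := ht x hxP
      rwa [← mem_Cg.1 hx'.1, mul_inv_cancel_right] at this
    rw [eq_one_of_self_inverse hG hxP hself, orderOf_one] at hx
    norm_num at hx
  have h144 : Nat.card H ∣ 9 * 16 := ⟨D.index, by rw [mul_comm _ D.index]; omega⟩
  have h16 : Nat.card H ∣ 16 := ((Nat.prime_three.coprime_iff_not_dvd.2 hno3).symm.pow_right 2).dvd_of_dvd_mul_left
    (by simpa using h144)
  have := Nat.le_of_dvd (by norm_num) h16
  have := Nat.mul_le_mul_right (Nat.card H) hidx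
  omega

end CfsgLib.MElevenUnique
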