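import Mathlib
import Cfsg.Agent.Small.FixedPoints
import Cfsg.Agent.Small.OrderTools
import Cfsg.Agent.Small.SylowInside

/-!
Generic tools for the uniqueness of the simple group of order 7920: fixed points of commuting elements,
the permutation-character formula, and the Sylow subgroups inside a subgroup.
-/

set_option autoImplicit false

open scoped Pointwise
open MulAction

namespace CfsgLib.MElevenUnique

variable {G : Type*} [Group G]

/-- The centraliser of an element. -/
abbrev Cg (x : G) : Subgroup G := Subgroup.centralizer {x}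
/-- The normaliser of a subgroup. -/
abbrev Ng (H : Subgroup G) : Subgroup G := Subgroup.normalizer (H : Set G)
/-- The centraliser of a subgroup. -/
abbrev Cs (H : Subgroup G) : Subgroup G := Subgroup.centralizer (H : Set G)

theorem mem_Cg {x g : G} : g ∈ Cg x ↔ g * x = x * g := Subgroup.mem_centralizer_singleton_iff

theorem mem_Cg_comm {x g : G} : g ∈ Cg x ↔ x ∈ Cg g := by rw [mem_Cg, mem_Cg, eq_comm]

theorem mem_Cs {H : Subgroup G} {g : G} : g ∈ Cs H ↔ ∀ h ∈ H, h * g = g * h :=
  Subgroup.mem_centralizer_iff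

theorem le_Cg_of_mem_Cs {H : Subgroup G} {g : G} (h : g ∈ Cs H) : H ≤ Cg g := fun a ha =>
  mem_Cg.2 (mem_Cs.1 h a ha)

theorem mem_Cs_of_le_Cg {H : Subgroup G} {g : G} (h : H ≤ Cg g) : g ∈ Cs H :=
  mem_Cs.2 fun a ha => mem_Cg.1 (h ha)

theorem Cs_le_Ng (H : Subgroup G) : Cs H ≤ Ng H := Subgroup.centralizer_le_normalizer _

theorem card_conj_smul {H : Subgroup G} (g : G) :
    Nat.card (H.map (MulAut.conj g).toMonoidHom : Subgroup G) = Nat.card H :=
  (Nat.card_congr (H.equivMapOfInjective _ (MulAut.conj g).injective).toEquiv).symm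

theorem mem_Cg_conj {x g h : G} : g * h * g⁻¹ ∈ Cg (g * x * g⁻¹) ↔ h ∈ Cg x := by
  rw [mem_Cg, mem_Cg, show g * h * g⁻¹ * (g * x * g⁻¹) = g * (h * x) * g⁻¹ by group,
    show g * x * g⁻¹ * (g * h * g⁻¹) = g * (x * h) * g⁻¹ by group]
  exact ⟨fun e => mul_left_cancel (mul_right_cancel e), fun e => by rw [e]⟩

theorem card_Cg_conj (x g : G) : Nat.card (Cg (g * x * g⁻¹)) = Nat.card (Cg x) := by
  refine Nat.card_congr (((MulAut.conj g).toEquiv.subtypeEquiv fun h => ?_).symm)
  exact (mem_Cg_conj (x := x) (g := g) (h := h)).symm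

theorem card_Cg_of_isConj {x y : G} (h : IsConj x y) : Nat.card (Cg y) = Nat.card (Cg x) := by
  obtain ⟨c, rfl⟩ := isConj_iff.1 h
  exact card_Cg_conj x c

theorem pow_smul_eq {X : Type*} [MulAction G X] {x : G} {a : X} (h : x • a = a) (n : ℕ) :
    x ^ n • a = a := (stabilizer G a).pow_mem (x := x) h n

section Action

variable {X : Type*} [MulAction G X] [Finite X]

/-- The number of fixed points. -/
noncomputable abbrev fixCard (X : Type*) [MulAction G X] (x : G) : ℕ := Nat.card (fixedBy X x)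

theorem fixCard_le (x : G) : fixCard X x ≤ Nat.card X :=
  Nat.card_le_card_of_injective Subtype.val Subtype.val_injective

theorem card_modEq_fix {p : ℕ} [Fact p.Prime] {y : G} (hy : y ^ p = 1) :
    Nat.card X % p = fixCard X y % p := by
  have hX : IsPGroup p (Subgroup.zpowers y) := fun z => by
    refine ⟨1, Subtype.ext ?_⟩
    obtain ⟨j, hj⟩ := z.2
    simp only [SubgroupClass.coe_pow, OneMemClass.coe_one, pow_one, ← hj]
    rw [← zpow_natCast, ← zpow_mul, mul_comm, zpow_mul, zpow_natCast, hy, one_zpow]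
  refine Eq.trans (hX.card_modEq_card_fixedPoints X) ?_
  congr 1
  refine Nat.card_congr (Equiv.subtypeEquivRight fun c => ⟨fun h => h ⟨y, Subgroup.mem_zpowers y⟩,
    fun h z => ?_⟩)
  obtain ⟨j, hj⟩ := z.2
  show (z : G) • c = c
  rw [← hj]
  exact (stabilizer G c).zpow_mem h j

theorem fix_modEq_inter {p : ℕ} [Fact p.Prime] {x y : G} (hc : Commute x y) (hy : y ^ p = 1) :
    fixCard X x % p = Nat.card {a : X // x • a = a ∧ y • a = a} % p := by
  let A : SubMulAction (Subgroup.zpowers y) X :=
    { carrier := fixedBy X x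
      smul_mem' := fun c q hq => by
        show x • (c : G) • q = (c : G) • q
        obtain ⟨j, hj⟩ := c.2
        rw [← hj, smul_smul, (hc.zpow_right j).eq, ← smul_smul]
        exact congrArg _ hq }
  have h := card_modEq_fix (X := A) (p := p) (y := (⟨y, Subgroup.mem_zpowers y⟩ : Subgroup.zpowers y))
    (Subtype.ext (by simpa using hy))
  refine Eq.trans h ?_
  congr 1
  exact Nat.card_congr
    { toFun := fun c => ⟨c.1.1, c.1.2, congrArg Subtype.val c.2⟩
      invFun := fun c => ⟨⟨c.1, c.2.1⟩, Subtype.ext c.2.2⟩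
      left_inv := fun _ => rfl
      right_inv := fun _ => rfl }

theorem inter_le_fix_left (x y : G) :
    Nat.card {a : X // x • a = a ∧ y • a = a} ≤ fixCard X x :=
  Nat.card_le_card_of_injective (fun a => (⟨a.1, a.2.1⟩ : fixedBy X x)) fun a b h =>
    Subtype.ext (congrArg (fun c : fixedBy X x => (c : X)) h)

theorem inter_le_fix_right (x y : G) :
    Nat.card {a : X // x • a = a ∧ y • a = a} ≤ fixCard X y :=
  Nat.card_le_card_of_injective (fun a => (⟨a.1, a.2.2⟩ : fixedBy X y)) fun a b h =>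
    Subtype.ext (congrArg (fun c : fixedBy X y => (c : X)) h)

theorem fixCard_pos {x : G} {a : X} (h : x • a = a) : 0 < fixCard X x :=
  haveI : Nonempty (fixedBy X x) := ⟨⟨a, h⟩⟩
  Nat.card_pos

theorem inter_pos {x y : G} {a : X} (h : x • a = a) (h' : y • a = a) :
    0 < Nat.card {a : X // x • a = a ∧ y • a = a} :=
  haveI : Nonempty {a : X // x • a = a ∧ y • a = a} := ⟨⟨a, h, h'⟩⟩
  Nat.card_pos

/-- The sum of the numbers of fixed points of a subgroup is divisible by its order. -/
theorem card_dvd_sum_fix [Finite G] (A : Subgroup G) [Fintype A] :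
    Nat.card A ∣ ∑ a : A, fixCard X (a : G) := by
  classical
  haveI := Fintype.ofFinite X
  haveI := Fintype.ofFinite (Quotient (orbitRel A X))
  have h := sum_card_fixedBy_eq_card_orbits_mul_card_group A X
  refine ⟨Fintype.card (Quotient (orbitRel A X)), ?_⟩
  rw [Nat.card_eq_fintype_card, mul_comm, ← h]
  refine Finset.sum_congr rfl fun a _ => ?_
  exact Nat.card_eq_fintype_card

/-- If every nontrivial element of `A` fixes exactly `c` points, `|A| ∣ |X| + (|A| - 1) c`. -/
theorem card_dvd_add_mul [Finite G] (A : Subgroup G) (c : ℕ)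
    (hc : ∀ a ∈ A, a ≠ 1 → fixCard X a = c) : Nat.card A ∣ Nat.card X + (Nat.card A - 1) * c := by
  classical
  haveI := Fintype.ofFinite A
  have h := card_dvd_sum_fix (X := X) A
  rwa [Fintype.sum_eq_add_sum_compl (1 : A), Finset.sum_congr rfl (g := fun _ => c) (fun (a : A) ha =>
      hc a a.2 fun e => (Finset.mem_compl.1 ha) (Finset.mem_singleton.2 (Subtype.ext e))),
    Finset.sum_const, Finset.card_compl, Finset.card_singleton, smul_eq_mul,
    ← Nat.card_eq_fintype_card, show fixCard X ((1 : A) : G) = Nat.card X by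
      simp only [fixCard, OneMemClass.coe_one, fixedBy_one_eq_univ]
      exact Nat.card_congr (Equiv.Set.univ X)] at h

/-- The permutation-character formula. -/
theorem fix_mul [Finite G] [IsPretransitive G X] (a : X) (t : G) :
    fixCard X t * Nat.card (stabilizer G a)
      = Nat.card {h : G // h ∈ stabilizer G a ∧ IsConj t h} * Nat.card (Cg t) := by
  rw [← Small.card_fixedBy_mul_card]
  congr 1
  have e : ∀ g : G, (g : G ⧸ stabilizer G a) = (g : G ⧸ stabilizer G a) := fun g => rfl
  let f : G ⧸ stabilizer G a → X := ofQuotientStabilizer G a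
  have hf : Function.Bijective f := ⟨injective_ofQuotientStabilizer G a, fun x => by
    obtain ⟨g, rfl⟩ := exists_smul_eq G a x
    exact ⟨g, ofQuotientStabilizer_mk G a g⟩⟩
  refine (Nat.card_congr ((Equiv.ofBijective f hf).subtypeEquiv fun c => ?_)).symm
  show t • c = c ↔ t • f c = f c
  induction c using QuotientGroup.induction_on with
  | _ g =>
    show ((t * g : G) : G ⧸ stabilizer G a) = g ↔ t • f g = f g
    rw [show f g = g • a from rfl, smul_smul]
    exact ⟨fun h => congrArg f h, fun h => hf.1 h⟩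

theorem smul_injective_hom [IsSimpleGroup G] [IsPretransitive G X] [Nontrivial X] :
    Function.Injective (toPermHom G X) := by
  rw [← MonoidHom.ker_eq_bot_iff]
  refine ((MonoidHom.normal_ker (toPermHom G X)).eq_bot_or_eq_top).resolve_right fun h => ?_
  obtain ⟨a, b, hab⟩ := exists_pair_ne X
  obtain ⟨g, hg⟩ := exists_smul_eq G a b
  have hg' : g ∈ (toPermHom G X).ker := h ▸ Subgroup.mem_top g
  exact hab (((congrArg (fun σ : Equiv.Perm X => σ a) hg').symm).trans hg)

theorem eq_one_of_fixCard [IsSimpleGroup G] [IsPretransitive G X] [Nontrivial X] {x : G}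
    (h : Nat.card X ≤ fixCard X x) : x = 1 := by
  refine smul_injective_hom (X := X) ((map_one (toPermHom G X)).symm ▸ Equiv.ext fun a => ?_)
  have hu : fixedBy X x = Set.univ := (Set.eq_univ_iff_ncard _).2 (by
    rw [← Nat.card_coe_set_eq]; exact le_antisymm (fixCard_le x) h)
  exact (Set.ext_iff.1 hu a).2 trivial

theorem four_dvd_moved [Finite G] [IsSimpleGroup G] [IsPretransitive G X] [Nontrivial X]
    (hG : ¬ IsMulCommutative G) {t : G} (ht : orderOf t = 2) : 4 ∣ Nat.card X - fixCard X t := by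
  classical
  haveI := Fintype.ofFinite X
  set σ := toPermHom G X t
  have hσ : orderOf σ = 2 := by rw [orderOf_injective _ smul_injective_hom, ht]
  have hsign := Small.sign_toPerm_eq_one hG (toPermHom G X) t
  rw [Small.sign_of_sq_eq_one hσ] at hsign
  have heven : Even (σ.support.card / 2) := by
    by_contra h
    rw [Nat.not_even_iff_odd] at h
    rw [h.neg_one_pow] at hsign
    exact absurd hsign (by decide)
  have h2 : 2 ∣ σ.support.card := by
    obtain ⟨n, hn⟩ := Equiv.Perm.cycleType_prime_order (σ := σ) (hσ ▸ Nat.prime_two)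
    rw [hσ] at hn
    exact ⟨n + 1, by rw [← Equiv.Perm.sum_cycleType, hn, Multiset.sum_replicate, smul_eq_mul, mul_comm]⟩
  have hcard : fixCard X t + σ.support.card = Nat.card X := by
    simp only [fixCard, Nat.card_eq_fintype_card]
    rw [← Finset.card_compl_add_card σ.support]
    congr 1
    rw [Fintype.card_of_subtype]
    intro a
    rw [Finset.mem_compl, Equiv.Perm.mem_support, not_not]
    rfl
  obtain ⟨r, hr⟩ := h2
  obtain ⟨s, hs⟩ := heven
  rw [hr, Nat.mul_div_cancel_left _ two_pos] at hs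
  exact ⟨s, by omega⟩

end Action

section Sylow

variable [Finite G] {p : ℕ} [Fact p.Prime]

theorem smul_sylow_eq_iff {Q : Sylow p G} {x : G} : x • Q = Q ↔ x ∈ Ng (Q : Subgroup G) :=
  Sylow.smul_eq_iff_mem_normalizer

theorem mem_sylow_of_normalizes {Q : Sylow p G} {x : G} {k : ℕ} (hx : orderOf x = p ^ k)
    (h : x ∈ Ng (Q : Subgroup G)) : x ∈ (Q : Subgroup G) :=
  ((IsPGroup.of_card (G := Subgroup.zpowers x) (n := k) (by rw [Nat.card_zpowers, hx])).inf_normalizer_sylow
    Q).le ⟨Subgroup.mem_zpowers _, h⟩ |>.2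

theorem exists_le_sylow_of_mem {H : Subgroup G} {x : G} {k a : ℕ} (hx : orderOf x = p ^ k)
    (hxH : x ∈ H) (hH : p ^ a ∣ Nat.card H) (hP : ∀ Q : Sylow p G, Nat.card (Q : Subgroup G) = p ^ a) :
    ∃ Q : Sylow p G, x ∈ (Q : Subgroup G) ∧ (Q : Subgroup G) ≤ H := by
  have h1 : IsPGroup p (Subgroup.zpowers (⟨x, hxH⟩ : H)) := IsPGroup.of_card (n := k) (by
    rw [Nat.card_zpowers, ← Subgroup.orderOf_coe, hx])
  obtain ⟨R, hR⟩ := h1.exists_le_sylow
  obtain ⟨Q, hQ⟩ := (R.2.map H.subtype).exists_le_sylow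
  have hle : p ^ a ≤ Nat.card (R : Subgroup H) := by
    rw [R.card_eq_multiplicity]
    exact Nat.pow_le_pow_right (Fact.out : p.Prime).pos
      (((Fact.out : p.Prime).pow_dvd_iff_le_factorization Nat.card_pos.ne').1 hH)
  have he := Subgroup.eq_of_le_of_card_ge hQ (by rw [hP, Subgroup.card_subtype]; exact hle)
  refine ⟨Q, ?_, he ▸ Subgroup.map_subtype_le _⟩
  rw [← he]
  exact ⟨⟨x, hxH⟩, hR (Subgroup.mem_zpowers _), rfl⟩

/-- A subgroup conjugates any two Sylow subgroups inside it. -/
theorem exists_smul_of_le {H : Subgroup G} {P Q : Sylow p G} (hP : (P : Subgroup G) ≤ H)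
    (hQ : (Q : Subgroup G) ≤ H) : ∃ h ∈ H, h • P = Q := by
  obtain ⟨h, hh⟩ := exists_smul_eq H (P.subtype hP) (Q.subtype hQ)
  refine ⟨h, h.2, Sylow.subtype_injective (hP := ?_) (hQ := hQ) ?_⟩
  · rw [Sylow.coe_subgroup_smul]
    intro z hz
    rw [Subgroup.mem_pointwise_smul_iff_inv_smul_mem, ← map_inv] at hz
    simp only [MulAut.smul_def, MulAut.conj_apply, inv_inv] at hz
    have := mul_mem (mul_mem h.2 (hP hz)) (inv_mem h.2)
    simpa [mul_assoc] using this
  · rw [← hh]
    exact (Sylow.smul_subtype hP h).symm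

/-- The number of Sylow subgroups inside `H`. -/
noncomputable abbrev inCard (p : ℕ) (H : Subgroup G) : ℕ :=
  Nat.card {Q : Sylow p G // (Q : Subgroup G) ≤ H}

theorem inCard_spec (P : Sylow p G) {H : Subgroup G} (hP : (P : Subgroup G) ≤ H) :
    inCard p H % p = 1 ∧ Nat.card H = inCard p H * Nat.card ↥(H ⊓ Ng (P : Subgroup G)) := by
  have he : inCard p H = Nat.card (Sylow p H) := by
    refine Nat.card_eq_of_bijective (fun Q => Q.1.subtype Q.2) ⟨fun a b h => ?_, fun R => ?_⟩
    · exact Subtype.ext (Sylow.subtype_injective h)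
    · obtain ⟨h, hh⟩ := exists_smul_eq H (P.subtype hP) R
      refine ⟨⟨(h : G) • P, ?_⟩, ?_⟩
      · rw [Sylow.coe_subgroup_smul]
        intro z hz
        rw [Subgroup.mem_pointwise_smul_iff_inv_smul_mem, ← map_inv] at hz
        simp only [MulAut.smul_def, MulAut.conj_apply, inv_inv] at hz
        have := mul_mem (mul_mem h.2 (hP hz)) (inv_mem h.2)
        simpa [mul_assoc] using this
      · rw [← hh]
        exact (Sylow.smul_subtype hP h).symm
  refine ⟨he ▸ Small.card_sylow_mod p, ?_⟩
  rw [he, ← Small.card_sylow_mul_card_normalizer (P.subtype hP)]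
  congr 1
  have e : Subgroup.normalizer (((P.subtype hP) : Subgroup H) : Set H)
      = (H ⊓ Ng (P : Subgroup G)).subgroupOf H := by
    rw [inf_comm, Subgroup.inf_subgroupOf_right]
    exact (Subgroup.subgroupOf_normalizer_eq hP).symm
  rw [e]
  exact Nat.card_congr (Subgroup.subgroupOfEquivOfLe inf_le_left).toEquiv

theorem eq_of_inCard_one {P Q : Sylow p G} {H : Subgroup G} (h : inCard p H = 1)
    (hP : (P : Subgroup G) ≤ H) (hQ : (Q : Subgroup G) ≤ H) : P = Q :=
  congrArg Subtype.val ((Nat.card_eq_one_iff_unique.1 h).1.elim ⟨P, hP⟩ ⟨Q, hQ⟩)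

end Sylow

end CfsgLib.MElevenUnique
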