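import Cfsg.Agent.MElevenUnique.Clique

/-!
Simple groups of order 7920 are isomorphic to each other and to the Mathieu group of degree eleven.
-/

set_option autoImplicit false

open scoped Pointwise Classical
open MulAction Cfsg

namespace CfsgLib.MElevenUnique

variable {G : Type*} [Group G] [Finite G]

/-- A simple group of order 7920 is the automorphism group of an S(4,5,11). -/
theorem exists_steiner (hs : IsSimpleGroup G) (hG : Nat.card G = 7920) :
    ∃ B : Set (Finset (Fin 11)), IsSteinerSystem 4 5 B ∧ Nonempty (G ≃* setSystemAut B) := by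
  haveI := Fact.mk Nat.prime_three
  obtain ⟨F⟩ := exists_frame (G := G) hG
  obtain ⟨d⟩ := exists_triangle hG F
  obtain ⟨K0, K1, K2, K3, hmap, hfix⟩ := sharp_data hG d
  have h11 := card_cliques hG d
  let e : d.cliques ≃ Fin 11 := (Finite.equivFinOfCardEq h11)
  let φ : G →* Equiv.Perm (Fin 11) := e.permCongrHom.toMonoidHom.comp (toPermHom G d.cliques)
  have hφ : ∀ (g : G) (K : d.cliques), φ g (e K) = e (g • K) := fun g K => by
    show e (g • e.symm (e K)) = _
    rw [e.symm_apply_apply]
  have hfix4 : ∀ g : G, ∀ a b c k : d.cliques, a ≠ b → a ≠ c → a ≠ k → b ≠ c → b ≠ k → c ≠ k →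
      g • a = a → g • b = b → g • c = c → g • k = k → g = 1 := by
    intro g a b c k h1 h2 h3 h4 h5 h6 ga gb gc gk
    obtain ⟨m, ha, hb, hc, hk⟩ := hmap a b c k h1 h2 h3 h4 h5 h6
    have := hfix (m * g * m⁻¹) ?_ ?_ ?_ ?_
    · exact conj_eq_one_iff.1 this
    all_goals first
      | (rw [← ha, mul_smul, mul_smul, inv_smul_smul, ga]; done)
      | (rw [← hb, mul_smul, mul_smul, inv_smul_smul, gb]; done)
      | (rw [← hc, mul_smul, mul_smul, inv_smul_smul, gc]; done)
      | (rw [← hk, mul_smul, mul_smul, inv_smul_smul, gk]; done)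
  have hne : ∀ (z : Fin 4 → Fin 11), Function.Injective z → ∀ i j, i ≠ j → e.symm (z i) ≠ e.symm (z j) :=
    fun z hz i j hij h => hij (hz (e.symm.injective h))
  have hinj : Function.Injective φ := by
    rw [injective_iff_map_eq_one]
    intro g hg
    have hall : ∀ K, g • K = K := fun K => e.injective (by rw [← hφ, hg]; rfl)
    have hz : Function.Injective (fun i : Fin 4 => (Fin.castLE (by norm_num) i : Fin 11)) :=
      Fin.castLE_injective _
    exact hfix4 g _ _ _ _ (hne _ hz 0 1 (by decide)) (hne _ hz 0 2 (by decide)) (hne _ hz 0 3 (by decide))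
      (hne _ hz 1 2 (by decide)) (hne _ hz 1 3 (by decide)) (hne _ hz 2 3 (by decide))
      (hall _) (hall _) (hall _) (hall _)
  have hsharp : Mathieu.Sharp.IsSharpOn φ.range Finset.univ 4 := by
    refine ⟨fun _ _ _ _ => Finset.mem_univ _, fun x y hx hy _ _ => ?_, ?_⟩
    · obtain ⟨g, g0, g1, g2, g3⟩ := hmap _ _ _ _ (hne x hx 0 1 (by decide)) (hne x hx 0 2 (by decide))
        (hne x hx 0 3 (by decide)) (hne x hx 1 2 (by decide)) (hne x hx 1 3 (by decide)) (hne x hx 2 3 (by decide))
      obtain ⟨k, k0, k1, k2, k3⟩ := hmap _ _ _ _ (hne y hy 0 1 (by decide)) (hne y hy 0 2 (by decide))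
        (hne y hy 0 3 (by decide)) (hne y hy 1 2 (by decide)) (hne y hy 1 3 (by decide)) (hne y hy 2 3 (by decide))
      refine ⟨φ (k⁻¹ * g), ⟨_, rfl⟩, fun i => ?_⟩
      have h := hφ (k⁻¹ * g) (e.symm (x i))
      rw [e.apply_symm_apply] at h
      rw [h, Equiv.apply_eq_iff_eq_symm_apply, mul_smul, inv_smul_eq_iff]
      fin_cases i
      · exact g0.trans k0.symm
      · exact g1.trans k1.symm
      · exact g2.trans k2.symm
      · exact g3.trans k3.symm
    · rintro _ ⟨g, rfl⟩ x hx - hfx
      have hg : ∀ i, g • e.symm (x i) = e.symm (x i) := fun i => e.injective (by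
        rw [← hφ, e.apply_symm_apply]; exact hfx i)
      rw [hfix4 g _ _ _ _ (hne x hx 0 1 (by decide)) (hne x hx 0 2 (by decide))
        (hne x hx 0 3 (by decide)) (hne x hx 1 2 (by decide)) (hne x hx 1 3 (by decide))
        (hne x hx 2 3 (by decide)) (hg 0) (hg 1) (hg 2) (hg 3), map_one]
  -- the Steiner system of centres
  set C := Mathieu.Sharp.Centre φ.range (Finset.univ : Finset (Fin 11))
  have hS : (Finset.univ : Finset (Fin 11)).card = 11 := by simp
  set B : Set (Finset (Fin 11)) := {b | ∃ s z, s.card = 4 ∧ C s z ∧ b = insert z s}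
  have hB : IsSteinerSystem 4 5 B := Mathieu.Sharp.isSteinerSystem_of_exchange C
    (fun s hs => Mathieu.Sharp.exists_unique_centre hsharp hS (Finset.subset_univ _) hs)
    (fun s z hz => hz.2.1)
    (fun s y z hs hy hz => Mathieu.Sharp.centre_exchange hsharp hS (Finset.subset_univ _) hs hy hz)
  have hle : φ.range ≤ setSystemAut B := fun g hg => by
    refine Mathieu.mem_setSystemAut_of_image ?_
    rintro _ ⟨s, z, hsc, hz, rfl⟩
    exact ⟨s.image g, g z, by rw [Finset.card_image_of_injective _ g.injective, hsc],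
      Mathieu.Sharp.Centre.map g (fun t ht => mul_mem (mul_mem (inv_mem hg) ht) hg)
        (fun x _ => Finset.mem_univ _) hz, Finset.image_insert _ _ _⟩
  have haut := (Mathieu.S11.aut11 (by simp) hB).1
  have hcard : Nat.card φ.range = 7920 := by
    rw [← Nat.card_congr (MonoidHom.ofInjective hinj).toEquiv, hG]
  exact ⟨B, hB, ⟨(MonoidHom.ofInjective hinj).trans (MulEquiv.subgroupCongr
    (Subgroup.eq_of_le_of_card_ge hle (by rw [hcard, haut.2])))⟩⟩

/-- Simple groups of order 7920 are isomorphic. -/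
theorem nonempty_mulEquiv {H : Type*} [Group H] [Finite H] (hs : IsSimpleGroup G) (hG : Nat.card G = 7920)
    (hs' : IsSimpleGroup H) (hH : Nat.card H = 7920) : Nonempty (G ≃* H) := by
  obtain ⟨B, hB, ⟨f⟩⟩ := exists_steiner hs hG
  obtain ⟨B', hB', ⟨f'⟩⟩ := exists_steiner hs' hH
  obtain ⟨e, he⟩ := Mathieu.S11.unique11 (B := B) (by simp) hB (by simp) hB'
  exact ⟨(f.trans (Mathieu.setSystemAutCongr e he)).trans f'.symm⟩

theorem nonempty_mulEquiv_SporM11 (hs : IsSimpleGroup G) (hG : Nat.card G = 7920) :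
    Nonempty (G ≃* ↥Spor.M11) :=
  nonempty_mulEquiv hs hG Mathieu.simple_SporM11 Mathieu.card_SporM11

end CfsgLib.MElevenUnique
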