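import Cfsg.Agent.MElevenUnique.Tools

/-!
Automorphism groups of order prime to three of an abelian group of order nine.
-/

set_option autoImplicit false

namespace CfsgLib.MElevenUnique

variable {A : Type*} [CommGroup A] [Finite A]

theorem eq_of_card_three {B : Subgroup A} (hB : Nat.card B = 3) {b x : A} (hb : b ∈ B) (hb1 : b ≠ 1)
    (hx : x ∈ B) : x = 1 ∨ x = b ∨ x = b⁻¹ := by
  haveI := Fact.mk Nat.prime_three
  have hz := Small.eq_zpowers_of_mem_prime hB hb hb1
  have ho := Small.orderOf_eq_of_mem_prime hB hb hb1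
  rw [← hz] at hx
  obtain ⟨k, rfl⟩ := hx
  have h3 : b ^ (3 : ℤ) = 1 := by
    have := pow_orderOf_eq_one b
    rw [ho] at this
    exact_mod_cast this
  have hk : b ^ k = b ^ (k % 3) := by
    conv_lhs => rw [← Int.mul_ediv_add_emod k 3, zpow_add, zpow_mul, h3, one_zpow, one_mul]
  show b ^ k = 1 ∨ b ^ k = b ∨ b ^ k = b⁻¹
  rw [hk]
  have h0 := Int.emod_nonneg k (show (3 : ℤ) ≠ 0 by norm_num)
  have h1 := Int.emod_lt_of_pos k (show (0 : ℤ) < 3 by norm_num)
  rcases (show k % 3 = 0 ∨ k % 3 = 1 ∨ k % 3 = 2 by omega) with e | e | e <;> rw [e]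
  · exact Or.inl (zpow_zero b)
  · exact Or.inr (Or.inl (zpow_one b))
  · refine Or.inr (Or.inr (eq_inv_of_mul_eq_one_left ?_))
    rw [← zpow_add_one]
    exact h3

theorem card_sub_nine (hA : Nat.card A = 9) {B : Subgroup A} (h1 : B ≠ ⊥) (h2 : B ≠ ⊤) :
    Nat.card B = 3 := by
  have h : Nat.card B ∈ Nat.divisors 9 :=
    Nat.mem_divisors.2 ⟨hA ▸ Subgroup.card_subgroup_dvd_card B, by norm_num⟩
  rw [show Nat.divisors 9 = {1, 3, 9} by decide] at h
  simp only [Finset.mem_insert, Finset.mem_singleton] at h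
  rcases h with h | h | h
  · exact absurd (Subgroup.card_eq_one.1 h) h1
  · exact h
  · exact absurd (Subgroup.eq_top_of_card_eq B (h.trans hA.symm)) h2

theorem eq_top_of_mem_not_mem (hA : Nat.card A = 9) {B E : Subgroup A} (hB : Nat.card B = 3)
    (hBE : B ≤ E) {a : A} (haE : a ∈ E) (haB : a ∉ B) : E = ⊤ := by
  by_contra h
  have h1 : E ≠ ⊥ := fun e => haB (by rw [e, Subgroup.mem_bot] at haE; exact haE ▸ B.one_mem)
  have := card_sub_nine hA h1 h
  exact haB (Subgroup.eq_of_le_of_card_ge hBE (by omega) ▸ haE)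

theorem eq_one_of_sq_nine (hA : Nat.card A = 9) {a : A} (h : a * a = 1) : a = 1 := by
  have h2 : orderOf a ∣ 2 := orderOf_dvd_of_pow_eq_one (by rw [pow_two]; exact h)
  have h9 : orderOf a ∣ 9 := hA ▸ orderOf_dvd_natCard a
  exact orderOf_eq_one_iff.1 (Nat.eq_one_of_dvd_coprimes (by norm_num) h2 h9)

variable {W : Subgroup (MulAut A)}

theorem isPGroup_two_aut (hA : Nat.card A = 9) (hW : ¬ 3 ∣ Nat.card W) : IsPGroup 2 W := by
  refine IsPGroup.of_card (n := (Nat.card W).primeFactorsList.length) ?_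
  refine Nat.eq_prime_pow_of_unique_prime_dvd Nat.card_pos.ne' ?_
  intro q hq hqW
  by_contra hq2
  haveI := Fact.mk hq
  obtain ⟨w, hw⟩ := exists_prime_orderOf_dvd_card' (G := W) q hqW
  rw [← Subgroup.orderOf_coe] at hw
  have hmod := card_modEq_fix (X := A) (y := (w : MulAut A)) (p := q) (by rw [← hw]; exact pow_orderOf_eq_one _)
  let E := MonoidHom.eqLocus (w : MulAut A).toMonoidHom (MonoidHom.id A)
  have hE : fixCard A (w : MulAut A) = Nat.card E := Nat.card_congr (Equiv.subtypeEquivRight fun a => Iff.rfl)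
  have hne : E ≠ ⊤ := fun h => by
    have hw1 : (w : MulAut A) = 1 := MulEquiv.ext fun a => (h ▸ Subgroup.mem_top a : a ∈ E)
    rw [hw1, orderOf_one] at hw
    exact hq.ne_one hw.symm
  rw [hE, hA] at hmod
  have hq3 : q ≠ 3 := fun e => hW (e ▸ hqW)
  have hq5 : 4 ≤ q := by have := hq.two_le; omega
  have hd : q ∣ 8 ∨ q ∣ 6 := by
    by_cases hb : E = ⊥
    · rw [hb, Subgroup.card_bot] at hmod
      exact Or.inl ((Nat.modEq_iff_dvd' (by norm_num : 1 ≤ 9)).1 hmod.symm)
    · rw [card_sub_nine hA hb hne] at hmod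
      exact Or.inr ((Nat.modEq_iff_dvd' (by norm_num : 3 ≤ 9)).1 hmod.symm)
  rcases hd with h | h
  · have := (Nat.prime_dvd_prime_iff_eq hq Nat.prime_two).1
      (hq.dvd_of_dvd_pow (show q ∣ 2 ^ 3 from h))
    omega
  · rcases (Nat.Prime.dvd_mul hq).1 (show q ∣ 2 * 3 from h) with h | h
    · have := Nat.le_of_dvd (by norm_num) h
      omega
    · have := Nat.le_of_dvd (by norm_num) h
      omega

/-- A fixed-point-free such group inverts everything by one of its elements. -/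
theorem exists_inverting_aut (hA : Nat.card A = 9) (hW : ¬ 3 ∣ Nat.card W)
    (hfix : ∀ a : A, (∀ w ∈ W, w a = a) → a = 1) : ∃ w ∈ W, ∀ a, w a = a⁻¹ := by
  haveI := Fact.mk Nat.prime_two
  have hne : W ≠ ⊥ := fun e => by
    haveI : Nontrivial A := Finite.one_lt_card_iff_nontrivial.1 (by omega)
    obtain ⟨a, ha⟩ := exists_ne (1 : A)
    exact ha (hfix a fun w hw => by rw [e, Subgroup.mem_bot] at hw; rw [hw]; rfl)
  haveI : Nontrivial W := (Subgroup.nontrivial_iff_ne_bot W).2 hne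
  have h2 := isPGroup_two_aut hA hW
  haveI := h2.center_nontrivial
  obtain ⟨n, hn, hcard⟩ := (h2.to_subgroup (Subgroup.center W)).nontrivial_iff_card.1 inferInstance
  obtain ⟨z, hz⟩ := exists_prime_orderOf_dvd_card' (G := Subgroup.center W) 2 (hcard ▸ dvd_pow_self 2 hn.ne')
  rw [← Subgroup.orderOf_coe, ← Subgroup.orderOf_coe] at hz
  set σ : MulAut A := ((z : W) : MulAut A) with hσ
  have hσW : σ ∈ W := (z : W).2
  have hσ2 : ∀ a, σ (σ a) = a := fun a => by
    have := congrArg (fun f : MulAut A => f a) (hz ▸ pow_orderOf_eq_one σ)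
    simpa [pow_two] using this
  have hcomm : ∀ τ ∈ W, ∀ a, σ (τ a) = τ (σ a) := fun τ hτ a => by
    have h := congrArg Subtype.val (Subgroup.mem_center_iff.1 z.2 ⟨τ, hτ⟩)
    exact (congrArg (fun f : MulAut A => f a) h).symm
  let A0 := MonoidHom.eqLocus σ.toMonoidHom (MonoidHom.id A)
  have hA0 : ∀ a, a ∈ A0 ↔ σ a = a := fun a => Iff.rfl
  have htop : A0 ≠ ⊤ := fun e => by
    have hs1 : σ = 1 := MulEquiv.ext fun a => (hA0 a).1 (e ▸ Subgroup.mem_top a)
    rw [hs1, orderOf_one] at hz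
    norm_num at hz
  by_cases hbot : A0 = ⊥
  · refine ⟨σ, hσW, fun a => eq_inv_of_mul_eq_one_left ?_⟩
    have hm : σ a * a ∈ A0 := (hA0 _).2 (by rw [map_mul, hσ2, mul_comm])
    rwa [hbot, Subgroup.mem_bot] at hm
  have c0 := card_sub_nine hA hbot htop
  obtain ⟨a, ha, ha1⟩ := (Subgroup.ne_bot_iff_exists_ne_one.1 hbot).elim fun a ha =>
    (⟨a.1, a.2, fun e => ha (Subtype.ext e)⟩ : ∃ a, a ∈ A0 ∧ a ≠ 1)
  obtain ⟨τ, hτ, hτa⟩ : ∃ τ ∈ W, τ a ≠ a := by
    by_contra h
    push Not at h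
    exact ha1 (hfix a h)
  have hτa' : τ a = a⁻¹ := by
    rcases eq_of_card_three c0 ha ha1 ((hA0 (τ a)).2 (by rw [hcomm τ hτ, (hA0 a).1 ha])) with e | e | e
    · exact absurd (τ.map_eq_one_iff.1 e) ha1
    · exact absurd e hτa
    · exact e
  obtain ⟨v, hv⟩ : ∃ v, v ∉ A0 := by
    by_contra h
    push Not at h
    exact htop (eq_top_iff.2 fun x _ => h x)
  let B0 := MonoidHom.eqLocus σ.toMonoidHom invMonoidHom
  have hB0 : ∀ b, b ∈ B0 ↔ σ b = b⁻¹ := fun b => Iff.rfl
  set b := v⁻¹ * σ v with hbdef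
  have hb : b ∈ B0 := (hB0 b).2 (by rw [hbdef, map_mul, map_inv, hσ2, mul_inv_rev, inv_inv])
  have hb1 : b ≠ 1 := fun e => hv ((hA0 v).2 (inv_mul_eq_one.1 (hbdef ▸ e)).symm)
  have hbA : b ∉ A0 := fun e => hb1 (eq_one_of_sq_nine hA (by
    nth_rewrite 2 [← (hA0 b).1 e]
    rw [(hB0 b).1 hb, mul_inv_cancel]))
  have hBtop : B0 ≠ ⊤ := fun e => ha1 (eq_one_of_sq_nine hA (by
    nth_rewrite 2 [← (hA0 a).1 ha]
    rw [(hB0 a).1 (e ▸ Subgroup.mem_top a), mul_inv_cancel]))
  have cB := card_sub_nine hA (fun e => hb1 (Subgroup.mem_bot.1 (e ▸ hb))) hBtop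
  have key : ∀ μ : MulAut A, μ a = a⁻¹ → μ b = b⁻¹ → ∀ x, μ x = x⁻¹ := fun μ h1 h2 x => by
    let E := MonoidHom.eqLocus μ.toMonoidHom invMonoidHom
    have hle : A0 ≤ E := fun y hy => by
      rcases eq_of_card_three c0 ha ha1 hy with e | e | e <;> rw [e]
      · exact E.one_mem
      · exact h1
      · exact E.inv_mem h1
    exact (eq_top_of_mem_not_mem hA c0 hle (show b ∈ E from h2) hbA ▸ Subgroup.mem_top x : x ∈ E)
  rcases eq_of_card_three cB hb hb1 ((hB0 (τ b)).2 (by rw [hcomm τ hτ, (hB0 b).1 hb, map_inv])) with e | e | e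
  · exact absurd (τ.map_eq_one_iff.1 e) hb1
  · refine ⟨τ * σ, mul_mem hτ hσW, key _ ?_ ?_⟩
    · show τ (σ a) = a⁻¹
      rw [(hA0 a).1 ha, hτa']
    · show τ (σ b) = b⁻¹
      rw [(hB0 b).1 hb, map_inv, e]
  · exact ⟨τ, hτ, key τ hτa' e⟩

/-- The stabiliser of a nontrivial element has at most two elements. -/
theorem card_stab_aut_le_two (hA : Nat.card A = 9) (hW : ¬ 3 ∣ Nat.card W) {u : A} (hu : u ≠ 1) :
    Nat.card {w : W // (w : MulAut A) u = u} ≤ 2 := by
  classical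
  set U := Subgroup.zpowers u with hU
  have hfixU : ∀ w : MulAut A, w u = u → ∀ c ∈ U, w c = c := fun w hw c hc => by
    obtain ⟨k, rfl⟩ := hc
    show w (u ^ k) = u ^ k
    rw [map_zpow, hw]
  by_cases hT : U = ⊤
  · haveI : Subsingleton {w : W // (w : MulAut A) u = u} := ⟨fun w w' => Subtype.ext (Subtype.ext
      (MulEquiv.ext fun x => by
        rw [hfixU _ w.2 x (hT ▸ Subgroup.mem_top x), hfixU _ w'.2 x (hT ▸ Subgroup.mem_top x)]))⟩
    exact (Finite.card_le_one_iff_subsingleton.2 inferInstance).trans one_le_two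
  have cU := card_sub_nine hA (Subgroup.zpowers_ne_bot.2 hu) hT
  obtain ⟨a, ha⟩ : ∃ a, a ∉ U := by
    by_contra h
    push Not at h
    exact hT (eq_top_iff.2 fun x _ => h x)
  have key : ∀ w ∈ W, w u = u → a⁻¹ * w a ∈ U → w = 1 := by
    intro w hwW hwu hc
    set c := a⁻¹ * w a with hcdef
    have hpow : ∀ k : ℕ, (w ^ k) a = a * c ^ k := fun k => by
      induction k with
      | zero => simp
      | succ k ih =>
        rw [pow_succ', MulAut.mul_apply, ih, map_mul, map_pow, hfixU w hwu c hc, pow_succ', ← mul_assoc]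
        rw [hcdef, mul_inv_cancel_left]
    have h3 : c ^ 3 = 1 := by
      have := pow_card_eq_one' (x := (⟨c, hc⟩ : U))
      rw [cU] at this
      exact congrArg Subtype.val this
    have hcW : c ^ Nat.card W = 1 := by
      have h1 := hpow (Nat.card W)
      have h2 : w ^ Nat.card W = 1 := congrArg Subtype.val (pow_card_eq_one' (x := (⟨w, hwW⟩ : W)))
      rw [h2] at h1
      exact (left_eq_mul.1 h1)
    have hcop : Nat.Coprime 3 (Nat.card W) := (Nat.prime_three.coprime_iff_not_dvd).2 hW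
    have hc1 : c = 1 := orderOf_eq_one_iff.1 (Nat.eq_one_of_dvd_coprimes hcop
      (orderOf_dvd_of_pow_eq_one h3) (orderOf_dvd_of_pow_eq_one hcW))
    refine MulEquiv.ext fun x => ?_
    have hwa : w a = a := by rw [← mul_one a]; nth_rewrite 2 [← hc1]; rw [hcdef, mul_inv_cancel_left, mul_one]
    exact (eq_top_of_mem_not_mem hA (E := MonoidHom.eqLocus w.toMonoidHom (MonoidHom.id A)) cU
      (fun c hc => hfixU w hwu c hc) (show a ∈ _ from hwa) ha ▸ Subgroup.mem_top x :
        x ∈ MonoidHom.eqLocus w.toMonoidHom (MonoidHom.id A))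
  have hq : Nat.card (A ⧸ U) = 3 := by
    have := U.index_mul_card
    rw [cU, hA] at this
    rw [← Subgroup.index_eq_card]; omega
  have hinv : ∀ w : MulAut A, w u = u → a⁻¹ * w a ∉ U → a * w a ∈ U := by
    intro w hw hn
    have ha1 : (a : A ⧸ U) ≠ 1 := fun e => ha ((QuotientGroup.eq_one_iff a).1 e)
    have hwa : ((w a : A) : A ⧸ U) ≠ 1 := fun e => by
      have hm := (QuotientGroup.eq_one_iff (w a)).1 e
      exact ha ((w.injective (hfixU w hw _ hm)) ▸ hm)
    rcases eq_of_card_three (A := A ⧸ U) (B := ⊤) (by rw [Subgroup.card_top, hq]) (Subgroup.mem_top _) ha1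
      (Subgroup.mem_top ((w a : A) : A ⧸ U)) with e | e | e
    · exact absurd e hwa
    · exact absurd (QuotientGroup.eq.1 e.symm) hn
    · rw [← QuotientGroup.mk_inv] at e
      have := QuotientGroup.eq.1 e.symm
      rwa [inv_inv] at this
  let f : {w : W // (w : MulAut A) u = u} → Bool := fun w => decide (a⁻¹ * (w.1 : MulAut A) a ∈ U)
  refine (Nat.card_le_card_of_injective f ?_).trans (by simp)
  intro w w' e
  simp only [f, decide_eq_decide] at e
  by_cases h : a⁻¹ * (w.1 : MulAut A) a ∈ U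
  · exact Subtype.ext (Subtype.ext ((key _ w.1.2 w.2 h).trans (key _ w'.1.2 w'.2 (e.1 h)).symm))
  have h1 := hinv _ w.2 h
  have h2 := hinv _ w'.2 (fun h' => h (e.2 h'))
  set ν : MulAut A := (w'.1 : MulAut A)⁻¹ * (w.1 : MulAut A) with hν
  have hν1 : (w'.1 : MulAut A)⁻¹ u = u := by
    exact (MulEquiv.symm_apply_eq (w'.1 : MulAut A)).2 w'.2.symm
  have hmem : a⁻¹ * ν a ∈ U := by
    have hd : ((w'.1 : MulAut A) a)⁻¹ * (w.1 : MulAut A) a ∈ U := by
      have := mul_mem (inv_mem h2) h1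
      rwa [mul_inv_rev, mul_assoc, inv_mul_cancel_left] at this
    have e1 := hfixU _ hν1 _ hd
    rw [map_mul, map_inv, show ((w'.1 : MulAut A))⁻¹ ((w'.1 : MulAut A) a) = a from MulEquiv.symm_apply_apply _ _] at e1
    rw [hν, MulAut.mul_apply, e1]
    exact hd
  have := key ν (mul_mem (inv_mem w'.1.2) w.1.2) (by rw [hν, MulAut.mul_apply, w.2, hν1]) hmem
  exact Subtype.ext (Subtype.ext (inv_mul_eq_one.1 this).symm)

end CfsgLib.MElevenUnique
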