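import Cfsg.Agent.MElevenUnique.Graph
import Cfsg.Agent.Mathieu.SharpSteiner

/-!
A simple group of order 7920 acts sharply four-fold transitively on eleven cliques.
-/

set_option autoImplicit false

open scoped Pointwise Classical
open MulAction Cfsg

namespace CfsgLib.MElevenUnique

variable {G : Type*} [Group G]

/-- Ten pairwise adjacent points. -/
def Triangle.IsClique {F : Frame G} (d : Triangle F) (K : Set (Sylow 3 G)) : Prop :=
  K.ncard = 10 ∧ ∀ x ∈ K, ∀ y ∈ K, x ≠ y → d.Adj x y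

/-- The clique through `P` and `b`. -/
def Triangle.base {F : Frame G} (d : Triangle F) : Set (Sylow 3 G) :=
  insert F.P ((fun e => e • d.b) '' ((F.P : Subgroup G) : Set G))

theorem isClique_smul {F : Frame G} (d : Triangle F) (g : G) {K : Set (Sylow 3 G)} (h : d.IsClique K) :
    d.IsClique (g • K) := by
  refine ⟨by rw [Set.ncard_smul_set]; exact h.1, ?_⟩
  rintro _ ⟨x, hx, rfl⟩ _ ⟨y, hy, rfl⟩ hne
  exact adj_smul d g (h.2 x hx y hy fun e => hne (e ▸ rfl))

/-- The cliques, acted on by `G`. -/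
def Triangle.cliques {F : Frame G} (d : Triangle F) : SubMulAction G (Set (Sylow 3 G)) where
  carrier := {K | d.IsClique K}
  smul_mem' g _ hK := isClique_smul d g hK

theorem base_P {F : Frame G} (d : Triangle F) : F.P ∈ d.base := Set.mem_insert _ _

theorem base_e {F : Frame G} (d : Triangle F) {e : G} (he : e ∈ (F.P : Subgroup G)) : e • d.b ∈ d.base :=
  Set.mem_insert_of_mem _ ⟨e, he, rfl⟩

theorem base_b {F : Frame G} (d : Triangle F) : d.b ∈ d.base := by
  simpa using base_e d (one_mem (F.P : Subgroup G))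

variable [Finite G] [IsSimpleGroup G] [Fact (Nat.Prime 3)] (hG : Nat.card G = 7920) {F : Frame G} (d : Triangle F)
include hG

theorem adj_two {e e' : G} (he : e ∈ (F.P : Subgroup G)) (he' : e' ∈ (F.P : Subgroup G)) (hne : e ≠ e') :
    d.Adj (e • d.b) (e' • d.b) ∧ ¬ d.Adj (e • d.b) (e' • d.c) := by
  have h1 : e⁻¹ * e' ≠ 1 := fun h => hne (inv_mul_eq_one.1 h)
  obtain ⟨ha, hb⟩ := adj_b_dichotomy hG d
  have hm := mul_mem (inv_mem he) he'
  refine ⟨?_, ?_⟩
  · rw [← adj_smul_iff d e⁻¹, inv_smul_smul, smul_smul]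
    exact ha _ hm h1
  · rw [← adj_smul_iff d e⁻¹, inv_smul_smul, smul_smul]
    exact hb _ hm h1

theorem base_clique : d.IsClique d.base := by
  refine ⟨?_, ?_⟩
  · rw [Triangle.base, Set.ncard_insert_of_notMem ?_ (Set.toFinite _), Set.InjOn.ncard_image ?_]
    · show Nat.card (F.P : Subgroup G) + 1 = 10
      rw [card_sylow3 hG F.P]
    · exact fun e he e' he' h => smul_b_inj hG d he he' h
    · rintro ⟨e, he, h⟩
      exact d.bP (MulAction.injective e ((h : e • d.b = F.P).trans (e_smul_P hG he).symm))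
  · rintro x hx y hy hne
    rcases hx with rfl | ⟨e, he, rfl⟩ <;> rcases hy with rfl | ⟨e', he', rfl⟩
    · exact absurd rfl hne
    · exact (adj_P_iff hG d).2 ⟨e', he', Or.inl rfl⟩
    · exact adj_symm d ((adj_P_iff hG d).2 ⟨e, he, Or.inl rfl⟩)
    · exact (adj_two hG d he he' fun h => hne (h ▸ rfl)).1

theorem clique_eq_base {K : Set (Sylow 3 G)} (hK : d.IsClique K) (hP : F.P ∈ K) (hb : d.b ∈ K) :
    K = d.base := by
  have hopt : ∀ x ∈ K, x = d.c ∨ x ∈ d.base := by
    intro x hx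
    by_cases hxP : x = F.P
    · exact Or.inr (hxP ▸ base_P d)
    by_cases hxb : x = d.b
    · exact Or.inr (hxb ▸ base_b d)
    obtain ⟨e, he, rfl | rfl⟩ := (adj_P_iff hG d).1 (hK.2 _ hP x hx (fun h => hxP h.symm))
    · exact Or.inr (base_e d he)
    · by_cases he1 : e = 1
      · exact Or.inl (by rw [he1, one_smul])
      · exact absurd (hK.2 _ hb _ hx fun h => hxb h.symm) ((adj_b_dichotomy hG d).2 e he he1)
  by_cases hc : d.c ∈ K
  · exfalso
    have hsub : K ⊆ {F.P, d.b, d.c} := by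
      intro x hx
      rcases hopt x hx with h | h | ⟨e, he, rfl⟩
      · simp [h]
      · simp [h]
      · by_cases he1 : e = 1
        · simp [he1]
        · refine absurd ?_ (adj_two hG d he (one_mem _) he1).2
          rw [one_smul]
          exact hK.2 _ hx _ hc (by simpa using smul_bc_ne hG d he (one_mem _))
    have h1 := Set.ncard_le_ncard hsub (Set.toFinite _)
    have h2 : ({F.P, d.b, d.c} : Set (Sylow 3 G)).ncard ≤ 3 := by
      refine (Set.ncard_insert_le _ _).trans (Nat.succ_le_succ ((Set.ncard_insert_le _ _).trans ?_))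
      rw [Set.ncard_singleton]
    rw [hK.1] at h1
    omega
  · refine Set.eq_of_subset_of_ncard_le (fun x hx => (hopt x hx).resolve_left fun h => hc (h ▸ hx)) ?_
      (Set.toFinite _)
    rw [hK.1, (base_clique hG d).1]

theorem clique_eq {K K' : Set (Sylow 3 G)} (hK : d.IsClique K) (hK' : d.IsClique K') {x y : Sylow 3 G}
    (hne : x ≠ y) (hx : x ∈ K) (hy : y ∈ K) (hx' : x ∈ K') (hy' : y ∈ K') : K = K' := by
  obtain ⟨g, rfl, rfl⟩ := hK.2 x hx y hy hne
  have h : ∀ L, d.IsClique L → g • F.P ∈ L → g • d.b ∈ L → L = g • d.base := fun L hL h1 h2 => by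
    rw [← clique_eq_base hG d (isClique_smul d g⁻¹ hL) (by rwa [Set.mem_inv_smul_set_iff])
      (by rwa [Set.mem_inv_smul_set_iff]), smul_inv_smul]
  rw [h K hK hx hy, h K' hK' hx' hy']

omit [IsSimpleGroup G] [Fact (Nat.Prime 3)] hG in
theorem exists_other_in {K : Set (Sylow 3 G)} (hK : d.IsClique K) (x : Sylow 3 G) : ∃ y ∈ K, y ≠ x := by
  by_contra h
  push Not at h
  have : K.ncard ≤ 1 := (Set.ncard_le_one_iff (Set.toFinite _)).2 fun ha hb => (h _ ha).trans (h _ hb).symm
  have := hK.1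
  omega

/-- The second clique at `P`. -/
theorem exists_second : ∃ τ : G, τ • F.P = F.P ∧ τ • d.b = d.c ∧ d.c ∉ d.base ∧
    ∀ K, d.IsClique K → F.P ∈ K → K = d.base ∨ K = τ • d.base := by
  obtain ⟨τ, hτ, h1, -⟩ := d.swap
  have hP : τ • F.P = F.P := Sylow.smul_eq_iff_mem_normalizer.2 hτ.2
  refine ⟨τ, hP, h1, ?_, fun K hK hKP => ?_⟩
  · rintro (h | ⟨e, he, h⟩)
    · exact d.cP h
    · exact smul_bc_ne hG d he (one_mem _) (by simpa using h)
  obtain ⟨y, hy, hne⟩ := exists_other_in d hK F.P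
  obtain ⟨e, he, rfl | rfl⟩ := (adj_P_iff hG d).1 (hK.2 _ hKP y hy hne.symm)
  · exact Or.inl (clique_eq hG d hK (base_clique hG d) hne.symm hKP hy (base_P d) (base_e d he))
  · refine Or.inr (clique_eq hG d hK (isClique_smul d τ (base_clique hG d)) hne.symm hKP hy ?_ ?_)
    · exact ⟨F.P, base_P d, hP⟩
    · refine ⟨(τ⁻¹ * e * τ) • d.b, base_e d ((Subgroup.mem_normalizer_iff''.1 hτ.2 e).1 he), ?_⟩
      show τ • (τ⁻¹ * e * τ) • d.b = e • d.c
      rw [smul_smul, show τ * (τ⁻¹ * e * τ) = e * τ by group, mul_smul, h1]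

theorem card_members (x : Sylow 3 G) : Nat.card {K : d.cliques // x ∈ (K : Set (Sylow 3 G))} = 2 := by
  obtain ⟨g, rfl⟩ := exists_smul_eq G F.P x
  obtain ⟨τ, hτP, hτb, hc, hmem⟩ := exists_second hG d
  have h1 : d.IsClique (g • d.base) := isClique_smul d g (base_clique hG d)
  have h2 : d.IsClique (g • τ • d.base) := isClique_smul d g (isClique_smul d τ (base_clique hG d))
  have m1 : g • F.P ∈ g • d.base := Set.smul_mem_smul_set (base_P d)
  have m2 : g • F.P ∈ g • τ • d.base := Set.smul_mem_smul_set ⟨F.P, base_P d, hτP⟩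
  rw [Nat.card_eq_two_iff]
  refine ⟨⟨⟨_, h1⟩, m1⟩, ⟨⟨_, h2⟩, m2⟩, fun e => hc ?_, Set.eq_univ_of_forall ?_⟩
  · have e' : g • d.base = g • τ • d.base := congrArg (fun K : {K : d.cliques // g • F.P ∈ (K : Set (Sylow 3 G))} => ((K : d.cliques) : Set (Sylow 3 G))) e
    rw [MulAction.injective g e', ← hτb]
    exact Set.smul_mem_smul_set (base_b d)
  · rintro ⟨⟨K, hK⟩, hmK⟩
    rcases hmem (g⁻¹ • K) (isClique_smul d g⁻¹ hK) (by rwa [Set.mem_inv_smul_set_iff]) with e | e
    · exact Or.inl (Subtype.ext (Subtype.ext ((smul_inv_smul g K).symm.trans (congrArg (g • ·) e))))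
    · exact Or.inr (Subtype.ext (Subtype.ext ((smul_inv_smul g K).symm.trans (congrArg (g • ·) e))))

theorem card_cliques : Nat.card d.cliques = 11 := by
  haveI := Fintype.ofFinite d.cliques
  haveI := Fintype.ofFinite (Sylow 3 G)
  have h := Finset.sum_card_bipartiteAbove_eq_sum_card_bipartiteBelow
    (s := (Finset.univ : Finset (Sylow 3 G))) (t := (Finset.univ : Finset d.cliques))
    (fun (x : Sylow 3 G) (K : d.cliques) => x ∈ (K : Set (Sylow 3 G)))
  have hl : ∀ x : Sylow 3 G, ((Finset.univ : Finset d.cliques).bipartiteAbove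
      (fun (x : Sylow 3 G) (K : d.cliques) => x ∈ (K : Set (Sylow 3 G))) x).card = 2 := fun x => by
    rw [← card_members hG d x, Nat.card_eq_fintype_card, Fintype.card_subtype]; rfl
  have hr : ∀ K : d.cliques, ((Finset.univ : Finset (Sylow 3 G)).bipartiteBelow
      (fun (x : Sylow 3 G) (K : d.cliques) => x ∈ (K : Set (Sylow 3 G))) K).card = 10 := fun K => by
    rw [← (show d.IsClique (K : Set (Sylow 3 G)) from K.2).1, Set.ncard_eq_toFinset_card']
    congr 1
    ext x
    simp [Finset.bipartiteBelow]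
  rw [Finset.sum_congr rfl (fun x _ => hl x), Finset.sum_congr rfl (fun K _ => hr K),
    Finset.sum_const, Finset.sum_const, smul_eq_mul, smul_eq_mul, Finset.card_univ, Finset.card_univ,
    ← Nat.card_eq_fintype_card, ← Nat.card_eq_fintype_card, card_sylow_three hG] at h
  omega

theorem meets_base {K : Set (Sylow 3 G)} (hK : d.IsClique K) (hne : K ≠ d.base) :
    ∃ x ∈ d.base, x ∈ K := by
  have hex : ∀ x : d.base, ∃ L : d.cliques, (L : Set (Sylow 3 G)) ≠ d.base ∧ (x : Sylow 3 G) ∈ (L : Set (Sylow 3 G)) := by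
    intro x
    by_contra h
    push Not at h
    have := card_members hG d (x : Sylow 3 G)
    haveI : Subsingleton {K : d.cliques // (x : Sylow 3 G) ∈ (K : Set (Sylow 3 G))} :=
      ⟨fun a b => Subtype.ext (Subtype.ext
        ((by_contra fun ha => h a.1 ha a.2 : (a.1 : Set (Sylow 3 G)) = d.base).trans
          (by_contra fun hb => h b.1 hb b.2 : (b.1 : Set (Sylow 3 G)) = d.base).symm))⟩
    have := Finite.card_le_one_iff_subsingleton.2 ‹Subsingleton {K : d.cliques // (x : Sylow 3 G) ∈ (K : Set (Sylow 3 G))}›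
    omega
  choose L hL hxL using hex
  let m : d.base → {L : d.cliques // (L : Set (Sylow 3 G)) ≠ d.base} := fun x => ⟨L x, hL x⟩
  have hm : Function.Injective m := by
    intro x y e
    by_contra hxy
    have e' : L x = L y := congrArg Subtype.val e
    exact hL x (clique_eq hG d (L x).2 (base_clique hG d) (fun h => hxy (Subtype.ext h)) (hxL x)
      (e' ▸ hxL y) x.2 y.2)
  haveI := Fintype.ofFinite d.cliques
  have hc : Nat.card {L : d.cliques // (L : Set (Sylow 3 G)) ≠ d.base} = 10 := by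
    rw [Nat.card_congr (Equiv.subtypeEquivRight (q := fun L : d.cliques => L ≠ ⟨d.base, base_clique hG d⟩)
      fun L => ⟨fun h e => h (congrArg Subtype.val e), fun h e => h (Subtype.ext e)⟩),
      Nat.card_eq_fintype_card, Fintype.card_subtype_compl, Fintype.card_subtype_eq, ← Nat.card_eq_fintype_card,
      card_cliques hG d]
  obtain ⟨x, hx⟩ := (hm.bijective_of_nat_card_le (by
    rw [hc, Nat.card_coe_set_eq, (base_clique hG d).1])).2 ⟨⟨K, hK⟩, hne⟩
  refine ⟨x, x.2, ?_⟩
  have hx' : L x = ⟨K, hK⟩ := congrArg Subtype.val hx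
  have := hxL x
  rwa [hx'] at this

theorem sharp_data : ∃ K0 K1 K2 K3 : d.cliques,
    (∀ a b c e : d.cliques, a ≠ b → a ≠ c → a ≠ e → b ≠ c → b ≠ e → c ≠ e →
      ∃ g : G, g • a = K0 ∧ g • b = K1 ∧ g • c = K2 ∧ g • e = K3) ∧
    ∀ g : G, g • K0 = K0 → g • K1 = K1 → g • K2 = K2 → g • K3 = K3 → g = 1 := by
  obtain ⟨τ, hτP, hτb, hc, hmem⟩ := exists_second hG d
  obtain ⟨σ, hσP, hσb, -⟩ := exists_flip d
  obtain ⟨e₀, he₀, he₀1⟩ := exists_ne_one_sylow hG F.P
  have hb0 := base_clique hG d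
  have hfix : ∀ g : G, g • F.P ∈ d.base → g • d.b ∈ d.base → g • d.base = d.base := fun g h1 h2 =>
    clique_eq hG d (isClique_smul d g hb0) hb0 (fun e => d.bP (MulAction.injective g e).symm)
      (Set.smul_mem_smul_set (base_P d)) (Set.smul_mem_smul_set (base_b d)) h1 h2
  have hσ0 : σ • d.base = d.base := hfix σ (by rw [hσP]; exact base_b d) (by rw [hσb]; exact base_P d)
  have he0 : ∀ e ∈ (F.P : Subgroup G), e • d.base = d.base := fun e he =>
    hfix e (by rw [e_smul_P hG he]; exact base_P d) (base_e d he)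
  set S1 := τ • d.base with hS1
  have h1P : F.P ∈ S1 := ⟨F.P, base_P d, hτP⟩
  have hS1c : d.IsClique S1 := isClique_smul d τ hb0
  have hne1 : S1 ≠ d.base := fun e => hc (e ▸ ⟨d.b, base_b d, hτb⟩)
  have hfix1 : ∀ g : G, g • d.base = d.base → g • F.P = F.P → g • S1 = S1 := fun g h0 hP =>
    (hmem _ (isClique_smul d g hS1c) (hP ▸ Set.smul_mem_smul_set h1P)).resolve_left fun e =>
      hne1 (MulAction.injective g (e.trans h0.symm))
  set S2 := σ • S1 with hS2
  have hS2c : d.IsClique S2 := isClique_smul d σ hS1c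
  have h2b : d.b ∈ S2 := hσP ▸ Set.smul_mem_smul_set h1P
  have hne2 : S2 ≠ d.base := fun e => hne1 (MulAction.injective σ (e.trans hσ0.symm))
  have hat_b : ∀ K, d.IsClique K → d.b ∈ K → K ≠ d.base → K = S2 := by
    intro K hK hb hne
    have hP : F.P ∈ σ⁻¹ • K := by rw [Set.mem_inv_smul_set_iff, hσP]; exact hb
    rcases hmem _ (isClique_smul d σ⁻¹ hK) hP with e | e
    · exact absurd (by rw [← smul_inv_smul σ K, e, hσ0]) hne
    · rw [← smul_inv_smul σ K, e]
  have hfix2 : ∀ g : G, g • d.base = d.base → g • d.b = d.b → g • S2 = S2 := fun g h0 hb =>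
    hat_b _ (isClique_smul d g hS2c) (hb ▸ Set.smul_mem_smul_set h2b) fun e =>
      hne2 (MulAction.injective g (e.trans h0.symm))
  set S3 := e₀ • S2 with hS3
  have hS3c : d.IsClique S3 := isClique_smul d e₀ hS2c
  have h3b : e₀ • d.b ∈ S3 := Set.smul_mem_smul_set h2b
  have hne3 : S3 ≠ d.base := fun e => hne2 (MulAction.injective e₀ (e.trans (he0 e₀ he₀).symm))
  have hat_e : ∀ K, d.IsClique K → e₀ • d.b ∈ K → K ≠ d.base → K = S3 := by
    intro K hK hm hne
    rw [hS3, ← hat_b (e₀⁻¹ • K) (isClique_smul d e₀⁻¹ hK) (by rwa [Set.mem_inv_smul_set_iff])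
      (fun e => hne (by rw [← smul_inv_smul e₀ K, e, he0 e₀ he₀])), smul_inv_smul]
  refine ⟨⟨_, hb0⟩, ⟨_, hS1c⟩, ⟨_, hS2c⟩, ⟨_, hS3c⟩, ?_, ?_⟩
  · rintro ⟨A, hA⟩ ⟨B, hB⟩ ⟨C, hC⟩ ⟨E, hE⟩ hab hac hae hbc hbe hce
    replace hab : A ≠ B := fun h => hab (Subtype.ext h)
    replace hac : A ≠ C := fun h => hac (Subtype.ext h)
    replace hae : A ≠ E := fun h => hae (Subtype.ext h)
    replace hbc : B ≠ C := fun h => hbc (Subtype.ext h)
    replace hbe : B ≠ E := fun h => hbe (Subtype.ext h)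
    replace hce : C ≠ E := fun h => hce (Subtype.ext h)
    -- the first
    obtain ⟨g1, hg1⟩ : ∃ g : G, g • A = d.base := by
      obtain ⟨x, hx, -⟩ := exists_other_in d hA F.P
      obtain ⟨y, hy, hne⟩ := exists_other_in d hA x
      obtain ⟨k, hkx, hky⟩ := hA.2 x hx y hy hne.symm
      refine ⟨k⁻¹, clique_eq_base hG d (isClique_smul d _ hA) ?_ ?_⟩
      · rw [Set.mem_inv_smul_set_iff, hkx]; exact hx
      · rw [Set.mem_inv_smul_set_iff, hky]; exact hy
    -- the second
    obtain ⟨g2, hg20, hg21⟩ : ∃ g : G, g • d.base = d.base ∧ g • g1 • B = S1 := by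
      have hne : g1 • B ≠ d.base := fun h => hab (MulAction.injective g1 (hg1.trans h.symm))
      obtain ⟨x, hx, hxB⟩ := meets_base hG d (isClique_smul d g1 hB) hne
      obtain ⟨k, hk0, hkx⟩ : ∃ k : G, k • d.base = d.base ∧ k • x = F.P := by
        rcases hx with rfl | ⟨e, he, rfl⟩
        · exact ⟨1, one_smul _ _, one_smul _ _⟩
        · refine ⟨σ * e⁻¹, by rw [mul_smul, he0 _ (inv_mem he), hσ0], ?_⟩
          show (σ * e⁻¹) • e • d.b = F.P
          rw [mul_smul, inv_smul_smul, hσb]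
      refine ⟨k, hk0, (hmem _ (isClique_smul d k (isClique_smul d g1 hB))
        (hkx ▸ Set.smul_mem_smul_set hxB)).resolve_left fun e => hne (MulAction.injective k (e.trans hk0.symm))⟩
    -- the third
    obtain ⟨g3, hg30, hg31, hg32⟩ : ∃ g : G, g • d.base = d.base ∧ g • S1 = S1 ∧ g • g2 • g1 • C = S2 := by
      have hK := isClique_smul d g2 (isClique_smul d g1 hC)
      have hne0 : g2 • g1 • C ≠ d.base := fun h => hac (MulAction.injective g1
        (MulAction.injective g2 ((hg1 ▸ hg20 : g2 • g1 • A = d.base).trans h.symm)))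
      have hne' : g2 • g1 • C ≠ S1 := fun h => hbc (MulAction.injective g1
        (MulAction.injective g2 (hg21.trans h.symm)))
      obtain ⟨x, hx, hxK⟩ := meets_base hG d hK hne0
      rcases hx with rfl | ⟨e, he, rfl⟩
      · exact absurd ((hmem _ hK hxK).resolve_left hne0) hne'
      · refine ⟨e⁻¹, he0 _ (inv_mem he), hfix1 _ (he0 _ (inv_mem he)) (e_smul_P hG (inv_mem he)), ?_⟩
        refine hat_b _ (isClique_smul d _ hK) ?_ fun h => hne0 ?_
        · rw [Set.mem_inv_smul_set_iff]; exact hxK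
        · rw [← smul_inv_smul e (g2 • g1 • C), h, he0 e he]
    -- the fourth
    have hK := isClique_smul d g3 (isClique_smul d g2 (isClique_smul d g1 hE))
    have hne0 : g3 • g2 • g1 • E ≠ d.base := fun h => hae (MulAction.injective g1
      (MulAction.injective g2 (MulAction.injective g3 ((show g3 • g2 • g1 • A = d.base by rw [hg1, hg20, hg30]).trans h.symm))))
    have hne1' : g3 • g2 • g1 • E ≠ S1 := fun h => hbe (MulAction.injective g1
      (MulAction.injective g2 (MulAction.injective g3 ((show g3 • g2 • g1 • B = S1 by rw [hg21, hg31]).trans h.symm))))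
    have hne2' : g3 • g2 • g1 • E ≠ S2 := fun h => hce (MulAction.injective g1
      (MulAction.injective g2 (MulAction.injective g3 (hg32.trans h.symm))))
    obtain ⟨x, hx, hxK⟩ := meets_base hG d hK hne0
    rcases hx with rfl | ⟨e, he, rfl⟩
    · exact absurd ((hmem _ hK hxK).resolve_left hne0) hne1'
    have he1 : e ≠ 1 := fun h => hne2' (hat_b _ hK (by simpa [h] using hxK) hne0)
    obtain ⟨δ, hδ, hδb, -, hδe⟩ := exists_conj_fix_b hG d he he₀ he1 he₀1
    have hδP : δ • F.P = F.P := Sylow.smul_eq_iff_mem_normalizer.2 hδ.2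
    have hδ0 : δ • d.base = d.base := hfix δ (hδP.symm ▸ base_P d) (hδb.symm ▸ base_b d)
    refine ⟨δ * g3 * g2 * g1, ?_, ?_, ?_, ?_⟩ <;> refine Subtype.ext ?_
    · show (δ * g3 * g2 * g1) • A = d.base
      rw [mul_smul, mul_smul, mul_smul, hg1, hg20, hg30, hδ0]
    · show (δ * g3 * g2 * g1) • B = S1
      rw [mul_smul, mul_smul, mul_smul, hg21, hg31, hfix1 δ hδ0 hδP]
    · show (δ * g3 * g2 * g1) • C = S2
      rw [mul_smul, mul_smul, mul_smul, hg32, hfix2 δ hδ0 hδb]
    · show (δ * g3 * g2 * g1) • E = S3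
      rw [mul_smul, mul_smul, mul_smul]
      refine hat_e _ (isClique_smul d δ hK) ?_ fun h => hne0 (MulAction.injective δ (h.trans hδ0.symm))
      refine ⟨e • d.b, hxK, ?_⟩
      show δ • e • d.b = e₀ • d.b
      rw [smul_smul, show δ * e = e₀ * δ by rw [← hδe]; group, mul_smul, hδb]
  · intro g h0 h1 h2 h3
    have h0' : g • d.base = d.base := congrArg Subtype.val h0
    have h1' : g • S1 = S1 := congrArg Subtype.val h1
    have h2' : g • S2 = S2 := congrArg Subtype.val h2
    have h3' : g • S3 = S3 := congrArg Subtype.val h3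
    have huniq : ∀ S, d.IsClique S → S ≠ d.base → ∀ x, x ∈ d.base → x ∈ S → g • S = S → g • x = x := by
      intro S hS hne x hx hxS hgS
      by_contra h
      exact hne (clique_eq hG d hS hb0 h (hgS ▸ Set.smul_mem_smul_set hxS) hxS
        (h0' ▸ Set.smul_mem_smul_set hx) hx)
    have gP := huniq S1 hS1c hne1 _ (base_P d) h1P h1'
    have gb := huniq S2 hS2c hne2 _ (base_b d) h2b h2'
    have ge := huniq S3 hS3c hne3 _ (base_e d he₀) h3b h3'
    obtain ⟨e, he, μ, hμ, rfl⟩ := frame_decomp hG F (Sylow.smul_eq_iff_mem_normalizer.1 gP)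
    rw [mul_smul] at gb
    have hμb : μ • d.b = d.b := by
      refine (d.image μ hμ).resolve_right fun h => smul_bc_ne hG d (one_mem _) he ?_
      rw [one_smul, ← h]
      exact gb.symm
    rw [hμb] at gb
    have he1 : e = 1 := smul_b_inj hG d he (one_mem _) (by rw [gb, one_smul])
    rw [he1, one_mul] at ge ⊢
    refine d.free e₀ he₀ he₀1 μ hμ hμb ?_
    have hμe : μ * e₀ * μ⁻¹ = e₀ := by
      refine smul_b_inj hG d ((Subgroup.mem_normalizer_iff.1 hμ.2 e₀).1 he₀) he₀ ?_
      rw [mul_smul, mul_smul, show μ⁻¹ • d.b = d.b by rw [inv_smul_eq_iff, hμb]]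
      exact ge
    exact mem_Cg.2 (mul_inv_eq_iff_eq_mul.1 hμe)

end CfsgLib.MElevenUnique
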