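import Cfsg.Agent.MElevenUnique.Main
import Cfsg.Agent.Small.SylowPrime
import Cfsg.Agent.GraphSimple.Eleven

/-!
Numbers of elements of a given order in the simple group of order 7920, and the recognition of that
group by its order and the set of these numbers.
-/

set_option autoImplicit false

open scoped Pointwise Classical
open MulAction

namespace CfsgLib.MElevenUnique

section

variable {G : Type*} [Group G] [Finite G] [IsSimpleGroup G] (hG : Nat.card G = 7920)
include hG

theorem card_Cg_two {y : G} (hy : orderOf y = 2) : Nat.card (Cg y) = 48 := by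
  haveI := Fact.mk Nat.prime_two
  haveI := Fact.mk Nat.prime_three
  have hmod := card_modEq_fix (X := Sylow 3 G) (hy ▸ pow_orderOf_eq_one y)
  rw [card_sylow_three hG] at hmod
  have hpos : 0 < fixCard (Sylow 3 G) y := by omega
  obtain ⟨⟨P, hP⟩⟩ := (Nat.card_pos_iff.1 hpos).1
  exact (invol_data hG hy (smul_sylow_eq_iff.1 hP)).1

theorem card_Cg_three {y : G} (hy : orderOf y = 3) : Nat.card (Cg y) = 18 := by
  haveI := Fact.mk Nat.prime_three
  obtain ⟨P, hP⟩ := exists_sylow_of_orderOf hy
  exact (elem_three hG hP fun e => by rw [e, orderOf_one] at hy; norm_num at hy).2.1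

theorem card_Cg_eleven {y : G} (hy : orderOf y = 11) : Nat.card (Cg y) = 11 := by
  haveI : Fact (Nat.Prime 11) := ⟨by norm_num⟩
  obtain ⟨P, hP⟩ := exists_sylow_of_orderOf hy
  have hy1 : y ≠ 1 := fun e => by rw [e, orderOf_one] at hy; norm_num at hy
  rw [show Cg y = Cs (P : Subgroup G) from
    Small.centralizer_singleton_eq_of_prime (card_sylow11 hG P) hP hy1, (eleven hG P).2]

/-- The class sizes of the elements of prime order are multiples of a bound depending only on the prime. -/
theorem exists_bound {p : ℕ} (hp : p.Prime) (hpd : p ∣ 7920) :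
    ∃ d ∈ ({165, 440, 792, 720} : Finset ℕ), ∀ y : G, orderOf y = p → d * Nat.card (Cg y) ∣ 7920 := by
  rw [show 7920 = 2 ^ 4 * (3 ^ 2 * (5 * 11)) by norm_num] at hpd
  rcases (Nat.Prime.dvd_mul hp).1 hpd with h | h
  · obtain rfl := (Nat.prime_dvd_prime_iff_eq hp Nat.prime_two).1 (hp.dvd_of_dvd_pow h)
    exact ⟨165, by simp, fun y hy => by rw [card_Cg_two hG hy]⟩
  rcases (Nat.Prime.dvd_mul hp).1 h with h | h
  · obtain rfl := (Nat.prime_dvd_prime_iff_eq hp Nat.prime_three).1 (hp.dvd_of_dvd_pow h)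
    exact ⟨440, by simp, fun y hy => by rw [card_Cg_three hG hy]⟩
  rcases (Nat.Prime.dvd_mul hp).1 h with h | h
  · obtain rfl := (Nat.prime_dvd_prime_iff_eq hp Nat.prime_five).1 h
    exact ⟨792, by simp, fun y hy => mul_dvd_mul_left 792 (card_Cg_five hG hy)⟩
  · obtain rfl := (Nat.prime_dvd_prime_iff_eq hp (by norm_num : Nat.Prime 11)).1 h
    exact ⟨720, by simp, fun y hy => by rw [card_Cg_eleven hG hy]⟩

/-- The number of elements of a given order `n > 1` is a multiple of 165, 440, 792 or 720. -/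
theorem exists_dvd_count {n : ℕ} (hn : n ≠ 1) (hpos : 0 < Nat.card {g : G // orderOf g = n}) :
    ∃ d ∈ ({165, 440, 792, 720} : Finset ℕ), d ∣ Nat.card {g : G // orderOf g = n} := by
  obtain ⟨⟨x, rfl⟩⟩ := (Nat.card_pos_iff.1 hpos).1
  set n := orderOf x with hndef
  have hn0 : n ≠ 0 := (orderOf_pos x).ne'
  obtain ⟨d, hd, hbound⟩ := exists_bound hG (Nat.minFac_prime hn)
    ((Nat.minFac_dvd n).trans (hG ▸ orderOf_dvd_natCard x))
  refine ⟨d, hd, ?_⟩
  haveI := Fintype.ofFinite G
  rw [Nat.card_eq_fintype_card, Fintype.card_subtype,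
    Finset.card_eq_sum_card_image (fun a => ConjClasses.mk a)]
  refine Finset.dvd_sum fun c hc => ?_
  obtain ⟨a, ha, rfl⟩ := Finset.mem_image.1 hc
  have ha' : orderOf a = n := (Finset.mem_filter.1 ha).2
  have hy : orderOf (a ^ (n / n.minFac)) = n.minFac := by
    rw [orderOf_pow_of_dvd (Nat.div_pos (Nat.minFac_le (Nat.pos_of_ne_zero hn0))
      (Nat.minFac_pos n)).ne' (by rw [ha']; exact Nat.div_dvd_of_dvd (Nat.minFac_dvd n)), ha',
      Nat.div_div_self (Nat.minFac_dvd n) hn0]
  have hle : Nat.card (Cg a) ∣ Nat.card (Cg (a ^ (n / n.minFac))) := Subgroup.card_dvd_of_le fun b hb =>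
    mem_Cg.2 ((Commute.pow_right (show Commute b a from mem_Cg.1 hb) _).eq)
  have hdiv := (mul_dvd_mul_left d hle).trans (hbound _ hy)
  rw [← hG, ← Small.card_conjugates_mul_card_centralizer a] at hdiv
  refine (Nat.dvd_of_mul_dvd_mul_right Nat.card_pos hdiv).trans (dvd_of_eq ?_)
  rw [Nat.card_eq_fintype_card, Fintype.card_subtype]
  congr 1
  ext b
  simp only [Finset.mem_filter, Finset.mem_univ, true_and, ConjClasses.mk_eq_mk_iff_isConj]
  refine ⟨fun h => ⟨?_, h.symm⟩, fun h => h.2.symm⟩
  obtain ⟨c, rfl⟩ := isConj_iff.1 h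
  rw [← ha']
  exact orderOf_injective (MulAut.conj c).toMonoidHom (MulAut.conj c).injective a

theorem count_ne {c n : ℕ} (hc : c = Nat.card {g : G // orderOf g = n}) (hpos : 0 < c) :
    c ≠ 10 ∧ c ≠ 120 ∧ c ≠ 450 := by
  by_cases hn : n = 1
  · have : c = 1 := by
      rw [hc, hn, Nat.card_eq_one_iff_unique]
      exact ⟨⟨fun a b => Subtype.ext ((orderOf_eq_one_iff.1 a.2).trans (orderOf_eq_one_iff.1 b.2).symm)⟩,
        ⟨⟨1, orderOf_one⟩⟩⟩
    omega
  obtain ⟨d, hd, hdvd⟩ := exists_dvd_count hG hn (hc ▸ hpos)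
  rw [← hc] at hdvd
  simp only [Finset.mem_insert, Finset.mem_singleton] at hd
  rcases hd with rfl | rfl | rfl | rfl <;> omega

end

section

variable {G : Type*} [Group G] [Finite G]

/-- A group of order 7920 whose numbers of elements of given orders all occur in a simple group of
order 7920 is simple. -/
theorem isSimpleGroup_of_counts (hG : Nat.card G = 7920) {H : Type*} [Group H] [Finite H]
    (hH : Nat.card H = 7920) (hs : IsSimpleGroup H)
    (hsub : ∀ c, 0 < c → (∃ n : ℕ, c = Nat.card {g : G // orderOf g = n}) →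
      ∃ n : ℕ, c = Nat.card {g : H // orderOf g = n}) :
    IsSimpleGroup G := by
  haveI : Fact (Nat.Prime 11) := ⟨by norm_num⟩
  obtain ⟨P⟩ : Nonempty (Sylow 11 G) := inferInstance
  have hP : ∀ Q : Sylow 11 G, Nat.card (Q : Subgroup G) = 11 := fun Q =>
    GraphSimple.card_sylow_eq_prime (m := 720) (by rw [hG]) (by norm_num) Q
  have hn := Small.card_sylow_mul_card_normalizer P
  rw [hG] at hn
  have h720 : Nat.card (Sylow 11 G) ∣ 720 := by
    have h1 : Nat.card (Sylow 11 G) ∣ (P : Subgroup G).index := P.card_dvd_index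
    have h2 := (P : Subgroup G).index_mul_card
    rw [hG, hP P] at h2
    rwa [show (P : Subgroup G).index = 720 by omega] at h1
  have hmod : Nat.card (Sylow 11 G) % 11 = 1 := card_sylow_modEq_one 11 G
  have hcases : Nat.card (Sylow 11 G) ∈ ({1, 12, 45, 144} : Finset ℕ) := by
    have key : ∀ d ∈ Nat.divisors 720, d % 11 = 1 → d ∈ ({1, 12, 45, 144} : Finset ℕ) := by decide +kernel
    exact key _ (Nat.mem_divisors.2 ⟨h720, by norm_num⟩) hmod
  have h144 : Nat.card (Sylow 11 G) = 144 := by
    have hm := Small.card_orderOf_eq_prime (p := 11) hP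
    have hpos : 0 < Nat.card (Sylow 11 G) * (11 - 1) := by
      have := Nat.card_pos (α := Sylow 11 G); omega
    obtain ⟨n, hcn⟩ := hsub _ hpos ⟨11, hm.symm⟩
    have := count_ne hH hcn hpos
    simp only [Finset.mem_insert, Finset.mem_singleton] at hcases
    omega
  rw [h144] at hn
  have hNC : Nat.card (Subgroup.normalizer ((P : Subgroup G) : Set G)) = 55 ∧
      Nat.card (Subgroup.centralizer ((P : Subgroup G) : Set G)) = 11 := by
    rcases GraphSimple.eleven_cases hG P with ⟨h | h, -⟩ | ⟨h, -⟩ | ⟨h, h11⟩ <;> omega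
  haveI : Nontrivial G := Finite.one_lt_card_iff_nontrivial.1 (by omega)
  refine ⟨fun K hK => ?_⟩
  by_cases h11 : 11 ∣ Nat.card K
  · right
    by_contra hne
    have := (GraphSimple.normal_data hG P (Or.inr hNC) hK h11 hne).2.1
    omega
  · left
    have h := Subgroup.card_dvd_of_le (GraphSimple.le_centralizer_of_not_dvd hG P hK h11)
    rw [hNC.2] at h
    rcases (Nat.dvd_prime (by norm_num)).1 h with h1 | h1
    · exact Subgroup.card_eq_one.1 h1
    · exact absurd (dvd_of_eq h1.symm) h11

end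

end CfsgLib.MElevenUnique
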