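import Cfsg.Agent.MElevenUnique.AutNine
import Cfsg.Agent.GraphSimple.Eleven
import Cfsg.Agent.Transfer.Abelian

/-!
A simple group of order 7920: indices, the Sylow 11-subgroups, and real elements of order three.
-/

set_option autoImplicit false

open scoped Pointwise
open MulAction

namespace CfsgLib.MElevenUnique

variable {G : Type*} [Group G] [Finite G]

theorem fixed_sylow_eq {p : ℕ} [Fact p.Prime] (hP : ∀ Q : Sylow p G, Nat.card (Q : Subgroup G) = p)
    {P Q : Sylow p G} {y : G} (hy : orderOf y = p) (hyP : y ∈ (P : Subgroup G)) (h : y • Q = Q) :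
    Q = P := by
  have hy1 : y ≠ 1 := fun e => by rw [e, orderOf_one] at hy; exact (Fact.out : p.Prime).one_lt.ne hy
  have hyQ := mem_sylow_of_normalizes (k := 1) (by rw [hy, pow_one]) (smul_sylow_eq_iff.1 h)
  exact Sylow.ext ((Small.eq_zpowers_of_mem_prime (hP Q) hyQ hy1).symm.trans
    (Small.eq_zpowers_of_mem_prime (hP P) hyP hy1))

theorem exists_sylow_of_orderOf {p : ℕ} [Fact p.Prime] {y : G} (hy : orderOf y = p) :
    ∃ P : Sylow p G, y ∈ (P : Subgroup G) := by
  obtain ⟨P, hP⟩ := (IsPGroup.of_card (n := 1) (by rw [Nat.card_zpowers, hy, pow_one]) :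
    IsPGroup p (Subgroup.zpowers y)).exists_le_sylow
  exact ⟨P, hP (Subgroup.mem_zpowers y)⟩

theorem fix_sylow_eq_one {p : ℕ} [Fact p.Prime] (hP : ∀ Q : Sylow p G, Nat.card (Q : Subgroup G) = p)
    {P : Sylow p G} {y : G} (hy : orderOf y = p) (hyP : y ∈ (P : Subgroup G)) :
    fixCard (Sylow p G) y = 1 := by
  rw [fixCard, Nat.card_eq_one_iff_unique]
  exact ⟨⟨fun c d => Subtype.ext ((fixed_sylow_eq hP hy hyP c.2).trans (fixed_sylow_eq hP hy hyP d.2).symm)⟩,
    ⟨⟨P, smul_sylow_eq_iff.2 (Subgroup.le_normalizer hyP)⟩⟩⟩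

theorem inter_sylow_eq_one {p : ℕ} [Fact p.Prime] (hP : ∀ Q : Sylow p G, Nat.card (Q : Subgroup G) = p)
    {P : Sylow p G} {x y : G} (hy : orderOf y = p) (hyP : y ∈ (P : Subgroup G)) (hc : Commute x y) :
    Nat.card {a : Sylow p G // x • a = a ∧ y • a = a} = 1 := by
  have hy1 : y ≠ 1 := fun e => by rw [e, orderOf_one] at hy; exact (Fact.out : p.Prime).one_lt.ne hy
  rw [Nat.card_eq_one_iff_unique]
  exact ⟨⟨fun c d => Subtype.ext ((fixed_sylow_eq hP hy hyP c.2.2).trans
      (fixed_sylow_eq hP hy hyP d.2.2).symm)⟩,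
    ⟨⟨P, smul_sylow_eq_iff.2 (Cs_le_Ng _ (Small.mem_centralizer_of_commute_prime (hP P) hyP hy1 hc)),
      smul_sylow_eq_iff.2 (Subgroup.le_normalizer hyP)⟩⟩⟩

variable [IsSimpleGroup G] (hG : Nat.card G = 7920)
include hG

theorem nc : ¬ IsMulCommutative G := Small.not_comm_of_card hG (by norm_num)

theorem index_ge {H : Subgroup G} (hH : H ≠ ⊤) : 11 ≤ H.index :=
  Small.lt_index_of_not_dvd (nc hG) hH (b := 10) (by rw [hG]; decide)

theorem card_le {H : Subgroup G} (hH : H ≠ ⊤) : Nat.card H ≤ 720 := by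
  have h1 := H.index_mul_card
  rw [hG] at h1
  have h2 := index_ge hG hH
  nlinarith

theorem card_dvd (H : Subgroup G) : Nat.card H ∣ 7920 := hG ▸ Subgroup.card_subgroup_dvd_card H

theorem Cg_ne_top {x : G} (hx : x ≠ 1) : Cg x ≠ ⊤ := Small.centralizer_singleton_ne_top (nc hG) hx

theorem card_sylow11 (P : Sylow 11 G) [Fact (Nat.Prime 11)] : Nat.card (P : Subgroup G) = 11 :=
  GraphSimple.card_sylow_eq_prime (m := 720) (by rw [hG]) (by norm_num) P

theorem card_sylow5 (P : Sylow 5 G) [Fact (Nat.Prime 5)] : Nat.card (P : Subgroup G) = 5 :=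
  GraphSimple.card_sylow_eq_prime (m := 1584) (by rw [hG]) (by norm_num) P

theorem card_sylow3 (P : Sylow 3 G) [Fact (Nat.Prime 3)] : Nat.card (P : Subgroup G) = 9 :=
  Small.card_sylow_eq (k := 2) (m := 880) (by rw [hG]; norm_num) (by norm_num) P

theorem eleven [Fact (Nat.Prime 11)] (P : Sylow 11 G) :
    Nat.card (Sylow 11 G) = 144 ∧ Nat.card (Cs (P : Subgroup G)) = 11 := by
  haveI := Fact.mk Nat.prime_two
  haveI := Fact.mk Nat.prime_three
  have hn := Small.card_sylow_mul_card_normalizer P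
  rw [hG] at hn
  have hall : ∀ Q : Sylow 11 G, Nat.card (Q : Subgroup G) = 11 := fun Q => card_sylow11 hG Q
  obtain ⟨⟨y, hyP⟩, hy⟩ := exists_prime_orderOf_dvd_card' (G := (P : Subgroup G)) 11 (dvd_of_eq (hall P).symm)
  rw [← Subgroup.orderOf_coe] at hy
  simp only at hy
  have hne1 := Small.card_sylow_ne_one (nc hG) (p := 11) (by rw [hG]; norm_num)
  haveI : Nontrivial (Sylow 11 G) := Finite.one_lt_card_iff_nontrivial.1 (by
    have := Nat.card_pos (α := Sylow 11 G); omega)
  have hmod : ∀ x ∈ Cs (P : Subgroup G), fixCard (Sylow 11 G) x % 11 = 1 := fun x hx => by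
    have hc : Commute x y := (mem_Cs.1 hx y hyP).symm
    rw [fix_modEq_inter hc (hy ▸ pow_orderOf_eq_one y), inter_sylow_eq_one hall hy hyP hc]
  rcases GraphSimple.eleven_cases hG P with ⟨h | h, h66⟩ | ⟨h, h88⟩ | ⟨h, h11⟩
  · rw [h] at hn; omega
  · exfalso
    rw [h] at hn
    obtain ⟨⟨x, hxC⟩, hx⟩ := exists_prime_orderOf_dvd_card' (G := Cs (P : Subgroup G)) 3
      (dvd_trans (by norm_num) h66)
    rw [← Subgroup.orderOf_coe] at hx
    simp only at hx
    have h1 := hmod x hxC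
    have h2 := card_modEq_fix (X := Sylow 11 G) (p := 3) (hx ▸ pow_orderOf_eq_one x)
    have h3 := fixCard_le (X := Sylow 11 G) x
    have he := eq_one_of_fixCard (X := Sylow 11 G) (x := x) (by omega)
    rw [he, orderOf_one] at hx
    norm_num at hx
  · exfalso
    rw [h] at hn
    obtain ⟨K, hK, hK8⟩ := Small.exists_two_subgroup_le (H := Cs (P : Subgroup G)) (k := 3)
      (by show 2 ^ 3 ∣ Nat.card (Cs (P : Subgroup G)); rw [h88]; norm_num)
    have hfix : ∀ k ∈ K, k ≠ 1 → fixCard (Sylow 11 G) k = 1 := by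
      intro k hk hk1
      obtain ⟨j, -, hj⟩ := (Nat.dvd_prime_pow Nat.prime_two).1
        (hK8 ▸ Subgroup.orderOf_dvd_natCard K hk : orderOf k ∣ 2 ^ 3)
      have hj0 : j ≠ 0 := fun e => hk1 (orderOf_eq_one_iff.1 (by rw [hj, e, pow_zero]))
      set t := k ^ 2 ^ (j - 1) with ht_def
      have ht : orderOf t = 2 := by
        rw [ht_def, orderOf_pow, hj, Nat.gcd_eq_right (pow_dvd_pow 2 (by omega)),
          Nat.pow_div (by omega) two_pos, show j - (j - 1) = 1 by omega, pow_one]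
      have h1 := hmod t (pow_mem (hK hk) _)
      have h2 := four_dvd_moved (X := Sylow 11 G) (nc hG) ht
      have h3 := fixCard_le (X := Sylow 11 G) t
      have hlt : fixCard (Sylow 11 G) t < Nat.card (Sylow 11 G) := by
        by_contra hge
        have he := eq_one_of_fixCard (X := Sylow 11 G) (x := t) (not_lt.1 hge)
        rw [he, orderOf_one] at ht
        norm_num at ht
      have ht1 : fixCard (Sylow 11 G) t = 1 := by omega
      have hle : fixCard (Sylow 11 G) k ≤ fixCard (Sylow 11 G) t :=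
        Nat.card_le_card_of_injective (fun a => (⟨a.1, pow_smul_eq a.2 _⟩ : fixedBy (Sylow 11 G) t))
          fun a b e => Subtype.ext (congrArg (fun c : fixedBy (Sylow 11 G) t => (c : Sylow 11 G)) e)
      have hpos := fixCard_pos (X := Sylow 11 G) (smul_sylow_eq_iff.2 (Cs_le_Ng _ (hK hk)))
      omega
    have := card_dvd_add_mul (X := Sylow 11 G) K 1 hfix
    rw [hK8] at this
    omega
  · rw [h] at hn
    exact ⟨by omega, h11⟩

theorem eleven_dvd_orderOf [Fact (Nat.Prime 11)] {x : G} (hx : x ≠ 1) (h : 11 ∣ Nat.card (Cg x)) :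
    11 ∣ orderOf x := by
  obtain ⟨⟨y, hyC⟩, hy⟩ := exists_prime_orderOf_dvd_card' (G := Cg x) 11 h
  rw [← Subgroup.orderOf_coe] at hy
  simp only at hy
  obtain ⟨P, hyP⟩ := exists_sylow_of_orderOf hy
  have hP := card_sylow11 hG P
  have hy1 : y ≠ 1 := fun e => by rw [e, orderOf_one] at hy; norm_num at hy
  have hxC : x ∈ Cs (P : Subgroup G) := Small.mem_centralizer_of_commute_prime hP hyP hy1
    (mem_Cg.1 hyC).symm
  have he := Subgroup.eq_of_le_of_card_ge (GraphSimple.le_centralizer_of_cyclic_prime hP)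
    (by rw [hP]; exact (eleven hG P).2.le)
  have hxP : x ∈ (P : Subgroup G) := he.symm.le hxC
  rw [Small.orderOf_eq_of_mem_prime hP hxP hx]

theorem not_eleven_Cg {x : G} (hx : x ≠ 1) (h : ¬ 11 ∣ orderOf x) : ¬ 11 ∣ Nat.card (Cg x) :=
  haveI := Fact.mk (show Nat.Prime 11 by norm_num)
  fun h' => h (eleven_dvd_orderOf hG hx h')

theorem three_comm [Fact (Nat.Prime 3)] (P : Sylow 3 G) : IsMulCommutative (P : Subgroup G) :=
  IsPGroup.isMulCommutative_of_card_eq_prime_sq (p := 3) (card_sylow3 hG P)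

theorem sylow_le_Cg [Fact (Nat.Prime 3)] (P : Sylow 3 G) {x : G} (hx : x ∈ (P : Subgroup G)) :
    (P : Subgroup G) ≤ Cg x :=
  Small.le_centralizer_of_card_sq (p := 3) (card_sylow3 hG P) hx

theorem sylow_le_Cs [Fact (Nat.Prime 3)] (P : Sylow 3 G) : (P : Subgroup G) ≤ Cs (P : Subgroup G) :=
  fun _ ha => mem_Cs_of_le_Cg (sylow_le_Cg hG P ha)

theorem not_three_dvd_aut [Fact (Nat.Prime 3)] (P : Sylow 3 G) :
    ¬ 3 ∣ Nat.card (P : Subgroup G).normalizerMonoidHom.range := by
  intro h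
  have h1 := Subgroup.card_eq_card_quotient_mul_card_subgroup (P : Subgroup G).normalizerMonoidHom.ker
  rw [Nat.card_congr (QuotientGroup.quotientKerEquivRange _).toEquiv, Subgroup.normalizerMonoidHom_ker,
    Nat.card_congr (Subgroup.subgroupOfEquivOfLe (Cs_le_Ng (P : Subgroup G))).toEquiv] at h1
  have h9 : 9 ∣ Nat.card (Cs (P : Subgroup G)) :=
    (dvd_of_eq (card_sylow3 hG P).symm).trans (Subgroup.card_dvd_of_le (sylow_le_Cs hG P))
  have : 3 * 9 ∣ 7920 := by
    rw [← hG]
    exact dvd_trans (h1 ▸ mul_dvd_mul h h9) (Subgroup.card_subgroup_dvd_card _)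
  norm_num at this

/-- Some element normalising a Sylow 3-subgroup inverts it. -/
theorem exists_inverting [Fact (Nat.Prime 3)] (P : Sylow 3 G) :
    ∃ g ∈ Ng (P : Subgroup G), ∀ x ∈ (P : Subgroup G), g * x * g⁻¹ = x⁻¹ := by
  classical
  haveI := three_comm hG P
  letI : CommGroup (P : Subgroup G) := { (inferInstance : Group (P : Subgroup G)) with mul_comm := mul_comm' }
  set φ := (P : Subgroup G).normalizerMonoidHom with hφ
  have hfix : ∀ a : (P : Subgroup G), (∀ w ∈ φ.range, w a = a) → a = 1 := by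
    intro a ha
    haveI := Fintype.ofFinite φ.range
    let f : (P : Subgroup G) →* (P : Subgroup G) :=
      { toFun := fun v => ∏ w : φ.range, (w : MulAut (P : Subgroup G)) v
        map_one' := by simp
        map_mul' := fun u v => by simp only [map_mul, Finset.prod_mul_distrib] }
    have hfw : ∀ (w : φ.range) v, f ((w : MulAut (P : Subgroup G)) v) = f v := fun w v =>
      Fintype.prod_equiv (Equiv.mulRight w) _ _ fun x => rfl
    have hperf : commutator G = ⊤ :=
      (inferInstance : (commutator G).Normal).eq_bot_or_eq_top.resolve_left fun e => nc hG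
        ⟨⟨fun u v => commutatorElement_eq_one_iff_mul_comm.1 (Subgroup.mem_bot.1
          (e ▸ Subgroup.commutator_mem_commutator (Subgroup.mem_top u) (Subgroup.mem_top v)))⟩⟩
    have hP := Transfer.commutator_inf_eq_commutator_normalizer P (three_comm hG P)
    rw [hperf, top_inf_eq] at hP
    have hle : (P : Subgroup G) ≤ f.ker.map (P : Subgroup G).subtype := by
      conv_lhs => rw [hP]
      rw [Subgroup.commutator_le]
      intro p hp g hg
      refine ⟨⟨p, hp⟩ * φ ⟨g, hg⟩ ⟨p, hp⟩⁻¹, ?_, ?_⟩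
      · rw [SetLike.mem_coe, MonoidHom.mem_ker, map_mul, hfw ⟨φ ⟨g, hg⟩, ⟨g, hg⟩, rfl⟩, map_inv, mul_inv_cancel]
      · show p * (g * p⁻¹ * g⁻¹) = p * g * p⁻¹ * g⁻¹
        group
    have hfa : f a = a ^ Nat.card φ.range := by
      show ∏ w : φ.range, (w : MulAut (P : Subgroup G)) a = _
      rw [Finset.prod_congr rfl (g := fun _ => a) (fun w _ => ha w.1 w.2), Finset.prod_const,
        Finset.card_univ, Nat.card_eq_fintype_card]
    obtain ⟨b, hb, hba⟩ := hle a.2
    have hba' : b = a := Subtype.ext hba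
    rw [hba', SetLike.mem_coe, MonoidHom.mem_ker, hfa] at hb
    have h9 : orderOf a ∣ 3 ^ 2 := (orderOf_dvd_natCard a).trans (dvd_of_eq (card_sylow3 hG P))
    exact orderOf_eq_one_iff.1 (Nat.eq_one_of_dvd_coprimes
      (Nat.Coprime.pow_left 2 (Nat.prime_three.coprime_iff_not_dvd.2 (not_three_dvd_aut hG P))) h9
      (orderOf_dvd_of_pow_eq_one hb))
  obtain ⟨w, ⟨g, rfl⟩, hw⟩ := exists_inverting_aut (card_sylow3 hG P) (not_three_dvd_aut hG P) hfix
  exact ⟨g, g.2, fun x hx => congrArg Subtype.val (hw ⟨x, hx⟩)⟩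

end CfsgLib.MElevenUnique
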