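import Cfsg.Agent.MElevenUnique.Eleven

/-!
A simple group of order 7920: the Sylow 5-subgroups.
-/

set_option autoImplicit false

open scoped Pointwise
open MulAction

namespace CfsgLib.MElevenUnique

variable {G : Type*} [Group G] [Finite G] [IsSimpleGroup G] (hG : Nat.card G = 7920)
include hG

theorem five_options [Fact (Nat.Prime 5)] (Y : Sylow 5 G) :
    Nat.card (Ng (Y : Subgroup G)) = 720 ∧ Nat.card (Sylow 5 G) = 11 ∨
      Nat.card (Ng (Y : Subgroup G)) = 120 ∧ Nat.card (Sylow 5 G) = 66 ∨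
      Nat.card (Ng (Y : Subgroup G)) = 20 ∧ Nat.card (Sylow 5 G) = 396 := by
  have hN : Nat.card (Sylow 5 G) * Nat.card (Ng (Y : Subgroup G)) = 7920 :=
    (Small.card_sylow_mul_card_normalizer Y).trans hG
  have hY := card_sylow5 hG Y
  have hmem := Small.card_sylow_mem (nc hG) (p := 5) (k := 1) (m := 1584) (by rw [hG]; norm_num)
    one_ne_zero (by norm_num)
  simp only [Finset.mem_filter] at hmem
  have hall : ∀ n ∈ Nat.divisors 1584, n % 5 = 1 → n ≠ 1 →
      n = 6 ∨ n = 11 ∨ n = 16 ∨ n = 36 ∨ n = 66 ∨ n = 176 ∨ n = 396 := by decide +kernel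
  have h11 : ¬ 11 ∣ Nat.card (Ng (Y : Subgroup G)) := by
    intro h
    haveI := Fact.mk (show Nat.Prime 11 by norm_num)
    obtain ⟨⟨z, hzN⟩, hz⟩ := exists_prime_orderOf_dvd_card' (G := Ng (Y : Subgroup G)) 11 h
    rw [← Subgroup.orderOf_coe] at hz
    simp only at hz
    obtain ⟨⟨y, hyY⟩, hy⟩ := exists_prime_orderOf_dvd_card' (G := (Y : Subgroup G)) 5 (dvd_of_eq hY.symm)
    rw [← Subgroup.orderOf_coe] at hy
    simp only at hy
    have hc := GraphSimple.le_centralizer_of_mod (p := 11) (H := Subgroup.zpowers z) (Q := (Y : Subgroup G))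
      (IsPGroup.of_card (n := 1) (by rw [Nat.card_zpowers, hz, pow_one])) (Subgroup.zpowers_le.2 hzN) (by
        rw [hY]
        intro d hd hmod
        have := Nat.le_of_dvd (by norm_num) hd
        omega)
    have hzy : z ∈ Cg y := mem_Cg.2 (mem_Cs.1 (hc hyY) z (Subgroup.mem_zpowers z))
    refine not_eleven_Cg hG (x := y) (fun e => ?_) (by rw [hy]; norm_num)
      (hz ▸ Subgroup.orderOf_dvd_natCard _ hzy)
    rw [e, orderOf_one] at hy
    norm_num at hy
  rcases hall _ hmem.1 hmem.2.1 hmem.2.2 with h | h | h | h | h | h | h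
  · exfalso
    have h6 : (Ng (Y : Subgroup G)).index = 6 := Y.card_eq_index_normalizer.symm.trans h
    have hne : Ng (Y : Subgroup G) ≠ ⊤ := fun e => by
      rw [e, Subgroup.index_top] at h6
      norm_num at h6
    have h2 := index_ge hG hne
    rw [h6] at h2
    omega
  all_goals rw [h] at hN
  · exact Or.inl ⟨by omega, h⟩
  · exact absurd ⟨45, by omega⟩ h11
  · exact absurd ⟨20, by omega⟩ h11
  · exact Or.inr (Or.inl ⟨by omega, h⟩)
  · exfalso
    refine Small.false_of_coprime_normalizer (nc hG) Y hY ?_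
    have h45 : Nat.card (Ng (Y : Subgroup G)) = 45 := by omega
    show Nat.Coprime (Nat.card (Ng (Y : Subgroup G))) (5 - 1)
    rw [h45]
    decide
  · exact Or.inr (Or.inr ⟨by omega, h⟩)

/-- No element of order three commutes with one of order five. -/
theorem no15 {x y : G} (hx : orderOf x = 3) (hy : orderOf y = 5) (hc : Commute x y) : False := by
  classical
  haveI := Fact.mk Nat.prime_three
  haveI := Fact.mk Nat.prime_five
  obtain ⟨Y, hyY⟩ := exists_sylow_of_orderOf hy
  have hY := card_sylow5 hG Y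
  have hall : ∀ Q : Sylow 5 G, Nat.card (Q : Subgroup G) = 5 := fun Q => card_sylow5 hG Q
  have hy1 : y ≠ 1 := fun e => by rw [e, orderOf_one] at hy; norm_num at hy
  have hx1 : x ≠ 1 := fun e => by rw [e, orderOf_one] at hx; norm_num at hx
  have hxC : x ∈ Cs (Y : Subgroup G) := Small.mem_centralizer_of_commute_prime hY hyY hy1 hc
  have h3C : 3 ∣ Nat.card (Cs (Y : Subgroup G)) := hx ▸ Subgroup.orderOf_dvd_natCard _ hxC
  have h3N : 3 ∣ Nat.card (Ng (Y : Subgroup G)) := h3C.trans (Subgroup.card_dvd_of_le (Cs_le_Ng _))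
  rcases five_options hG Y with ⟨-, hn⟩ | ⟨h120, hn⟩ | ⟨h20, -⟩
  · -- eleven points
    haveI : Nontrivial (Sylow 5 G) := Finite.one_lt_card_iff_nontrivial.1 (by omega)
    have h1 := fix_modEq_inter (X := Sylow 5 G) hc (hy ▸ pow_orderOf_eq_one y)
    rw [inter_sylow_eq_one hall hy hyY hc] at h1
    have h2 := card_modEq_fix (X := Sylow 5 G) (p := 3) (hx ▸ pow_orderOf_eq_one x)
    have h3 := fixCard_le (X := Sylow 5 G) x
    exact hx1 (eq_one_of_fixCard (X := Sylow 5 G) (by omega))
  · -- sixty-six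
    set X := Subgroup.zpowers x with hXdef
    have hX : Nat.card X = 3 := by rw [Nat.card_zpowers, hx]
    have hXN : X ≤ Ng (Y : Subgroup G) := Subgroup.zpowers_le.2 (Cs_le_Ng _ hxC)
    set D := Ng (Y : Subgroup G) ⊓ Ng X with hD
    have hYX : (Y : Subgroup G) ≤ Ng X := by
      intro a ha
      refine Cs_le_Ng X (mem_Cs.2 fun b hb => ?_)
      obtain ⟨k, rfl⟩ := hb
      exact ((Commute.zpow_right ((mem_Cs.1 hxC a ha : a * x = x * a)) k)).symm
    -- the Sylow 3-subgroups of the normaliser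
    have hXS : IsPGroup 3 (X.subgroupOf (Ng (Y : Subgroup G))) := IsPGroup.of_card (n := 1) (by
      rw [Nat.card_congr (Subgroup.subgroupOfEquivOfLe hXN).toEquiv, hX, pow_one])
    have hXi : ¬ 3 ∣ (X.subgroupOf (Ng (Y : Subgroup G))).index := by
      have := (X.subgroupOf (Ng (Y : Subgroup G))).index_mul_card
      rw [Nat.card_congr (Subgroup.subgroupOfEquivOfLe hXN).toEquiv, hX, h120] at this
      omega
    let R := hXS.toSylow hXi
    have hk := Small.card_sylow_mul_card_normalizer R
    have hkm := Small.card_sylow_mod 3 (G := Ng (Y : Subgroup G))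
    rw [h120, show (R : Subgroup (Ng (Y : Subgroup G))) = X.subgroupOf (Ng (Y : Subgroup G)) from rfl,
      ← Subgroup.subgroupOf_normalizer_eq hXN,
      ← Subgroup.inf_subgroupOf_left (Ng X) (Ng (Y : Subgroup G)),
      Nat.card_congr (Subgroup.subgroupOfEquivOfLe inf_le_left).toEquiv, ← hD] at hk
    have h15 : 15 ∣ Nat.card D := by
      have hxD : x ∈ D := ⟨Cs_le_Ng _ hxC, Subgroup.le_normalizer (Subgroup.mem_zpowers x)⟩
      have hyD : y ∈ D := ⟨Subgroup.le_normalizer hyY, hYX hyY⟩
      have := Subgroup.orderOf_dvd_natCard D (mul_mem hxD hyD)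
      rwa [hc.orderOf_mul_eq_mul_orderOf_of_coprime (by rw [hx, hy]; norm_num), hx, hy] at this
    have hD' : Nat.card D = 120 ∨ Nat.card D = 30 := by
      obtain ⟨d, hd⟩ := h15
      rw [hd] at hk ⊢
      have hk8 : Nat.card (Sylow 3 (Ng (Y : Subgroup G))) ∣ 8 := ⟨d, by nlinarith⟩
      have := Nat.le_of_dvd (by norm_num) hk8
      interval_cases (Nat.card (Sylow 3 (Ng (Y : Subgroup G)))) <;> omega
    obtain ⟨P, hxP⟩ := (IsPGroup.of_card (n := 1) (by rw [hX, pow_one]) : IsPGroup 3 X).exists_le_sylow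
      |>.imp fun P h => h (Subgroup.mem_zpowers x)
    have hP := card_sylow3 hG P
    have hPx := sylow_le_Cg hG P hxP
    have hCX : Cg x = Cs X := Small.centralizer_singleton_eq_of_prime hX (Subgroup.mem_zpowers x) hx1
    have hPM : (P : Subgroup G) ≤ Ng X := (hCX ▸ hPx).trans (Cs_le_Ng X)
    have h9 : 9 ∣ Nat.card (Ng X) := hP ▸ Subgroup.card_dvd_of_le hPM
    have hMne : Ng X ≠ ⊤ := Small.normalizer_ne_top (fun e => by rw [e, Subgroup.card_bot] at hX; norm_num at hX)
      (fun e => by rw [e, Subgroup.card_top, hG] at hX; norm_num at hX)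
    have hM720 := card_le hG hMne
    have hMdvd := card_dvd hG (Ng X)
    obtain ⟨hn1, hn2⟩ := inCard_spec Y hYX
    rw [inf_comm, ← hD] at hn2
    set n := inCard 5 (Ng X)
    rcases hD' with hD120 | hD30
    · have hn6 : n = 6 := by
        rw [hD120] at hn2
        rw [hn2] at hM720 h9
        omega
      have hM : Nat.card (Ng X) = 720 := by rw [hn2, hn6, hD120]
      have hidx : Nat.card (G ⧸ Ng X) = 11 := by
        have h1 := (Ng X).index_mul_card
        rw [hM, hG, Subgroup.index_eq_card] at h1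
        omega
      haveI : Nontrivial (G ⧸ Ng X) := Finite.one_lt_card_iff_nontrivial.1 (by omega)
      have hf := fix_mul (X := G ⧸ Ng X) ((1 : G) : G ⧸ Ng X) y
      rw [MulAction.stabilizer_quotient, hM] at hf
      have hcount : Nat.card {h : G // h ∈ Ng X ∧ IsConj y h} ≤ 24 := by
        haveI := Fintype.ofFinite {Q : Sylow 5 G // (Q : Subgroup G) ≤ Ng X}
        have hex : ∀ h : {h : G // h ∈ Ng X ∧ IsConj y h}, ∃ Q : Sylow 5 G,
            (Q : Subgroup G) ≤ Ng X ∧ h.1 ∈ (Q : Subgroup G) ∧ h.1 ≠ 1 := by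
          rintro ⟨h, hM', hc'⟩
          obtain ⟨c, rfl⟩ := isConj_iff.1 hc'
          have ho : orderOf (c * y * c⁻¹) = 5 := by
            rw [← hy]; exact orderOf_injective (MulAut.conj c).toMonoidHom (MulAut.conj c).injective y
          have hne : c * y * c⁻¹ ≠ 1 := fun e => by rw [e, orderOf_one] at ho; norm_num at ho
          obtain ⟨Q, hQ⟩ := exists_sylow_of_orderOf ho
          refine ⟨Q, ?_, hQ, hne⟩
          rw [← Small.eq_zpowers_of_mem_prime (hall Q) hQ hne]
          exact Subgroup.zpowers_le.2 hM'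
        choose Q hQM hQh hne using hex
        refine (Nat.card_le_card_of_injective
          (β := Σ Q : {Q : Sylow 5 G // (Q : Subgroup G) ≤ Ng X}, {g : (Q.1 : Subgroup G) // g ≠ 1})
          (fun h => ⟨⟨Q h, hQM h⟩, ⟨⟨h.1, hQh h⟩, fun e => hne h (congrArg Subtype.val e)⟩⟩) ?_).trans ?_
        · intro a b e
          exact Subtype.ext (congrArg (fun s : Σ Q : {Q : Sylow 5 G // (Q : Subgroup G) ≤ Ng X},
            {g : (Q.1 : Subgroup G) // g ≠ 1} => (s.2.1 : G)) e)
        · have hc4 : ∀ Q : {Q : Sylow 5 G // (Q : Subgroup G) ≤ Ng X},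
              Nat.card {g : (Q.1 : Subgroup G) // g ≠ 1} = 4 := fun Q => by
            haveI := Fintype.ofFinite (Q.1 : Subgroup G)
            rw [Nat.card_eq_fintype_card, Fintype.card_subtype_compl, Fintype.card_subtype_eq,
              ← Nat.card_eq_fintype_card, hall]
          rw [Nat.card_sigma, Finset.sum_congr rfl (fun Q _ => hc4 Q), Finset.sum_const, Finset.card_univ,
            ← Nat.card_eq_fintype_card, show Nat.card {Q : Sylow 5 G // (Q : Subgroup G) ≤ Ng X} = 6 from hn6]
          norm_num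
      have hCy : Nat.card (Cg y) ≤ 60 := by
        rw [show Cg y = Cs (Y : Subgroup G) from Small.centralizer_singleton_eq_of_prime hY hyY hy1]
        have h1 := Small.card_centralizer_mul_relIndex (Y : Subgroup G)
        have h2 : (Cs (Y : Subgroup G)).relIndex (Ng (Y : Subgroup G)) ≠ 1 := fun e =>
          Small.not_normalizer_le_centralizer (nc hG) (p := 5) (by rw [hG]; norm_num) Y
            (Subgroup.relIndex_eq_one.1 e)
        rw [show Nat.card (Subgroup.normalizer ((Y : Subgroup G) : Set G)) = 120 from h120] at h1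
        change Nat.card (Cs (Y : Subgroup G)) * (Cs (Y : Subgroup G)).relIndex (Ng (Y : Subgroup G)) = 120 at h1
        rcases Nat.eq_zero_or_pos ((Cs (Y : Subgroup G)).relIndex (Ng (Y : Subgroup G))) with e | e
        · rw [e] at h1; omega
        · have : 2 ≤ (Cs (Y : Subgroup G)).relIndex (Ng (Y : Subgroup G)) := by omega
          nlinarith
      have hfy : fixCard (G ⧸ Ng X) y ≤ 2 := by
        have := Nat.mul_le_mul hcount hCy
        omega
      have hbase : ∀ g ∈ Ng X, g • ((1 : G) : G ⧸ Ng X) = ((1 : G) : G ⧸ Ng X) := fun g hg => by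
        show ((g * 1 : G) : G ⧸ Ng X) = _
        rw [mul_one, QuotientGroup.eq, mul_one]
        exact inv_mem hg
      have hxb := hbase x (Subgroup.le_normalizer (Subgroup.mem_zpowers x))
      have hyb := hbase y (hYX hyY)
      have h1 := inter_le_fix_right (X := G ⧸ Ng X) x y
      have h2 := inter_pos hxb hyb
      have h3 := fix_modEq_inter (X := G ⧸ Ng X) hc (hy ▸ pow_orderOf_eq_one y)
      have h4 := card_modEq_fix (X := G ⧸ Ng X) (p := 3) (hx ▸ pow_orderOf_eq_one x)
      have h5 := card_modEq_fix (X := G ⧸ Ng X) (p := 5) (hy ▸ pow_orderOf_eq_one y)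
      have h6 := fixCard_le (X := G ⧸ Ng X) x
      rw [hidx] at h4 h5 h6
      have h7 : fixCard (G ⧸ Ng X) y = 1 := by omega
      have h8 : Nat.card {a : G ⧸ Ng X // x • a = a ∧ y • a = a} = 1 := by omega
      exact hx1 (eq_one_of_fixCard (X := G ⧸ Ng X) (by omega))
    · have hn6 : n = 6 := by
        rw [hD30] at hn2
        rw [hn2] at hM720 h9 hMdvd
        have : n ≤ 24 := by omega
        rcases (show n = 6 ∨ n = 21 by omega) with e | e
        · exact e
        · rw [e] at hMdvd; norm_num at hMdvd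
      have hM : Nat.card (Ng X) = 180 := by rw [hn2, hn6, hD30]
      obtain ⟨g, hgN, hg⟩ := exists_inverting hG P
      have hgM : g ∈ Ng X := by
        rw [Subgroup.mem_normalizer_iff]
        intro z
        constructor
        · rintro ⟨k, rfl⟩
          refine ⟨-k, ?_⟩
          show x ^ (-k) = g * x ^ k * g⁻¹
          rw [zpow_neg, ← inv_zpow, ← hg x hxP, conj_zpow]
        · rintro ⟨k, hk⟩
          refine ⟨-k, ?_⟩
          show x ^ (-k) = z
          have h1 : g⁻¹ * x * g = x⁻¹ := by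
            have h0 : g * x * g⁻¹ = x⁻¹ := hg x hxP
            have h0' : g * x⁻¹ * g⁻¹ = x := by rw [← conj_inv, h0, inv_inv]
            nth_rewrite 1 [← h0']
            group
          rw [zpow_neg, ← inv_zpow, ← h1]
          have := conj_zpow (a := g⁻¹) (b := x) (i := k)
          rw [inv_inv] at this
          rw [this, show x ^ k = g * z * g⁻¹ from hk]
          group
      have hrel := Small.relIndex_centralizer_dvd_pred hX
      have h1 := Small.card_centralizer_mul_relIndex X
      have hne1 : (Cs X).relIndex (Ng X) ≠ 1 := fun e => by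
        have hgC := Subgroup.relIndex_eq_one.1 e hgM
        have hgx : g * x * g⁻¹ = x := by
          rw [← mem_Cs.1 hgC x (Subgroup.mem_zpowers x), mul_inv_cancel_right]
        rw [hg x hxP] at hgx
        have : x ^ 2 = 1 := by rw [pow_two]; nth_rewrite 1 [← hgx]; group
        have := orderOf_dvd_of_pow_eq_one this
        rw [hx] at this
        norm_num at this
      have hrel2 : (Cs X).relIndex (Ng X) = 2 :=
        ((Nat.dvd_prime Nat.prime_two).1 hrel).resolve_left hne1
      have hC : Nat.card (Cg x) = 90 := by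
        change Nat.card (Cs X) * (Cs X).relIndex (Ng X) = Nat.card (Ng X) at h1
        rw [hrel2, hM] at h1
        rw [hCX]; omega
      have hYC : (Y : Subgroup G) ≤ Cg x := le_Cg_of_mem_Cs hxC
      obtain ⟨hc1, hc2⟩ := inCard_spec Y hYC
      have hd30 : Nat.card ↥(Cg x ⊓ Ng (Y : Subgroup G)) ∣ 30 := by
        rw [← hD30, hD]
        exact Subgroup.card_dvd_of_le (le_inf inf_le_right (inf_le_left.trans (hCX ▸ Cs_le_Ng X)))
      have hd90 := Nat.le_of_dvd (by norm_num) hd30
      -- Sylow 3-subgroups of the centraliser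
      obtain ⟨hp1, hp2⟩ := inCard_spec P hPx
      have h9P : 9 ∣ Nat.card ↥(Cg x ⊓ Ng (P : Subgroup G)) :=
        hP ▸ Subgroup.card_dvd_of_le (le_inf hPx Subgroup.le_normalizer)
      have hn3 : inCard 3 (Cg x) = 1 ∨ inCard 3 (Cg x) = 10 := by
        obtain ⟨d, hd⟩ := h9P
        rw [hd, hC] at hp2
        have hk10 : inCard 3 (Cg x) ∣ 10 := ⟨d, by nlinarith⟩
        have := Nat.le_of_dvd (by norm_num) hk10
        interval_cases (inCard 3 (Cg x)) <;> omega
      have hY5 : 2 < inCard 5 (Cg x) := by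
        by_contra hle
        rw [hC] at hc2
        have := Nat.mul_le_mul (not_lt.1 hle) hd90
        omega
      rcases hn3 with h1' | h10
      · -- y normalises P
        have hyNP : y ∈ Ng (P : Subgroup G) := by
          refine smul_sylow_eq_iff.1 (eq_of_inCard_one h1' ?_ hPx)
          rw [Sylow.coe_subgroup_smul]
          intro z hz
          rw [Subgroup.mem_pointwise_smul_iff_inv_smul_mem, ← map_inv] at hz
          simp only [MulAut.smul_def, MulAut.conj_apply, inv_inv] at hz
          have := mul_mem (mul_mem (hYC hyY) (hPx hz)) (inv_mem (hYC hyY))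
          simpa [mul_assoc] using this
        have hcen := GraphSimple.le_centralizer_of_mod (p := 5) (H := Subgroup.zpowers y) (Q := (P : Subgroup G))
          (IsPGroup.of_card (n := 1) (by rw [Nat.card_zpowers, hy, pow_one]))
          (Subgroup.zpowers_le.2 hyNP) (by
            rw [hP]
            intro d hd hmod
            have := Nat.le_of_dvd (by norm_num) hd
            interval_cases d <;> omega)
        have hle : (P : Subgroup G) ≤ Cg y := fun a ha =>
          mem_Cg.2 (mem_Cs.1 (hcen ha) y (Subgroup.mem_zpowers y)).symm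
        have h9y := Subgroup.card_dvd_of_le hle
        rw [hP, show Cg y = Cs (Y : Subgroup G) from Small.centralizer_singleton_eq_of_prime hY hyY hy1] at h9y
        have := (h9y.trans (Subgroup.card_dvd_of_le (Cs_le_Ng (Y : Subgroup G)))).trans (dvd_of_eq h120)
        norm_num at this
      · -- normal complement of order ten
        set C := Cg x
        set P' := (P : Subgroup G).subgroupOf C with hP'
        have hP'c : Nat.card P' = 3 ^ 2 := by
          rw [hP', Nat.card_congr (Subgroup.subgroupOfEquivOfLe hPx).toEquiv, hP]; norm_num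
        have heq : C ⊓ Ng (P : Subgroup G) = (P : Subgroup G) := by
          refine (Subgroup.eq_of_le_of_card_ge (le_inf hPx Subgroup.le_normalizer) ?_).symm
          rw [hC, h10] at hp2
          have h9' : Nat.card ↥(C ⊓ Ng (P : Subgroup G)) = 9 := by omega
          exact le_of_eq (h9'.trans hP.symm)
        obtain ⟨M, hMn, -, hMc⟩ := GraphSimple.exists_normal_complement (G := C) (p := 3) (a := 2)
          (K := (⊤ : Subgroup C)) (H := P') le_top hP'c (by rw [Subgroup.card_top, hC, hP'c]; norm_num) (by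
            rintro c ⟨hc, -⟩ q hq
            have hcN : (c : G) ∈ C ⊓ Ng (P : Subgroup G) := by
              refine ⟨c.2, ?_⟩
              rw [hP', ← Subgroup.subgroupOf_normalizer_eq hPx] at hc
              exact hc
            rw [heq] at hcN
            exact Subtype.ext (mem_Cs.1 (sylow_le_Cs hG P hcN) q hq))
        rw [Subgroup.card_top, hC, hP'c] at hMc
        set M0 := M.map C.subtype
        have hM0 : Nat.card M0 = 10 := by rw [Subgroup.card_subtype]; omega
        have hin : ∀ Q : Sylow 5 G, (Q : Subgroup G) ≤ C → (Q : Subgroup G) ≤ M0 := by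
          intro Q hQ a ha
          refine ⟨⟨a, hQ ha⟩, ?_, rfl⟩
          by_contra hn
          have h1 : orderOf (QuotientGroup.mk' M ⟨a, hQ ha⟩) ∣ 5 := by
            refine (orderOf_map_dvd _ _).trans ?_
            rw [← Subgroup.orderOf_coe]
            exact (Subgroup.orderOf_dvd_natCard _ ha).trans (dvd_of_eq (hall Q))
          have h2 : orderOf (QuotientGroup.mk' M ⟨a, hQ ha⟩) ∣ 9 := by
            refine (orderOf_dvd_natCard _).trans ?_
            have := M.index_mul_card
            rw [← Subgroup.index_eq_card]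
            rw [hC] at this
            exact dvd_of_eq (by nlinarith)
          exact hn ((QuotientGroup.eq_one_iff _).1
            (orderOf_eq_one_iff.1 (Nat.eq_one_of_dvd_coprimes (by norm_num) h1 h2)))
        have hYM := hin Y hYC
        obtain ⟨hm1, hm2⟩ := inCard_spec Y hYM
        have hm5 : 5 ∣ Nat.card ↥(M0 ⊓ Ng (Y : Subgroup G)) :=
          (dvd_of_eq hY.symm).trans (Subgroup.card_dvd_of_le (le_inf hYM Subgroup.le_normalizer))
        have hone : inCard 5 M0 = 1 := by
          obtain ⟨d, hd⟩ := hm5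
          rw [hd, hM0] at hm2
          have hk2 : inCard 5 M0 ∣ 2 := ⟨d, by nlinarith⟩
          have := Nat.le_of_dvd (by norm_num) hk2
          omega
        have : inCard 5 C ≤ inCard 5 M0 :=
          Nat.card_le_card_of_injective (fun Q => ⟨Q.1, hin Q.1 Q.2⟩) fun a b e => Subtype.ext (congrArg Subtype.val e :)
        omega
  · rw [h20] at h3N
    norm_num at h3N

theorem five [Fact (Nat.Prime 5)] (Y : Sylow 5 G) :
    Nat.card (Ng (Y : Subgroup G)) = 20 ∧ Nat.card (Cs (Y : Subgroup G)) ∣ 10 ∧ Nat.card (Sylow 5 G) = 396 := by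
  haveI := Fact.mk Nat.prime_three
  have hY := card_sylow5 hG Y
  have h1 := Small.card_centralizer_mul_relIndex (Y : Subgroup G)
  have he := Small.relIndex_centralizer_dvd_pred hY
  have hne : (Cs (Y : Subgroup G)).relIndex (Ng (Y : Subgroup G)) ≠ 1 := fun e =>
    Small.not_normalizer_le_centralizer (nc hG) (p := 5) (by rw [hG]; norm_num) Y
      (Subgroup.relIndex_eq_one.1 e)
  change Nat.card (Cs (Y : Subgroup G)) * (Cs (Y : Subgroup G)).relIndex (Ng (Y : Subgroup G))
    = Nat.card (Ng (Y : Subgroup G)) at h1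
  set e := (Cs (Y : Subgroup G)).relIndex (Ng (Y : Subgroup G))
  have he' : e = 2 ∨ e = 4 := by
    have : e ∣ 4 := he
    have := Nat.le_of_dvd (by norm_num) this
    interval_cases e <;> omega
  obtain ⟨⟨y, hyY⟩, hy⟩ := exists_prime_orderOf_dvd_card' (G := (Y : Subgroup G)) 5 (dvd_of_eq hY.symm)
  rw [← Subgroup.orderOf_coe] at hy
  simp only at hy
  have h3 : ¬ 3 ∣ Nat.card (Cs (Y : Subgroup G)) := fun h => by
    obtain ⟨⟨x, hxC⟩, hx⟩ := exists_prime_orderOf_dvd_card' (G := Cs (Y : Subgroup G)) 3 h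
    rw [← Subgroup.orderOf_coe] at hx
    exact no15 hG hx hy (mem_Cs.1 hxC y hyY).symm
  rcases five_options hG Y with ⟨h, hn⟩ | ⟨h, hn⟩ | ⟨h, hn⟩ <;> rw [h] at h1
  · exact absurd (by rcases he' with e' | e' <;> rw [e'] at h1 <;> omega) h3
  · exact absurd (by rcases he' with e' | e' <;> rw [e'] at h1 <;> omega) h3
  · refine ⟨h, ?_, hn⟩
    rcases he' with e' | e' <;> rw [e'] at h1
    · exact dvd_of_eq (by omega)
    · exact ⟨2, by omega⟩

theorem card_Cg_five {y : G} (hy : orderOf y = 5) : Nat.card (Cg y) ∣ 10 := by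
  haveI := Fact.mk Nat.prime_five
  obtain ⟨Y, hyY⟩ := exists_sylow_of_orderOf hy
  rw [show Cg y = Cs (Y : Subgroup G) from Small.centralizer_singleton_eq_of_prime (card_sylow5 hG Y) hyY
    (fun e => by rw [e, orderOf_one] at hy; norm_num at hy)]
  exact (five hG Y).2.1

theorem not_five_Cg_three {x : G} (hx : orderOf x = 3) : ¬ 5 ∣ Nat.card (Cg x) := by
  intro h
  haveI := Fact.mk Nat.prime_five
  obtain ⟨⟨y, hyC⟩, hy⟩ := exists_prime_orderOf_dvd_card' (G := Cg x) 5 h
  rw [← Subgroup.orderOf_coe] at hy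
  exact no15 hG hx hy (mem_Cg.1 hyC).symm

theorem invol_five {v : G} (hv : orderOf v = 2) (h5 : 5 ∣ Nat.card (Cg v)) :
    ∃ y : G, orderOf y = 5 ∧ y ∈ Cg v ∧ inCard 5 (Cg v) % 5 = 1 ∧
      Nat.card (Cg v) = 20 * inCard 5 (Cg v) := by
  haveI := Fact.mk Nat.prime_five
  obtain ⟨⟨y, hyC⟩, hy⟩ := exists_prime_orderOf_dvd_card' (G := Cg v) 5 h5
  rw [← Subgroup.orderOf_coe] at hy
  simp only at hy
  obtain ⟨Y, hyY⟩ := exists_sylow_of_orderOf hy
  have hY := card_sylow5 hG Y
  have hy1 : y ≠ 1 := fun e => by rw [e, orderOf_one] at hy; norm_num at hy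
  have hc : Commute v y := (mem_Cg.1 hyC).symm
  have hvC : v ∈ Cs (Y : Subgroup G) := Small.mem_centralizer_of_commute_prime hY hyY hy1 hc
  have hyCs : y ∈ Cs (Y : Subgroup G) := GraphSimple.le_centralizer_of_cyclic_prime hY hyY
  have hYv : (Y : Subgroup G) ≤ Cg v := le_Cg_of_mem_Cs hvC
  have ho : orderOf (v * y) = 10 := by
    rw [hc.orderOf_mul_eq_mul_orderOf_of_coprime (by rw [hv, hy]; norm_num), hv, hy]
  have heq : Subgroup.zpowers (v * y) = Cs (Y : Subgroup G) :=
    Subgroup.eq_of_le_of_card_ge (Subgroup.zpowers_le.2 (mul_mem hvC hyCs))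
      (by rw [Nat.card_zpowers, ho]; exact Nat.le_of_dvd (by norm_num) (five hG Y).2.1)
  have hNle : Ng (Y : Subgroup G) ≤ Cg v := by
    intro g hg
    have hwC : g * v * g⁻¹ ∈ Cs (Y : Subgroup G) := by
      refine mem_Cs.2 fun b hb => ?_
      have hb' : g⁻¹ * b * g ∈ (Y : Subgroup G) := (Subgroup.mem_normalizer_iff''.1 hg b).1 hb
      calc b * (g * v * g⁻¹) = g * ((g⁻¹ * b * g) * v) * g⁻¹ := by group
        _ = g * (v * (g⁻¹ * b * g)) * g⁻¹ := by rw [mem_Cs.1 hvC _ hb']
        _ = g * v * g⁻¹ * b := by group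
    rw [← heq] at hwC
    obtain ⟨i, hi⟩ := hwC
    have hi' : (v * y) ^ i = g * v * g⁻¹ := hi
    have hwo : orderOf (g * v * g⁻¹) = 2 := by
      rw [← hv]; exact orderOf_injective (MulAut.conj g).toMonoidHom (MulAut.conj g).injective v
    have h2 : (v * y) ^ (i * 2) = 1 := by
      rw [zpow_mul, hi', show (2 : ℤ) = ((2 : ℕ) : ℤ) from rfl, zpow_natCast, ← hwo, pow_orderOf_eq_one]
    have h10 := orderOf_dvd_iff_zpow_eq_one.2 h2
    rw [ho] at h10
    obtain ⟨j, rfl⟩ : ∃ j, i = 5 * j := ⟨i / 5, by omega⟩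
    have hv5 : (v * y) ^ (5 : ℤ) = v := by
      rw [show (5 : ℤ) = ((5 : ℕ) : ℤ) from rfl, zpow_natCast, hc.mul_pow,
        show y ^ 5 = 1 from hy ▸ pow_orderOf_eq_one y, mul_one, show v ^ 5 = v ^ 1 from ?_, pow_one]
      rw [← pow_mod_orderOf, hv]
    rw [zpow_mul, hv5] at hi'
    have hjv : v ^ j = v := by
      rcases Int.emod_two_eq_zero_or_one j with e | e
      · exfalso
        rw [← zpow_mod_orderOf, hv, show ((2 : ℕ) : ℤ) = 2 from rfl, e, zpow_zero] at hi'
        rw [← hi', orderOf_one] at hwo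
        norm_num at hwo
      · rw [← zpow_mod_orderOf, hv, show ((2 : ℕ) : ℤ) = 2 from rfl, e, zpow_one]
    rw [hjv] at hi'
    refine mem_Cg.2 ?_
    calc g * v = g * v * g⁻¹ * g := by group
      _ = v * g := by rw [← hi']
  obtain ⟨h1, h2⟩ := inCard_spec Y hYv
  rw [inf_eq_right.2 hNle, (five hG Y).1] at h2
  exact ⟨y, hy, hyC, h1, by omega⟩

/-- An involution with a Sylow 2-subgroup in its centraliser commutes with nothing of order five. -/
theorem no_five {v : G} (hv : orderOf v = 2) (h16 : 16 ∣ Nat.card (Cg v)) : ¬ 5 ∣ Nat.card (Cg v) := by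
  classical
  intro h5
  haveI := Fact.mk Nat.prime_five
  obtain ⟨y, hy, hyC, hn1, hn2⟩ := invol_five hG hv h5
  have hv1 : v ≠ 1 := fun e => by rw [e, orderOf_one] at hv; norm_num at hv
  have hM720 := card_le hG (Cg_ne_top hG hv1)
  have hMdvd := card_dvd hG (Cg v)
  have hn : inCard 5 (Cg v) = 36 := by
    rw [hn2] at hM720 h16 hMdvd
    rcases (show inCard 5 (Cg v) = 16 ∨ inCard 5 (Cg v) = 36 by omega) with e | e
    · rw [e] at hMdvd; norm_num at hMdvd
    · exact e
  have hM : Nat.card (Cg v) = 720 := by rw [hn2, hn]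
  have hall : ∀ Q : Sylow 5 G, Nat.card (Q : Subgroup G) = 5 := fun Q => card_sylow5 hG Q
  have hidx : Nat.card (G ⧸ Cg v) = 11 := by
    have h1 := (Cg v).index_mul_card
    rw [hM, hG, Subgroup.index_eq_card] at h1
    omega
  haveI : Nontrivial (G ⧸ Cg v) := Finite.one_lt_card_iff_nontrivial.1 (by omega)
  have hf := fix_mul (X := G ⧸ Cg v) ((1 : G) : G ⧸ Cg v) y
  rw [MulAction.stabilizer_quotient, hM] at hf
  have hcount : Nat.card {h : G // h ∈ Cg v ∧ IsConj y h} ≤ 144 := by
    haveI := Fintype.ofFinite {Q : Sylow 5 G // (Q : Subgroup G) ≤ Cg v}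
    have hex : ∀ h : {h : G // h ∈ Cg v ∧ IsConj y h}, ∃ Q : Sylow 5 G,
        (Q : Subgroup G) ≤ Cg v ∧ h.1 ∈ (Q : Subgroup G) ∧ h.1 ≠ 1 := by
      rintro ⟨h, hM', hc'⟩
      obtain ⟨c, rfl⟩ := isConj_iff.1 hc'
      have ho : orderOf (c * y * c⁻¹) = 5 := by
        rw [← hy]; exact orderOf_injective (MulAut.conj c).toMonoidHom (MulAut.conj c).injective y
      have hne : c * y * c⁻¹ ≠ 1 := fun e => by rw [e, orderOf_one] at ho; norm_num at ho
      obtain ⟨Q, hQ⟩ := exists_sylow_of_orderOf ho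
      refine ⟨Q, ?_, hQ, hne⟩
      rw [← Small.eq_zpowers_of_mem_prime (hall Q) hQ hne]
      exact Subgroup.zpowers_le.2 hM'
    choose Q hQM hQh hne using hex
    refine (Nat.card_le_card_of_injective
      (β := Σ Q : {Q : Sylow 5 G // (Q : Subgroup G) ≤ Cg v}, {g : (Q.1 : Subgroup G) // g ≠ 1})
      (fun h => ⟨⟨Q h, hQM h⟩, ⟨⟨h.1, hQh h⟩, fun e => hne h (congrArg Subtype.val e)⟩⟩) ?_).trans ?_
    · intro a b e
      exact Subtype.ext (congrArg (fun s : Σ Q : {Q : Sylow 5 G // (Q : Subgroup G) ≤ Cg v},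
        {g : (Q.1 : Subgroup G) // g ≠ 1} => (s.2.1 : G)) e)
    · have hc4 : ∀ Q : {Q : Sylow 5 G // (Q : Subgroup G) ≤ Cg v},
          Nat.card {g : (Q.1 : Subgroup G) // g ≠ 1} = 4 := fun Q => by
        haveI := Fintype.ofFinite (Q.1 : Subgroup G)
        rw [Nat.card_eq_fintype_card, Fintype.card_subtype_compl, Fintype.card_subtype_eq,
          ← Nat.card_eq_fintype_card, hall]
      rw [Nat.card_sigma, Finset.sum_congr rfl (fun Q _ => hc4 Q), Finset.sum_const, Finset.card_univ,
        ← Nat.card_eq_fintype_card, show Nat.card {Q : Sylow 5 G // (Q : Subgroup G) ≤ Cg v} = 36 from hn]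
      norm_num
  have hCy := Nat.le_of_dvd (by norm_num) (card_Cg_five hG hy)
  have hfy : fixCard (G ⧸ Cg v) y ≤ 2 := by
    have := Nat.mul_le_mul hcount hCy
    omega
  have hbase : ∀ g ∈ Cg v, g • ((1 : G) : G ⧸ Cg v) = ((1 : G) : G ⧸ Cg v) := fun g hg => by
    show ((g * 1 : G) : G ⧸ Cg v) = _
    rw [mul_one, QuotientGroup.eq, mul_one]
    exact inv_mem hg
  have h2 := inter_pos (hbase v (mem_Cg.2 rfl)) (hbase y hyC)
  have h1 := inter_le_fix_right (X := G ⧸ Cg v) v y
  have h3 := fix_modEq_inter (X := G ⧸ Cg v) (x := v) (mem_Cg.1 hyC : Commute y v).symm (hy ▸ pow_orderOf_eq_one y)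
  have h4 := four_dvd_moved (X := G ⧸ Cg v) (nc hG) hv
  have h5' := card_modEq_fix (X := G ⧸ Cg v) (p := 5) (hy ▸ pow_orderOf_eq_one y)
  have h6 := fixCard_le (X := G ⧸ Cg v) v
  rw [hidx] at h4 h5' h6
  have h7 : fixCard (G ⧸ Cg v) y = 1 := by omega
  have h8 : fixCard (G ⧸ Cg v) v % 5 = 1 := by omega
  have h9 : fixCard (G ⧸ Cg v) v = 11 := by
    generalize fixCard (G ⧸ Cg v) v = f at h4 h6 h8
    interval_cases f <;> omega
  exact hv1 (eq_one_of_fixCard (X := G ⧸ Cg v) (by omega))

/-- A subgroup of order divisible by five normalises no subgroup of order 4. -/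
theorem not_five_normalizes {H A : Subgroup G} (h5 : 5 ∣ Nat.card H) (hA : Nat.card A = 4)
    (hn : H ≤ Ng A) : False := by
  haveI := Fact.mk Nat.prime_five
  obtain ⟨⟨y, hyH⟩, hy⟩ := exists_prime_orderOf_dvd_card' (G := H) 5 h5
  rw [← Subgroup.orderOf_coe] at hy
  simp only at hy
  have hc := GraphSimple.le_centralizer_of_mod (p := 5) (H := Subgroup.zpowers y) (Q := A)
    (IsPGroup.of_card (n := 1) (by rw [Nat.card_zpowers, hy, pow_one]))
    (Subgroup.zpowers_le.2 (hn hyH)) (by
      rw [hA]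
      intro d hd hmod
      have := Nat.le_of_dvd (by norm_num) hd
      omega)
  have hle : A ≤ Cg y := fun a ha => mem_Cg.2 (mem_Cs.1 (hc ha) y (Subgroup.mem_zpowers y)).symm
  have := (Subgroup.card_dvd_of_le hle).trans (card_Cg_five hG hy)
  rw [hA] at this
  norm_num at this

end CfsgLib.MElevenUnique
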