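import Cfsg.Agent.MElevenUnique.ThreeBasic

/-!
Permutations of the four Sylow 3-subgroups in the centraliser of a bad element of order three.
-/

set_option autoImplicit false

open scoped Pointwise
open MulAction

namespace CfsgLib.MElevenUnique

section Perm

variable {Y : Type*} [Fintype Y] [DecidableEq Y]

theorem isSwap_of_two_fixed (h4 : Fintype.card Y = 4) {σ : Equiv.Perm Y} {a b : Y} (hab : a ≠ b)
    (ha : σ a = a) (hb : σ b = b) (hu : ∀ x, σ x = x → x = a ∨ x = b) : σ.IsSwap := by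
  rw [← Equiv.Perm.card_support_eq_two]
  have h : σ.support = ({a, b} : Finset Y)ᶜ := by
    ext x
    simp only [Equiv.Perm.mem_support, Finset.mem_compl, Finset.mem_insert, Finset.mem_singleton, not_or]
    exact ⟨fun h => ⟨fun e => h (e ▸ ha), fun e => h (e ▸ hb)⟩, fun h e => (hu x e).elim h.1 h.2⟩
  rw [h, Finset.card_compl, Finset.card_pair hab, h4]

theorem exists_fixed_of_odd (h4 : Fintype.card Y = 4) {σ : Equiv.Perm Y} (h2 : σ * σ = 1)
    (hs : Equiv.Perm.sign σ = -1) : ∃ x, σ x = x := by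
  by_contra h
  push Not at h
  have hne : σ ≠ 1 := fun e => by rw [e, map_one] at hs; exact absurd hs (by decide)
  have ho : orderOf σ = 2 := orderOf_eq_prime (by rw [pow_two, h2]) hne
  have hsupp : σ.support = Finset.univ := Finset.eq_univ_iff_forall.2 fun x =>
    Equiv.Perm.mem_support.2 (h x)
  rw [Small.sign_of_sq_eq_one ho, hsupp, Finset.card_univ, h4] at hs
  exact absurd hs (by decide)

theorem card_swaps_le (h4 : Fintype.card Y = 4) : Nat.card {σ : Equiv.Perm Y // σ.IsSwap} ≤ 6 := by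
  have h6 : Nat.card ((Finset.univ : Finset Y).powersetCard 2 : Finset (Finset Y)) = 6 := by
    rw [Nat.card_eq_fintype_card, Fintype.card_coe, Finset.card_powersetCard, Finset.card_univ, h4]
    decide
  rw [← h6]
  refine Nat.card_le_card_of_injective (fun σ => ⟨σ.1.support, Finset.mem_powersetCard.2
    ⟨Finset.subset_univ _, Equiv.Perm.card_support_eq_two.2 σ.2⟩⟩) ?_
  rintro ⟨σ, x, y, hxy, rfl⟩ ⟨τ, x', y', hxy', rfl⟩ h
  have h' := congrArg Subtype.val h
  simp only [Equiv.Perm.support_swap hxy, Equiv.Perm.support_swap hxy'] at h'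
  refine Subtype.ext (show Equiv.swap x y = Equiv.swap x' y' from ?_)
  have hx : x ∈ ({x', y'} : Finset Y) := by rw [← h']; simp
  have hy : y ∈ ({x', y'} : Finset Y) := by rw [← h']; simp
  simp only [Finset.mem_insert, Finset.mem_singleton] at hx hy
  rcases hx with rfl | rfl <;> rcases hy with rfl | rfl
  · exact absurd rfl hxy
  · rfl
  · exact Equiv.swap_comm _ _
  · exact absurd rfl hxy

theorem card_square_one_le (h4 : Fintype.card Y = 4) :
    Nat.card {σ : Equiv.Perm Y // σ * σ = 1} = 10 := by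
  let e : Y ≃ Fin 4 := Fintype.equivFinOfCardEq h4
  rw [Nat.card_congr (e.permCongrHom.toEquiv.subtypeEquiv (q := fun σ : Equiv.Perm (Fin 4) => σ * σ = 1)
    fun σ => ?_), Nat.card_eq_fintype_card]
  · decide
  · show σ * σ = 1 ↔ e.permCongrHom σ * e.permCongrHom σ = 1
    rw [← map_mul, map_eq_one_iff _ e.permCongrHom.injective]

end Perm

variable {G : Type*} [Group G]

/-- The Sylow subgroups inside `L`, acted on by `L`. -/
def insideSylows (p : ℕ) (L : Subgroup G) : SubMulAction L (Sylow p G) where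
  carrier := {R | (R : Subgroup G) ≤ L}
  smul_mem' c _ hR := smul_sylow_le c.2 hR

theorem coe_insideSylows_smul {p : ℕ} {L : Subgroup G} (c : L) (R : insideSylows p L) :
    ((c • R : insideSylows p L) : Sylow p G) = (c : G) • (R : Sylow p G) := rfl

variable [Finite G]

theorem zpowers_three {v x : G} (hv : orderOf v = 3) (hx : x ∈ Subgroup.zpowers v) :
    x = 1 ∨ x = v ∨ x = v⁻¹ := by
  obtain ⟨k, rfl⟩ := hx
  show v ^ k = 1 ∨ v ^ k = v ∨ v ^ k = v⁻¹
  rw [← zpow_mod_orderOf, hv]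
  have h0 := Int.emod_nonneg k (show ((3 : ℕ) : ℤ) ≠ 0 by norm_num)
  have h1 := Int.emod_lt_of_pos k (show (0 : ℤ) < ((3 : ℕ) : ℤ) by norm_num)
  rcases (show k % ((3 : ℕ) : ℤ) = 0 ∨ k % ((3 : ℕ) : ℤ) = 1 ∨ k % ((3 : ℕ) : ℤ) = 2 by omega) with
    e | e | e <;> rw [e]
  · exact Or.inl (zpow_zero v)
  · exact Or.inr (Or.inl (zpow_one v))
  · refine Or.inr (Or.inr (eq_inv_of_mul_eq_one_left ?_))
    rw [← zpow_add_one, show (2 : ℤ) + 1 = ((3 : ℕ) : ℤ) by norm_num, zpow_natCast, ← hv, pow_orderOf_eq_one]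

variable [IsSimpleGroup G] [Fact (Nat.Prime 3)] (hG : Nat.card G = 7920)
include hG

/-- An element inverting `P` modulo `⟨u⟩` fixes `P` and one further Sylow subgroup of `C(u)`. -/
theorem exactly_two {P : Sylow 3 G} {u k : G} (hu : u ∈ (P : Subgroup G)) (hu1 : u ≠ 1)
    (hb : inCard 3 (Cg u) = 4) (hk : k ∈ Ng (P : Subgroup G))
    (hinv : ∀ e ∈ (P : Subgroup G), k * e * k⁻¹ * e ∈ Subgroup.zpowers u) :
    ∃ R : Sylow 3 G, (R : Subgroup G) ≤ Cg u ∧ R ≠ P ∧ k • R = R ∧
      ∀ T : Sylow 3 G, (T : Subgroup G) ≤ Cg u → k • T = T → T = P ∨ T = R := by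
  have hkL : k ∈ Ng (Subgroup.zpowers u) := by
    refine mem_Ng_zpowers ?_
    have := mul_mem (hinv u hu) (inv_mem (Subgroup.mem_zpowers u))
    rwa [mul_inv_cancel_right] at this
  have hkle : ∀ T : Sylow 3 G, (T : Subgroup G) ≤ Cg u → ((k • T : Sylow 3 G) : Subgroup G) ≤ Cg u := by
    intro T hT z hz
    have h := (mem_smul_sylow T k (x := k⁻¹ * z * k)).1 (by simpa [mul_assoc] using hz)
    have := Ng_zpowers_Cg hkL (hT h)
    simpa [mul_assoc] using this
  have hkne : ∀ T : Sylow 3 G, T ≠ P → k • T ≠ P := fun T hT e =>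
    hT (MulAction.injective k (e.trans (smul_sylow_eq_iff.2 hk).symm))
  have hufix : ∀ T : Sylow 3 G, (T : Subgroup G) ≤ Cg u → ∀ c ∈ Subgroup.zpowers u, c • T = T := by
    intro T hT c hc
    exact smul_sylow_eq_iff.2 (Subgroup.le_normalizer
      ((Subgroup.zpowers_le.2 ((mem_iff_le_Cg hG hu).2 hT)) hc))
  have key : ∀ T : Sylow 3 G, (T : Subgroup G) ≤ Cg u → ∀ e ∈ (P : Subgroup G),
      k • e • T = e⁻¹ • k • T := by
    intro T hT e he
    rw [smul_smul, show k * e = (k * e * k⁻¹ * e) * e⁻¹ * k by group, mul_smul, mul_smul]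
    exact hufix _ (smul_sylow_le (sylow_le_Cg hG P hu (inv_mem he)) (hkle T hT)) _ (hinv e he)
  obtain ⟨Q, hQ, hQP⟩ := exists_other hG (P := P) hb
  obtain ⟨v, hv, hvQ⟩ := bad_orbit hG hu hu1 hb hQ hQP (hkle Q hQ) (hkne Q hQP)
  have hvu : v ∈ Cg u := sylow_le_Cg hG P hu hv
  refine ⟨v ^ 5 • Q, smul_sylow_le (pow_mem hvu 5) hQ, fun e => hQP (MulAction.injective (v ^ 5)
    (e.trans (smul_sylow_eq_iff.2 (Subgroup.le_normalizer (pow_mem hv 5))).symm)), ?_, ?_⟩
  · rw [key Q hQ _ (pow_mem hv 5), ← hvQ, smul_smul]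
    congr 1
    rw [inv_mul_eq_iff_eq_mul, ← pow_add, show 5 + 5 = 9 + 1 by norm_num, pow_succ, pow_nine hG hv, one_mul]
  · intro T hT hkT
    by_cases hTP : T = P
    · exact Or.inl hTP
    refine Or.inr ?_
    set R := v ^ 5 • Q with hR
    have hRle : (R : Subgroup G) ≤ Cg u := smul_sylow_le (pow_mem hvu 5) hQ
    have hRP : R ≠ P := fun e => hQP (MulAction.injective (v ^ 5)
      (e.trans (smul_sylow_eq_iff.2 (Subgroup.le_normalizer (pow_mem hv 5))).symm))
    obtain ⟨f, hf, hfR⟩ := bad_orbit hG hu hu1 hb hRle hRP hT hTP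
    have hkR : k • R = R := by
      rw [hR, key Q hQ _ (pow_mem hv 5), ← hvQ, smul_smul]
      congr 1
      rw [inv_mul_eq_iff_eq_mul, ← pow_add, show 5 + 5 = 9 + 1 by norm_num, pow_succ, pow_nine hG hv, one_mul]
    rw [← hfR, key R hRle f hf, hkR, inv_smul_eq_iff, smul_smul] at hkT
    have h5 := pow_smul_eq hkT.symm 5
    rw [← eq_self_of_pow_nine (pow_nine hG hf), hfR] at h5
    exact h5

end CfsgLib.MElevenUnique
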