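import Cfsg.Agent.MElevenUnique.Involutions

/-!
A simple group of order 7920: a Sylow 3-subgroup with an inverting involution.
-/

set_option autoImplicit false

open scoped Pointwise
open MulAction

namespace CfsgLib.MElevenUnique

variable (G : Type*) [Group G]

/-- A Sylow 3-subgroup with an element inverting it. -/
structure Frame where
  P : Sylow 3 G
  t : G
  mem : t ∈ Ng (P : Subgroup G)
  inverts : ∀ e ∈ (P : Subgroup G), t * e * t⁻¹ = e⁻¹

variable {G}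

/-- The Sylow 2-subgroup of the normaliser centralising `t`. -/
abbrev Frame.T (F : Frame G) : Subgroup G := Cg F.t ⊓ Ng (F.P : Subgroup G)

variable [Finite G] [IsSimpleGroup G] [Fact (Nat.Prime 3)] (hG : Nat.card G = 7920) (F : Frame G)
include hG

theorem exists_frame : Nonempty (Frame G) := by
  obtain ⟨P⟩ : Nonempty (Sylow 3 G) := inferInstance
  obtain ⟨t, ht, h⟩ := exists_inverting hG P
  exact ⟨⟨P, t, ht, h⟩⟩

theorem frame_invol : orderOf F.t = 2 := inverter hG F.mem F.inverts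

theorem frame_t_mem : F.t ∈ F.T := ⟨mem_Cg.2 rfl, F.mem⟩

theorem frame_fix : fixCard (Sylow 3 G) F.t = 7 := (invol_data hG (frame_invol hG F) F.mem).2

theorem card_frame_T : Nat.card F.T = 16 := card_Cg_inverter hG F.mem F.inverts

theorem eq_one_of_inv_commute {x : G} (hx : x ∈ (F.P : Subgroup G)) (hxT : x ∈ Cg F.t) : x = 1 := by
  refine eq_one_of_self_inverse hG hx ?_
  have := F.inverts x hx
  rwa [← mem_Cg.1 hxT, mul_inv_cancel_right] at this

theorem frame_decomp {g : G} (hg : g ∈ Ng (F.P : Subgroup G)) :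
    ∃ e ∈ (F.P : Subgroup G), ∃ τ ∈ F.T, g = e * τ := by
  let m : ↥(F.P : Subgroup G) × F.T → Ng (F.P : Subgroup G) := fun p =>
    ⟨p.1 * p.2, mul_mem (Subgroup.le_normalizer p.1.2) p.2.2.2⟩
  have hm : Function.Injective m := by
    rintro ⟨a, b⟩ ⟨a', b'⟩ h
    have h' : (a : G) * b = a' * b' := congrArg Subtype.val h
    have h1 : (a' : G)⁻¹ * a = b' * (b : G)⁻¹ := by
      calc (a' : G)⁻¹ * a = (a' : G)⁻¹ * (a * b) * (b : G)⁻¹ := by group
        _ = _ := by rw [h']; group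
    have hx : (a' : G)⁻¹ * a = 1 := eq_one_of_inv_commute hG F (mul_mem (inv_mem a'.2) a.2)
      (h1 ▸ mul_mem b'.2.1 (inv_mem b.2.1))
    obtain rfl : a' = a := Subtype.ext (inv_mul_eq_one.1 hx)
    obtain rfl : b = b' := Subtype.ext (mul_left_cancel h')
    rfl
  obtain ⟨⟨a, b⟩, hab⟩ := (hm.bijective_of_nat_card_le (by
    rw [Nat.card_prod, card_sylow3 hG F.P, card_frame_T hG F, card_Ng3 hG F.P])).2 ⟨g, hg⟩
  exact ⟨a, a.2, b, b.2, (congrArg Subtype.val hab).symm⟩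

theorem eq_t_of_inverts {τ : G} (hτ : τ ∈ F.T) (h : ∀ e ∈ (F.P : Subgroup G), τ * e * τ⁻¹ = e⁻¹) :
    τ = F.t := by
  have hmem : F.t⁻¹ * τ ∈ (F.P : Subgroup G) := by
    refine (Cs3 hG F.P).le (mem_Cs.2 fun e he => ?_)
    have h2 : F.t⁻¹ * e⁻¹ * F.t = e := by rw [← F.inverts e he]; group
    have : F.t⁻¹ * τ * e * (F.t⁻¹ * τ)⁻¹ = e := by
      calc F.t⁻¹ * τ * e * (F.t⁻¹ * τ)⁻¹ = F.t⁻¹ * (τ * e * τ⁻¹) * F.t := by group
        _ = e := by rw [h e he, h2]
    exact (mul_inv_eq_iff_eq_mul.1 this).symm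
  exact (inv_mul_eq_one.1 (eq_one_of_inv_commute hG F hmem
    (mul_mem (inv_mem (mem_Cg.2 rfl)) hτ.1))).symm

theorem frame_transitive {u v : G} (hu : u ∈ (F.P : Subgroup G)) (hv : v ∈ (F.P : Subgroup G))
    (hu1 : u ≠ 1) (hv1 : v ≠ 1) : ∃ τ ∈ F.T, τ * u * τ⁻¹ = v := by
  obtain ⟨g, hg, rfl⟩ := transitive_three hG F.P hu hv hu1 hv1
  obtain ⟨e, he, τ, hτ, rfl⟩ := frame_decomp hG F hg
  refine ⟨τ, hτ, ?_⟩
  have h := mem_Cg.1 (sylow_le_Cg hG F.P ((Subgroup.mem_normalizer_iff.1 hτ.2 u).1 hu) he)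
  calc τ * u * τ⁻¹ = τ * u * τ⁻¹ * e * e⁻¹ := by group
    _ = e * (τ * u * τ⁻¹) * e⁻¹ := by rw [← h]
    _ = _ := by group

theorem card_frame_stab {u : G} (hu : u ∈ (F.P : Subgroup G)) (hu1 : u ≠ 1) :
    Nat.card ↥(Cg u ⊓ F.T) = 2 := by
  obtain ⟨-, h18, -⟩ := elem_three hG hu hu1
  have h1 : Nat.card ↥(Cg u ⊓ F.T) ∣ 18 := h18 ▸ Subgroup.card_dvd_of_le inf_le_left
  have h2 : Nat.card ↥(Cg u ⊓ F.T) ∣ 16 := card_frame_T hG F ▸ Subgroup.card_dvd_of_le inf_le_right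
  have h3 : Nat.card ↥(Cg u ⊓ F.T) ∣ 2 := Nat.dvd_gcd h1 h2
  refine ((Nat.dvd_prime Nat.prime_two).1 h3).resolve_left fun e1 => ?_
  obtain ⟨r, hr, hru⟩ := exists_reflection_Cg hG hu hu1
  obtain ⟨e, he, τ, hτ, hre⟩ := frame_decomp hG F ((elem_three hG hu hu1).2.2 hru)
  have hτu : τ ∈ Cg u := by
    have := mul_mem (inv_mem (sylow_le_Cg hG F.P hu he)) hru
    rwa [hre, inv_mul_cancel_left] at this
  have hτ1 : τ = 1 := Subgroup.mem_bot.1 (Subgroup.card_eq_one.1 e1 ▸ (⟨hτu, hτ⟩ : τ ∈ Cg u ⊓ F.T))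
  rw [hτ1, mul_one] at hre
  exact not_invol_mem hG hr (hre ▸ he)

theorem exists_frame_reflection {u : G} (hu : u ∈ (F.P : Subgroup G)) (hu1 : u ≠ 1) :
    ∃ r ∈ F.T, orderOf r = 2 ∧ r ∈ Cg u ∧ ∀ τ ∈ F.T, τ ∈ Cg u → τ = 1 ∨ τ = r := by
  classical
  have h2 := card_frame_stab hG F hu hu1
  haveI := Fact.mk Nat.prime_two
  obtain ⟨⟨r, hr'⟩, hr⟩ := exists_prime_orderOf_dvd_card' (G := ↥(Cg u ⊓ F.T)) 2 (dvd_of_eq h2.symm)
  rw [← Subgroup.orderOf_coe] at hr
  simp only at hr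
  refine ⟨r, hr'.2, hr, hr'.1, fun τ h1 h3 => ?_⟩
  have hz := Small.eq_zpowers_of_mem_prime h2 hr' (invol_ne hr)
  have hmem : τ ∈ Subgroup.zpowers r := hz ▸ ⟨h3, h1⟩
  obtain ⟨k, rfl⟩ := hmem
  show r ^ k = 1 ∨ r ^ k = r
  rw [← zpow_mod_orderOf, hr]
  rcases Int.emod_two_eq_zero_or_one k with e | e
  · exact Or.inl (by rw [show ((2 : ℕ) : ℤ) = 2 from rfl, e, zpow_zero])
  · exact Or.inr (by rw [show ((2 : ℕ) : ℤ) = 2 from rfl, e, zpow_one])

omit F in
/-- A 2-element of the normaliser commuting with a reflection squares to one. -/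
theorem sq_eq_one_of_commute {P : Sylow 3 G} {r u τ : G} (hr : orderOf r = 2) (hu : u ∈ (P : Subgroup G))
    (hu1 : u ≠ 1) (hru : r ∈ Cg u) (hτN : τ ∈ Ng (P : Subgroup G)) (hτr : τ ∈ Cg r)
    (hτo : orderOf τ ∣ 16) : τ * τ = 1 := by
  classical
  have hrN : r ∈ Ng (P : Subgroup G) := (elem_three hG hu hu1).2.2 hru
  have hP := card_sylow3 hG P
  obtain ⟨h3, -, -⟩ := elem_three hG hu hu1
  obtain ⟨v, hv, hvu⟩ : ∃ v ∈ (P : Subgroup G), v ∉ Subgroup.zpowers u := by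
    by_contra h
    push Not at h
    have := Subgroup.card_le_of_le (show (P : Subgroup G) ≤ Subgroup.zpowers u from h)
    rw [hP, Nat.card_zpowers, h3] at this
    norm_num at this
  set b := v⁻¹ * (r * v * r⁻¹) with hbdef
  have hrinv : r⁻¹ = r := inv_eq_of_mul_eq_one_right (invol_sq hr)
  have hbP : b ∈ (P : Subgroup G) := mul_mem (inv_mem hv) ((Subgroup.mem_normalizer_iff.1 hrN v).1 hv)
  have hbr : r * b * r⁻¹ = b⁻¹ := by
    calc r * b * r⁻¹ = r * (v⁻¹ * (r * v * r⁻¹)) * r⁻¹ := by rw [hbdef]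
      _ = r * v⁻¹ * r * v * (r⁻¹ * r⁻¹) := by group
      _ = r * v⁻¹ * r⁻¹ * v := by rw [← mul_inv_rev, invol_sq hr, inv_one, mul_one, hrinv]
      _ = b⁻¹ := by rw [hbdef]; group
  have hb1 : b ≠ 1 := fun e => hvu (fixed_of_reflection hG hr hu hu1 hru hv (by
    refine mem_Cg.2 ?_
    have := inv_mul_eq_one.1 (hbdef ▸ e : v⁻¹ * (r * v * r⁻¹) = 1)
    nth_rewrite 2 [this]
    rw [inv_mul_cancel_right]))
  have hbu : b ∉ Subgroup.zpowers u := fun h => hb1 (eq_one_of_self_inverse hG hbP (by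
    have hrb : r ∈ Cg b := by
      obtain ⟨j, hj⟩ := h
      rw [← (hj : u ^ j = b)]
      exact mem_Cg.2 (Commute.zpow_right (mem_Cg.1 hru) j).eq
    rwa [mem_Cg.1 hrb, mul_inv_cancel_right] at hbr))
  have hcomm : ∀ {x : G}, x ∈ Cg (τ * τ) ↔ τ * τ * x * (τ * τ)⁻¹ = x := fun {x} => by
    rw [mem_Cg, mul_inv_eq_iff_eq_mul, eq_comm]
  have hsq : ∀ x : G, τ * x * τ⁻¹ = x ∨ τ * x * τ⁻¹ = x⁻¹ → x ∈ Cg (τ * τ) := by
    intro x hx
    rw [hcomm]
    calc τ * τ * x * (τ * τ)⁻¹ = τ * (τ * x * τ⁻¹) * τ⁻¹ := by group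
      _ = x := by
        rcases hx with e | e <;> rw [e]
        · exact e
        · rw [← conj_inv, e, inv_inv]
  have hu' : u ∈ Cg (τ * τ) := by
    refine hsq u ?_
    have h := fixed_of_reflection hG hr hu hu1 hru (x := τ * u * τ⁻¹) ((Subgroup.mem_normalizer_iff.1 hτN u).1 hu) (by
      have h := (mem_Cg_conj (g := τ)).2 hru
      rwa [show τ * r * τ⁻¹ = r by rw [mem_Cg.1 hτr, mul_inv_cancel_right]] at h)
    rcases zpowers_three h3 h with e | e | e
    · exact absurd (conj_eq_one_iff.1 e) hu1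
    · exact Or.inl e
    · exact Or.inr e
  have hb' : b ∈ Cg (τ * τ) := by
    refine hsq b ?_
    have hmem : τ * b * τ⁻¹ ∈ (P : Subgroup G) ∧ r * (τ * b * τ⁻¹) * r⁻¹ = (τ * b * τ⁻¹)⁻¹ := by
      refine ⟨(Subgroup.mem_normalizer_iff.1 hτN b).1 hbP, ?_⟩
      calc r * (τ * b * τ⁻¹) * r⁻¹ = (r * τ) * b * (r * τ)⁻¹ := by group
        _ = (τ * r) * b * (τ * r)⁻¹ := by rw [mem_Cg.1 hτr]
        _ = τ * (r * b * r⁻¹) * τ⁻¹ := by group
        _ = _ := by rw [hbr, conj_inv]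
    by_contra hne
    push Not at hne
    let f : Fin 4 → {x : G // x ∈ (P : Subgroup G) ∧ r * x * r⁻¹ = x⁻¹} :=
      ![⟨1, one_mem _, by simp⟩, ⟨b, hbP, hbr⟩, ⟨b⁻¹, inv_mem hbP, by rw [← conj_inv, hbr]⟩,
        ⟨τ * b * τ⁻¹, hmem.1, hmem.2⟩]
    have hbb : b ≠ b⁻¹ := fun e => hb1 (eq_one_of_self_inverse hG hbP e)
    have hcb : τ * b * τ⁻¹ ≠ 1 := fun e => hb1 (conj_eq_one_iff.1 e)
    have hf : Function.Injective f := by
      intro i j e
      have e' := congrArg Subtype.val e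
      fin_cases i <;> fin_cases j <;> simp [f] at e' ⊢ <;>
        first
          | exact hb1 e' | exact hb1 e'.symm | exact hbb e' | exact hbb e'.symm
          | exact hne.1 e' | exact hne.1 e'.symm | exact hne.2 e' | exact hne.2 e'.symm
          | exact hcb e' | exact hcb e'.symm
    have := (Nat.card_le_card_of_injective f hf).trans (card_inverted_le hG hu hu1 hru)
    simp at this
  set E := (P : Subgroup G) ⊓ Cg (τ * τ)
  have hd : Nat.card E ∣ 9 := hP ▸ Subgroup.card_dvd_of_le inf_le_left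
  have hgt : ¬ Nat.card E ≤ 3 := fun h => hbu ((Subgroup.eq_of_le_of_card_ge
    (Subgroup.zpowers_le.2 (show u ∈ E from Subgroup.mem_inf.2 ⟨hu, hu'⟩)) (by rw [Nat.card_zpowers, h3]; exact h)).symm.le (Subgroup.mem_inf.2 ⟨hbP, hb'⟩))
  have := Nat.le_of_dvd (by norm_num) hd
  have h9 : Nat.card E = 9 := by interval_cases Nat.card E <;> omega
  have hle : (P : Subgroup G) ≤ Cg (τ * τ) :=
    (Subgroup.eq_of_le_of_card_ge (inf_le_left : E ≤ _) (by rw [h9, hP])).symm.le.trans inf_le_right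
  have hmemP : τ * τ ∈ (P : Subgroup G) := (Cs3 hG P).le (mem_Cs_of_le_Cg hle)
  refine orderOf_eq_one_iff.1 (Nat.eq_one_of_dvd_coprimes (show Nat.Coprime 16 9 by norm_num) ?_
    ((Subgroup.orderOf_dvd_natCard _ hmemP).trans (dvd_of_eq hP)))
  rw [← pow_two]
  exact (orderOf_pow_dvd 2).trans hτo

theorem frame_unique {e e' : G} {f f' : Sylow 3 G} (he : e ∈ (F.P : Subgroup G))
    (he' : e' ∈ (F.P : Subgroup G)) (hf : F.t • f = f) (hfP : f ≠ F.P) (hf' : F.t • f' = f')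
    (h : e • f = e' • f') : e = e' ∧ f = f' := by
  set d := e'⁻¹ * e with hd
  have hdP : d ∈ (F.P : Subgroup G) := mul_mem (inv_mem he') he
  have hdf : d • f = f' := by rw [hd, mul_smul, h, inv_smul_smul]
  have h3 : d⁻¹ • f = d • f := by
    calc d⁻¹ • f = d⁻¹ • F.t • f := by rw [hf]
      _ = F.t • d • f := by
        rw [smul_smul, show d⁻¹ * F.t = F.t * d by rw [← F.inverts d hdP]; group, mul_smul]
      _ = d • f := by rw [hdf, hf']
  have h2 : (d * d) • f = f := by rw [mul_smul, ← h3, smul_inv_smul]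
  by_cases hd1 : d = 1
  · rw [hd1, one_smul] at hdf
    exact ⟨(inv_mul_eq_one.1 (hd ▸ hd1)).symm, hdf⟩
  · exfalso
    refine hfP (free3 hG (mul_mem hdP hdP) (fun e1 => hd1 ?_) h2)
    rw [eq_self_of_pow_nine (pow_nine hG hdP), e1, one_pow]

theorem card_fix_frame : Nat.card {f : Sylow 3 G // F.t • f = f ∧ f ≠ F.P} = 6 := by
  classical
  haveI := Fintype.ofFinite (Sylow 3 G)
  have h7 := frame_fix hG F
  simp only [fixCard, Nat.card_eq_fintype_card] at h7
  rw [Nat.card_eq_fintype_card, Fintype.card_subtype,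
    show (Finset.univ.filter fun f => F.t • f = f ∧ f ≠ F.P) =
      (Finset.univ.filter fun f => F.t • f = f).erase F.P by
        ext f; simp only [Finset.mem_filter, Finset.mem_erase, Finset.mem_univ, true_and, and_comm],
    Finset.card_erase_of_mem (show F.P ∈ Finset.univ.filter (fun f : Sylow 3 G => F.t • f = f) from
      Finset.mem_filter.2 ⟨Finset.mem_univ _, smul_sylow_eq_iff.2 F.mem⟩),
    ← Fintype.card_subtype]
  have : Fintype.card {f : Sylow 3 G // F.t • f = f} = 7 := by rw [← h7]; exact Fintype.card_congr (Equiv.refl _)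
  omega

theorem frame_exists (x : Sylow 3 G) (hx : x ≠ F.P) :
    ∃ e ∈ (F.P : Subgroup G), ∃ f, F.t • f = f ∧ f ≠ F.P ∧ x = e • f := by
  let m : ↥(F.P : Subgroup G) × {f : Sylow 3 G // F.t • f = f ∧ f ≠ F.P} → {x : Sylow 3 G // x ≠ F.P} :=
    fun p => ⟨(p.1 : G) • p.2.1, fun h => p.2.2.2 (MulAction.injective (p.1 : G)
      (h.trans (smul_sylow_eq_iff.2 (Subgroup.le_normalizer p.1.2)).symm))⟩
  have hm : Function.Injective m := by
    rintro ⟨e, f⟩ ⟨e', f'⟩ h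
    obtain ⟨h1, h2⟩ := frame_unique hG F e.2 e'.2 f.2.1 f.2.2 f'.2.1 (congrArg Subtype.val h)
    rw [Subtype.ext h1, Subtype.ext h2]
  have hc : Nat.card {x : Sylow 3 G // x ≠ F.P} = 54 := by
    classical
    haveI := Fintype.ofFinite (Sylow 3 G)
    rw [Nat.card_eq_fintype_card, Fintype.card_subtype_compl, Fintype.card_subtype_eq, ← Nat.card_eq_fintype_card,
      card_sylow_three hG]
  obtain ⟨⟨e, f⟩, h⟩ := (hm.bijective_of_nat_card_le (by
    rw [hc, Nat.card_prod, card_sylow3 hG F.P, card_fix_frame hG F])).2 ⟨x, hx⟩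
  exact ⟨e, e.2, f.1, f.2.1, f.2.2, (congrArg Subtype.val h).symm⟩

/-- A reflection commuting with `t` fixes exactly two further common points. -/
theorem card_fix_reflection {r u : G} (hrT : r ∈ F.T) (hr : orderOf r = 2) (hu : u ∈ (F.P : Subgroup G))
    (hu1 : u ≠ 1) (hru : r ∈ Cg u) :
    Nat.card {f : Sylow 3 G // F.t • f = f ∧ f ≠ F.P ∧ r • f = f} = 2 := by
  obtain ⟨h3, -, -⟩ := elem_three hG hu hu1
  obtain ⟨-, -, h7, -⟩ := reflection_data hG hr hu hu1 hru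
  have hrP : r • F.P = F.P := smul_sylow_eq_iff.2 hrT.2
  have hrfix : ∀ f : Sylow 3 G, F.t • f = f → F.t • r • f = r • f := fun f hf => by
    rw [smul_smul, ← mem_Cg.1 hrT.1, mul_smul, hf]
  have hrr : ∀ e : G, ∀ f : Sylow 3 G, r • e • f = (r * e * r⁻¹) • r • f := fun e f => by
    rw [smul_smul, smul_smul, inv_mul_cancel_right]
  let m : Subgroup.zpowers u × {f : Sylow 3 G // F.t • f = f ∧ f ≠ F.P ∧ r • f = f} →
      {x : Sylow 3 G // r • x = x ∧ x ≠ F.P} := fun p =>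
    ⟨(p.1 : G) • p.2.1, by
      obtain ⟨k, hk⟩ := p.1.2
      rw [hrr, p.2.2.2.2, ← (hk : u ^ k = (p.1 : G)),
        (Commute.zpow_right (mem_Cg.1 hru) k).eq, mul_inv_cancel_right], fun h => p.2.2.2.1
        (MulAction.injective (p.1 : G) (h.trans (smul_sylow_eq_iff.2
          (Subgroup.le_normalizer (Subgroup.zpowers_le.2 hu p.1.2))).symm))⟩
  have hm : Function.Bijective m := by
    constructor
    · rintro ⟨e, f⟩ ⟨e', f'⟩ h
      obtain ⟨h1, h2⟩ := frame_unique hG F (Subgroup.zpowers_le.2 hu e.2) (Subgroup.zpowers_le.2 hu e'.2)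
        f.2.1 f.2.2.1 f'.2.1 (congrArg Subtype.val h)
      rw [Subtype.ext h1, Subtype.ext h2]
    · rintro ⟨x, hx, hxP⟩
      obtain ⟨e, he, f, hf, hfP, rfl⟩ := frame_exists hG F x hxP
      rw [hrr] at hx
      obtain ⟨h1, h2⟩ := frame_unique hG F ((Subgroup.mem_normalizer_iff.1 hrT.2 e).1 he) he (hrfix f hf)
        (fun h => hfP (MulAction.injective r (h.trans hrP.symm))) hf hx
      exact ⟨(⟨e, fixed_of_reflection hG hr hu hu1 hru he (mem_Cg.2 (mul_inv_eq_iff_eq_mul.1 h1))⟩,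
        ⟨f, hf, hfP, h2⟩), rfl⟩
  have hc : Nat.card {x : Sylow 3 G // r • x = x ∧ x ≠ F.P} = 6 := by
    classical
    haveI := Fintype.ofFinite (Sylow 3 G)
    simp only [fixCard, Nat.card_eq_fintype_card] at h7
    rw [Nat.card_eq_fintype_card, Fintype.card_subtype,
      show (Finset.univ.filter fun f => r • f = f ∧ f ≠ F.P) =
        (Finset.univ.filter fun f => r • f = f).erase F.P by
          ext f; simp only [Finset.mem_filter, Finset.mem_erase, Finset.mem_univ, true_and, and_comm],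
      Finset.card_erase_of_mem (show F.P ∈ Finset.univ.filter (fun f : Sylow 3 G => r • f = f) from
        Finset.mem_filter.2 ⟨Finset.mem_univ _, hrP⟩), ← Fintype.card_subtype]
    have : Fintype.card {f : Sylow 3 G // r • f = f} = 7 := by rw [← h7]; exact Fintype.card_congr (Equiv.refl _)
    omega
  have := Nat.card_congr (Equiv.ofBijective m hm)
  rw [hc, Nat.card_prod, Nat.card_zpowers, h3] at this
  omega

end CfsgLib.MElevenUnique
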