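import Cfsg.Agent.MElevenUnique.Triangle

/-!
A simple group of order 7920: the triangular graph on the 55 Sylow 3-subgroups.
-/

set_option autoImplicit false

open scoped Pointwise Classical
open MulAction

namespace CfsgLib.MElevenUnique

variable {G : Type*} [Group G]

/-- The images of the edge from `P` to `b`. -/
def Triangle.Adj {F : Frame G} (d : Triangle F) (x y : Sylow 3 G) : Prop :=
  ∃ g : G, g • F.P = x ∧ g • d.b = y

theorem adj_smul {F : Frame G} (d : Triangle F) (g : G) {x y : Sylow 3 G} (h : d.Adj x y) :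
    d.Adj (g • x) (g • y) := by
  obtain ⟨k, rfl, rfl⟩ := h
  exact ⟨g * k, mul_smul _ _ _, mul_smul _ _ _⟩

theorem adj_smul_iff {F : Frame G} (d : Triangle F) (g : G) {x y : Sylow 3 G} :
    d.Adj (g • x) (g • y) ↔ d.Adj x y :=
  ⟨fun h => by simpa using adj_smul d g⁻¹ h, adj_smul d g⟩

theorem adj_ne {F : Frame G} (d : Triangle F) {x y : Sylow 3 G} (h : d.Adj x y) : x ≠ y := by
  obtain ⟨k, rfl, rfl⟩ := h
  exact fun e => d.bP (MulAction.injective k e).symm

variable [Finite G]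

/-- The neighbours of a point. -/
noncomputable def Triangle.nb {F : Frame G} (d : Triangle F) (x : Sylow 3 G) : Finset (Sylow 3 G) :=
  letI := Fintype.ofFinite (Sylow 3 G)
  Finset.univ.filter (d.Adj x)

theorem mem_nb {F : Frame G} {d : Triangle F} {x y : Sylow 3 G} : y ∈ d.nb x ↔ d.Adj x y := by
  simp [Triangle.nb]

theorem nb_smul {F : Frame G} (d : Triangle F) (g : G) (x : Sylow 3 G) :
    d.nb (g • x) = (d.nb x).image (g • ·) := by
  ext y
  rw [mem_nb, Finset.mem_image]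
  refine ⟨fun h => ⟨g⁻¹ • y, mem_nb.2 ?_, smul_inv_smul g y⟩, ?_⟩
  · simpa using adj_smul d g⁻¹ h
  · rintro ⟨z, hz, rfl⟩
    exact adj_smul d g (mem_nb.1 hz)

theorem card_nb_inter_smul {F : Frame G} (d : Triangle F) (g : G) (x y : Sylow 3 G) :
    (d.nb (g • x) ∩ d.nb (g • y)).card = (d.nb x ∩ d.nb y).card := by
  rw [nb_smul, nb_smul, ← Finset.image_inter _ _ (MulAction.injective g),
    Finset.card_image_of_injective _ (MulAction.injective g)]

variable [IsSimpleGroup G] [Fact (Nat.Prime 3)] (hG : Nat.card G = 7920) {F : Frame G} (d : Triangle F)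
include hG

omit [IsSimpleGroup G] [Fact (Nat.Prime 3)] [Finite G] hG in
theorem exists_flip : ∃ σ : G, σ • F.P = d.b ∧ σ • d.b = F.P ∧ σ • d.c = d.c := by
  obtain ⟨g, hg, hgb⟩ := d.orb
  obtain ⟨τ, hτ, h1, h2⟩ := d.swap
  have hP : τ • F.P = F.P := Sylow.smul_eq_iff_mem_normalizer.2 hτ.2
  have hcO : d.c = (τ * g) • F.P := by rw [mul_smul, hgb, h1]
  have hb' : g • d.b = F.P ∨ g • d.b = d.c := by
    rcases d.orb_le (g * g) (mul_mem hg hg) with e | e | e <;> rw [mul_smul, hgb] at e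
    · exact Or.inl e
    · exact absurd (MulAction.injective g (e.trans hgb.symm)) d.bP
    · exact Or.inr e
  have hc' : g • d.c = F.P ∨ g • d.c = d.c := by
    rcases d.orb_le (g * (τ * g)) (mul_mem hg (mul_mem hτ.1 hg)) with e | e | e <;>
      rw [mul_smul, ← hcO] at e
    · exact Or.inl e
    · exact absurd (MulAction.injective g (e.trans hgb.symm)) d.cP
    · exact Or.inr e
  rcases hb' with e | e
  · refine ⟨g, hgb, e, hc'.resolve_left fun e' => d.bc (MulAction.injective g (e.trans e'.symm))⟩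
  · have e' : g • d.c = F.P := hc'.resolve_right fun e' => d.bc (MulAction.injective g (e.trans e'.symm))
    exact ⟨g * τ, by rw [mul_smul, hP, hgb], by rw [mul_smul, h1, e'], by rw [mul_smul, h2, e]⟩

omit [IsSimpleGroup G] [Fact (Nat.Prime 3)] [Finite G] hG in
theorem adj_symm {x y : Sylow 3 G} (h : d.Adj x y) : d.Adj y x := by
  obtain ⟨k, rfl, rfl⟩ := h
  obtain ⟨σ, h1, h2, -⟩ := exists_flip d
  exact ⟨k * σ, by rw [mul_smul, h1], by rw [mul_smul, h2]⟩

omit [IsSimpleGroup G] [Fact (Nat.Prime 3)] [Finite G] hG in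
theorem adj_P_c : d.Adj F.P d.c := by
  obtain ⟨τ, hτ, h1, -⟩ := d.swap
  exact ⟨τ, Sylow.smul_eq_iff_mem_normalizer.2 hτ.2, h1⟩

omit [IsSimpleGroup G] [Fact (Nat.Prime 3)] [Finite G] hG in
theorem adj_b_c : d.Adj d.b d.c := by
  obtain ⟨σ, h1, -, h3⟩ := exists_flip d
  have := adj_smul d σ (adj_P_c d)
  rwa [h1, h3] at this

theorem e_smul_P {e : G} (he : e ∈ (F.P : Subgroup G)) : e • F.P = F.P :=
  Sylow.smul_eq_iff_mem_normalizer.2 (Subgroup.le_normalizer he)

theorem adj_P_iff {y : Sylow 3 G} :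
    d.Adj F.P y ↔ ∃ e ∈ (F.P : Subgroup G), y = e • d.b ∨ y = e • d.c := by
  constructor
  · rintro ⟨g, hg, rfl⟩
    obtain ⟨e, he, τ, hτ, rfl⟩ := frame_decomp hG F (Sylow.smul_eq_iff_mem_normalizer.1 hg)
    refine ⟨e, he, ?_⟩
    rw [mul_smul]
    rcases d.image τ hτ with h | h <;> rw [h] <;> simp
  · rintro ⟨e, he, rfl | rfl⟩
    · exact ⟨e, e_smul_P hG he, rfl⟩
    · have := adj_smul d e (adj_P_c d)
      rwa [e_smul_P hG he] at this

theorem smul_bc_ne {e e' : G} (he : e ∈ (F.P : Subgroup G)) (he' : e' ∈ (F.P : Subgroup G)) :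
    e • d.b ≠ e' • d.c := fun h =>
  d.bc (frame_unique hG F he he' d.tb d.bP d.tc h).2

theorem smul_b_inj {e e' : G} (he : e ∈ (F.P : Subgroup G)) (he' : e' ∈ (F.P : Subgroup G))
    (h : e • d.b = e' • d.b) : e = e' :=
  (frame_unique hG F he he' d.tb d.bP d.tb h).1

theorem smul_c_inj {e e' : G} (he : e ∈ (F.P : Subgroup G)) (he' : e' ∈ (F.P : Subgroup G))
    (h : e • d.c = e' • d.c) : e = e' :=
  (frame_unique hG F he he' d.tc d.cP d.tc h).1

theorem card_nb (x : Sylow 3 G) : (d.nb x).card = 18 := by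
  obtain ⟨g, rfl⟩ := exists_smul_eq G F.P x
  rw [nb_smul, Finset.card_image_of_injective _ (MulAction.injective g)]
  haveI := Fintype.ofFinite (F.P : Subgroup G)
  let f : ↥(F.P : Subgroup G) × Bool → Sylow 3 G :=
    fun p => bif p.2 then (p.1 : G) • d.b else (p.1 : G) • d.c
  have hf : Function.Injective f := by
    rintro ⟨e, i⟩ ⟨e', j⟩ h
    cases i <;> cases j <;> simp only [f, cond_true, cond_false] at h
    · rw [Subtype.ext (smul_c_inj hG d e.2 e'.2 h)]
    · exact absurd h.symm (smul_bc_ne hG d e'.2 e.2)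
    · exact absurd h (smul_bc_ne hG d e.2 e'.2)
    · rw [Subtype.ext (smul_b_inj hG d e.2 e'.2 h)]
  have himg : d.nb F.P = Finset.univ.image f := by
    ext y
    rw [mem_nb, adj_P_iff hG d]
    simp only [Finset.mem_image, Finset.mem_univ, true_and, Prod.exists, Bool.exists_bool, f, cond_true,
      cond_false]
    constructor
    · rintro ⟨e, he, rfl | rfl⟩
      · exact ⟨⟨e, he⟩, Or.inr rfl⟩
      · exact ⟨⟨e, he⟩, Or.inl rfl⟩
    · rintro ⟨⟨e, he⟩, h | h⟩
      · exact ⟨e, he, Or.inr h.symm⟩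
      · exact ⟨e, he, Or.inl h.symm⟩
  rw [himg, Finset.card_image_of_injective _ hf, Finset.card_univ, Fintype.card_prod, Fintype.card_bool,
    ← Nat.card_eq_fintype_card, card_sylow3 hG F.P]

theorem card_non_nb [Fintype (Sylow 3 G)] :
    ((Finset.univ.erase F.P) \ d.nb F.P).card = 36 := by
  rw [Finset.card_sdiff_of_subset, Finset.card_erase_of_mem (Finset.mem_univ _), Finset.card_univ,
    ← Nat.card_eq_fintype_card, card_sylow_three hG, card_nb hG d]
  intro y hy
  exact Finset.mem_erase.2 ⟨(adj_ne d (mem_nb.1 hy)).symm, Finset.mem_univ y⟩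

theorem non_adj_transitive {y y' : Sylow 3 G} (hy : y ≠ F.P) (hy' : y' ≠ F.P) (h : ¬ d.Adj F.P y)
    (h' : ¬ d.Adj F.P y') : ∃ g : G, g • F.P = F.P ∧ g • y = y' := by
  obtain ⟨e, he, f, hf, hfP, rfl⟩ := frame_exists hG F y hy
  obtain ⟨e', he', f', hf', hf'P, rfl⟩ := frame_exists hG F y' hy'
  rw [adj_P_iff hG d] at h h'
  push Not at h h'
  obtain ⟨τ, hτ, hτf⟩ := d.four f f' hf hf' hfP hf'P
    (fun e1 => (h e he).1 (by rw [e1])) (fun e1 => (h' e' he').1 (by rw [e1]))
    (fun e1 => (h e he).2 (by rw [e1])) (fun e1 => (h' e' he').2 (by rw [e1]))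
  refine ⟨e' * τ * e⁻¹, ?_, ?_⟩
  · rw [mul_smul, e_smul_P hG (inv_mem he), mul_smul, Sylow.smul_eq_iff_mem_normalizer.2 hτ.2, e_smul_P hG he']
  · rw [mul_smul, inv_smul_smul, mul_smul, hτf]

theorem common_adj {x y : Sylow 3 G} (h : d.Adj x y) :
    (d.nb x ∩ d.nb y).card = (d.nb F.P ∩ d.nb d.b).card := by
  obtain ⟨g, rfl, rfl⟩ := h
  exact card_nb_inter_smul d g _ _

theorem common_non_adj {x y y₀ : Sylow 3 G} (hne : x ≠ y) (h : ¬ d.Adj x y) (h₀ : y₀ ≠ F.P)
    (h₀' : ¬ d.Adj F.P y₀) :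
    (d.nb x ∩ d.nb y).card = (d.nb F.P ∩ d.nb y₀).card := by
  obtain ⟨g, rfl⟩ := exists_smul_eq G F.P x
  obtain ⟨k, hk, hky⟩ := non_adj_transitive hG d (y := y₀) (y' := g⁻¹ • y) h₀
    (fun e => hne (inv_smul_eq_iff.1 e).symm) h₀' (fun e => h (by simpa using adj_smul d g e))
  have hy : y = g • k • y₀ := by rw [hky, smul_inv_smul]
  have hx : g • F.P = g • k • F.P := by rw [hk]
  rw [hx, hy, card_nb_inter_smul, card_nb_inter_smul]

theorem double_count [Fintype (Sylow 3 G)] {y₀ : Sylow 3 G} (h₀ : y₀ ≠ F.P) (h₀' : ¬ d.Adj F.P y₀) :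
    18 * (17 - (d.nb F.P ∩ d.nb d.b).card) = 36 * (d.nb F.P ∩ d.nb y₀).card := by
  set N0 := (Finset.univ.erase F.P) \ d.nb F.P with hN0
  have h := Finset.sum_card_bipartiteAbove_eq_sum_card_bipartiteBelow (s := d.nb F.P) (t := N0) d.Adj
  have hl : ∀ x ∈ d.nb F.P, (N0.bipartiteAbove d.Adj x).card = 17 - (d.nb F.P ∩ d.nb d.b).card := by
    intro x hx
    have e : N0.bipartiteAbove d.Adj x = (d.nb x).erase F.P \ (d.nb F.P ∩ d.nb x) := by
      ext y
      simp only [Finset.bipartiteAbove, hN0, Finset.mem_filter, Finset.mem_sdiff, Finset.mem_erase,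
        Finset.mem_univ, and_true, Finset.mem_inter, mem_nb]
      tauto
    rw [e, Finset.card_sdiff_of_subset ?_,
      Finset.card_erase_of_mem (mem_nb.2 (adj_symm d (mem_nb.1 hx))), card_nb hG d,
      common_adj hG d (mem_nb.1 hx)]
    intro y hy
    rw [Finset.mem_inter, mem_nb] at hy
    exact Finset.mem_erase.2 ⟨(adj_ne d hy.1).symm, hy.2⟩
  have hr : ∀ y ∈ N0, ((d.nb F.P).bipartiteBelow d.Adj y).card = (d.nb F.P ∩ d.nb y₀).card := by
    intro y hy
    simp only [hN0, Finset.mem_sdiff, Finset.mem_erase, Finset.mem_univ, and_true, mem_nb] at hy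
    have e : (d.nb F.P).bipartiteBelow d.Adj y = d.nb F.P ∩ d.nb y := by
      ext x
      simp only [Finset.bipartiteBelow, Finset.mem_filter, Finset.mem_inter, mem_nb]
      exact ⟨fun h => ⟨h.1, adj_symm d h.2⟩, fun h => ⟨h.1, adj_symm d h.2⟩⟩
    rw [e, common_non_adj hG d hy.1.symm hy.2 h₀ h₀']
  rw [Finset.sum_congr rfl hl, Finset.sum_congr rfl hr, Finset.sum_const, Finset.sum_const,
    card_nb hG d, hN0, card_non_nb hG d, smul_eq_mul, smul_eq_mul] at h
  exact h

theorem exists_conj_fix_b {e e' : G} (he : e ∈ (F.P : Subgroup G)) (he' : e' ∈ (F.P : Subgroup G))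
    (he1 : e ≠ 1) (he'1 : e' ≠ 1) :
    ∃ τ ∈ F.T, τ • d.b = d.b ∧ τ • d.c = d.c ∧ τ * e * τ⁻¹ = e' := by
  haveI := Fintype.ofFinite (F.P : Subgroup G)
  set D := stabilizer F.T d.b with hD
  have horb : (orbit F.T d.b).ncard ≤ 2 := by
    refine le_trans (Set.ncard_le_ncard (t := {d.b, d.c}) ?_ (Set.toFinite _)) ?_
    · rintro _ ⟨τ, rfl⟩
      simpa [Subgroup.smul_def] using d.image τ τ.2
    · exact (Set.ncard_insert_le _ _).trans (by simp)
  have hm := Subgroup.index_mul_card D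
  rw [hD, index_stabilizer, card_frame_T hG F, ← hD] at hm
  have h8 : 8 ≤ Nat.card D := by
    have := Nat.mul_le_mul_right (Nat.card D) horb
    omega
  let f : D → {x : ↥(F.P : Subgroup G) // x ≠ 1} := fun τ =>
    ⟨⟨((τ : F.T) : G) * e * ((τ : F.T) : G)⁻¹, (Subgroup.mem_normalizer_iff.1 τ.1.2.2 e).1 he⟩,
      fun h => he1 (conj_eq_one_iff.1 (congrArg Subtype.val h))⟩
  have hf : Function.Injective f := by
    intro a a' h
    have h' : ((a : F.T) : G) * e * ((a : F.T) : G)⁻¹ = ((a' : F.T) : G) * e * ((a' : F.T) : G)⁻¹ :=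
      congrArg (fun x : {x : ↥(F.P : Subgroup G) // x ≠ 1} => ((x : ↥(F.P : Subgroup G)) : G)) h
    set k := ((a : F.T) : G)⁻¹ * ((a' : F.T) : G)
    have hk : k ∈ F.T := mul_mem (inv_mem a.1.2) a'.1.2
    have hkb : k • d.b = d.b := by
      rw [mul_smul, show ((a' : F.T) : G) • d.b = d.b from a'.2, inv_smul_eq_iff,
        show ((a : F.T) : G) • d.b = d.b from a.2]
    have hku : k ∈ Cg e := by
      refine mem_Cg.2 ?_
      calc k * e = ((a : F.T) : G)⁻¹ * (((a' : F.T) : G) * e * ((a' : F.T) : G)⁻¹) * ((a' : F.T) : G) := by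
            simp only [k]; group
        _ = ((a : F.T) : G)⁻¹ * (((a : F.T) : G) * e * ((a : F.T) : G)⁻¹) * ((a' : F.T) : G) := by rw [h']
        _ = e * k := by simp only [k]; group
    exact Subtype.ext (Subtype.ext (inv_mul_eq_one.1 (d.free e he he1 k hk hkb hku)))
  have hc : Nat.card {x : ↥(F.P : Subgroup G) // x ≠ 1} = 8 := by
    rw [Nat.card_eq_fintype_card, Fintype.card_subtype_compl, Fintype.card_subtype_eq,
      ← Nat.card_eq_fintype_card, card_sylow3 hG F.P]
  obtain ⟨τ, hτ⟩ := (hf.bijective_of_nat_card_le (hc.le.trans h8)).2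
    ⟨⟨e', he'⟩, fun h => he'1 (congrArg Subtype.val h)⟩
  refine ⟨(τ : F.T), τ.1.2, τ.2, ?_,
    congrArg (fun x : {x : ↥(F.P : Subgroup G) // x ≠ 1} => ((x : ↥(F.P : Subgroup G)) : G)) hτ⟩
  have hτb : ((τ : F.T) : G) • d.b = d.b := τ.2
  obtain ⟨s, hs, hs1, hs2⟩ := d.swap
  rcases d.image (((τ : F.T) : G) * s) (mul_mem τ.1.2 hs) with h | h <;> rw [mul_smul, hs1] at h
  · exact absurd (MulAction.injective _ (h.trans hτb.symm)) d.bc.symm
  · exact h

theorem adj_b_congr {e e' : G} (he : e ∈ (F.P : Subgroup G)) (he' : e' ∈ (F.P : Subgroup G))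
    (he1 : e ≠ 1) (he'1 : e' ≠ 1) :
    (d.Adj d.b (e • d.b) → d.Adj d.b (e' • d.b)) ∧ (d.Adj d.b (e • d.c) → d.Adj d.b (e' • d.c)) := by
  obtain ⟨τ, hτ, hb, hc, hconj⟩ := exists_conj_fix_b hG d he he' he1 he'1
  refine ⟨fun h => ?_, fun h => ?_⟩
  · have := adj_smul d τ h
    rwa [hb, smul_smul, show τ * e = e' * τ by rw [← hconj]; group, mul_smul, hb] at this
  · have := adj_smul d τ h
    rwa [hb, smul_smul, show τ * e = e' * τ by rw [← hconj]; group, mul_smul, hc] at this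

theorem not_all_common : ¬ ((∀ e ∈ (F.P : Subgroup G), e ≠ 1 → d.Adj d.b (e • d.b)) ∧
    ∀ e ∈ (F.P : Subgroup G), e ≠ 1 → d.Adj d.b (e • d.c)) := by
  rintro ⟨h1, h2⟩
  haveI := Fintype.ofFinite (Sylow 3 G)
  have hsub : ∀ x y, d.Adj x y → insert x (d.nb x) ⊆ insert y (d.nb y) := by
    rintro x y ⟨g, rfl, rfl⟩ z hz
    rw [Finset.mem_insert, mem_nb] at hz ⊢
    rcases hz with rfl | hz
    · exact Or.inr (adj_symm d ⟨g, rfl, rfl⟩)
    have hz' : d.Adj F.P (g⁻¹ • z) := by simpa using adj_smul d g⁻¹ hz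
    obtain ⟨e, he, hze⟩ := (adj_P_iff hG d).1 hz'
    by_cases he1 : e = 1
    · rw [he1, one_smul, one_smul] at hze
      rcases hze with e' | e'
      · exact Or.inl (inv_smul_eq_iff.1 e')
      · rw [inv_smul_eq_iff] at e'
        exact Or.inr (e' ▸ adj_smul d g (adj_b_c d))
    · rcases hze with e' | e' <;> rw [inv_smul_eq_iff] at e'
      · exact Or.inr (e' ▸ adj_smul d g (h1 e he he1))
      · exact Or.inr (e' ▸ adj_smul d g (h2 e he he1))
  set Cl : Sylow 3 G → Finset (Sylow 3 G) := fun x => insert x (d.nb x) with hCl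
  have hfib : ∀ x y, Cl y = Cl x ↔ y ∈ Cl x := fun x y => by
    refine ⟨fun h => h ▸ Finset.mem_insert_self y _, fun h => ?_⟩
    rcases Finset.mem_insert.1 h with rfl | h
    · rfl
    · exact Finset.Subset.antisymm (hsub y x (adj_symm d (mem_nb.1 h))) (hsub x y (mem_nb.1 h))
  have h19 : ∀ x, (Cl x).card = 19 := fun x => by
    rw [hCl, Finset.card_insert_of_notMem (fun h => adj_ne d (mem_nb.1 h) rfl), card_nb hG d]
  have hsum := Finset.card_eq_sum_card_image Cl (Finset.univ : Finset (Sylow 3 G))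
  rw [Finset.card_univ, ← Nat.card_eq_fintype_card, card_sylow_three hG,
    Finset.sum_congr rfl (g := fun _ => 19) (fun K hK => by
      obtain ⟨x, -, rfl⟩ := Finset.mem_image.1 hK
      rw [← h19 x]
      congr 1
      ext y
      simp [hfib x y]), Finset.sum_const, smul_eq_mul] at hsum
  omega

theorem not_unique_common : ¬ ((∀ e ∈ (F.P : Subgroup G), e ≠ 1 → ¬ d.Adj d.b (e • d.b)) ∧
    ∀ e ∈ (F.P : Subgroup G), e ≠ 1 → ¬ d.Adj d.b (e • d.c)) := by
  rintro ⟨h1, h2⟩
  haveI := Fintype.ofFinite (Sylow 3 G)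
  have hl : (d.nb F.P ∩ d.nb d.b).card = 1 := by
    rw [Finset.card_eq_one]
    refine ⟨d.c, Finset.eq_singleton_iff_unique_mem.2
      ⟨Finset.mem_inter.2 ⟨mem_nb.2 (adj_P_c d), mem_nb.2 (adj_b_c d)⟩, fun y hy => ?_⟩⟩
    rw [Finset.mem_inter, mem_nb, mem_nb] at hy
    obtain ⟨e, he, rfl | rfl⟩ := (adj_P_iff hG d).1 hy.1
    · by_cases he1 : e = 1
      · rw [he1, one_smul] at hy
        exact absurd rfl (adj_ne d hy.2)
      · exact absurd hy.2 (h1 e he he1)
    · by_cases he1 : e = 1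
      · rw [he1, one_smul]
      · exact absurd hy.2 (h2 e he he1)
  have hmu : ∀ x y, x ≠ y → ¬ d.Adj x y → (d.nb x ∩ d.nb y).card = 8 := by
    intro x y hne hn
    obtain ⟨y₀, hy₀⟩ : ((Finset.univ.erase F.P) \ d.nb F.P).Nonempty :=
      Finset.card_pos.1 (by rw [card_non_nb hG d]; norm_num)
    simp only [Finset.mem_sdiff, Finset.mem_erase, Finset.mem_univ, and_true, mem_nb] at hy₀
    rw [common_non_adj hG d hne hn hy₀.1 hy₀.2]
    have := double_count hG d hy₀.1 hy₀.2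
    rw [hl] at this
    omega
  let A : Matrix (Sylow 3 G) (Sylow 3 G) (ZMod 13) := Matrix.of fun x y => if d.Adj x y then 1 else 0
  let J : Matrix (Sylow 3 G) (Sylow 3 G) (ZMod 13) := Matrix.of fun _ _ => 1
  have hcard : (Finset.univ : Finset (Sylow 3 G)).card = 55 := by
    rw [Finset.card_univ, ← Nat.card_eq_fintype_card, card_sylow_three hG]
  have hrow : ∀ x, (∑ y, A x y) = 18 := fun x => by
    show (∑ y, if d.Adj x y then (1 : (ZMod 13)) else 0) = 18
    rw [Finset.sum_boole, show (Finset.univ.filter (d.Adj x)) = d.nb x by ext y; simp [mem_nb], card_nb hG d]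
    norm_num
  have hA : A.transpose = A := by
    ext x y
    show (if d.Adj y x then (1 : (ZMod 13)) else 0) = if d.Adj x y then 1 else 0
    exact if_congr ⟨adj_symm d, adj_symm d⟩ rfl rfl
  have hAA : A * A = (10 : (ZMod 13)) • (1 : Matrix (Sylow 3 G) (Sylow 3 G) (ZMod 13)) + (-7 : (ZMod 13)) • A + (8 : (ZMod 13)) • J := by
    ext x z
    rw [Matrix.mul_apply]
    have hsum : (∑ y, A x y * A y z) = ((d.nb x ∩ d.nb z).card : (ZMod 13)) := by
      show (∑ y, (if d.Adj x y then (1 : (ZMod 13)) else 0) * (if d.Adj y z then 1 else 0)) = _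
      rw [Finset.sum_congr rfl (g := fun y => if d.Adj x y ∧ d.Adj y z then (1 : (ZMod 13)) else 0)
        (fun y _ => by split_ifs <;> simp_all), Finset.sum_boole]
      congr 2
      ext y
      simp only [Finset.mem_filter, Finset.mem_univ, true_and, Finset.mem_inter, mem_nb]
      exact ⟨fun h => ⟨h.1, adj_symm d h.2⟩, fun h => ⟨h.1, adj_symm d h.2⟩⟩
    rw [hsum]
    simp only [Matrix.add_apply, Matrix.smul_apply, Matrix.one_apply, A, J, Matrix.of_apply, smul_eq_mul]
    by_cases hxz : x = z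
    · subst hxz
      rw [Finset.inter_self, card_nb hG d, if_pos rfl, if_neg (fun h => adj_ne d h rfl)]
      decide
    by_cases hadj : d.Adj x z
    · rw [common_adj hG d hadj, hl, if_neg hxz, if_pos hadj]
      decide
    · rw [hmu x z hxz hadj, if_neg hxz, if_neg hadj]
      decide
  have hAJ : A * J = (18 : (ZMod 13)) • J := by
    ext x z
    rw [Matrix.mul_apply]
    simp only [J, Matrix.of_apply, mul_one, Matrix.smul_apply, smul_eq_mul]
    exact hrow x
  have hJA : J * A = (18 : (ZMod 13)) • J := by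
    have hJ : J.transpose = J := by ext x y; rfl
    have := congrArg Matrix.transpose hAJ
    rwa [Matrix.transpose_mul, hA, Matrix.transpose_smul, hJ] at this
  have hJJ : J * J = (55 : (ZMod 13)) • J := by
    ext x z
    rw [Matrix.mul_apply]
    simp [J, hcard]
  set B := (2 : (ZMod 13)) • A + (7 : (ZMod 13)) • (1 : Matrix (Sylow 3 G) (Sylow 3 G) (ZMod 13)) + (3 : (ZMod 13)) • J with hB
  have hBJ : B * J = 0 := by
    rw [hB]
    simp only [add_mul, smul_mul_assoc, hAJ, hJJ, one_mul, smul_smul, ← add_smul]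
    rw [show (2 : (ZMod 13)) * 18 + 7 + 3 * 55 = 0 by decide, zero_smul]
  have hBB : B * B = (11 : (ZMod 13)) • (1 : Matrix (Sylow 3 G) (Sylow 3 G) (ZMod 13)) + (5 : (ZMod 13)) • J := by
    rw [hB]
    simp only [add_mul, mul_add, smul_mul_assoc, mul_smul_comm, hAA, hAJ, hJA, hJJ, one_mul, mul_one,
      smul_smul, smul_add]
    match_scalars <;> decide
  have hB3 : B * (B * B) = (11 : (ZMod 13)) • B := by
    rw [hBB, mul_add, mul_smul_comm, mul_smul_comm, mul_one, hBJ, smul_zero, add_zero]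
  have hpow : ∀ k : ℕ, B ^ (2 * k + 1) = (11 : (ZMod 13)) ^ k • B := fun k => by
    induction k with
    | zero => simp
    | succ k ih =>
      rw [show 2 * (k + 1) + 1 = 2 + (2 * k + 1) by ring, pow_add, ih, mul_smul_comm, pow_two, mul_assoc, hB3,
        smul_smul, pow_succ]
  have htr : Matrix.trace B = 4 := by
    show (∑ x, B x x) = 4
    rw [Finset.sum_congr rfl (g := fun _ => (10 : (ZMod 13))) (fun x _ => by
      simp only [hB, Matrix.add_apply, Matrix.smul_apply, Matrix.one_apply_eq, A, J, Matrix.of_apply, smul_eq_mul,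
        if_neg (fun h : d.Adj x x => adj_ne d h rfl)]
      decide), Finset.sum_const, hcard]
    decide
  have key : ¬ ((11 : ZMod 13) ^ 6 • (4 : ZMod 13) = 4 ^ 13) := by decide
  haveI := Fact.mk (show Nat.Prime 13 by norm_num)
  have h13 := ZMod.trace_pow_card B
  rw [show B ^ 13 = (11 : ZMod 13) ^ 6 • B from hpow 6, Matrix.trace_smul, htr] at h13
  exact key h13

theorem common_small {y : Sylow 3 G} (hy : y ≠ F.P) (hyn : ¬ d.Adj F.P y)
    (h : 8 ≤ (d.nb F.P ∩ d.nb d.b).card) : (d.nb F.P ∩ d.nb y).card ≤ 4 := by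
  haveI := Fintype.ofFinite (Sylow 3 G)
  have := double_count hG d hy hyn
  omega

theorem adj_b_dichotomy :
    (∀ e ∈ (F.P : Subgroup G), e ≠ 1 → d.Adj d.b (e • d.b)) ∧
      ∀ e ∈ (F.P : Subgroup G), e ≠ 1 → ¬ d.Adj d.b (e • d.c) := by
  haveI := Fintype.ofFinite (Sylow 3 G)
  by_cases h1 : ∀ e ∈ (F.P : Subgroup G), e ≠ 1 → d.Adj d.b (e • d.b)
  · refine ⟨h1, fun e he he1 h => not_all_common hG d ⟨h1, fun e' he' he'1 => ?_⟩⟩
    exact (adj_b_congr hG d he he' he1 he'1).2 h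
  exfalso
  have h1' : ∀ e ∈ (F.P : Subgroup G), e ≠ 1 → ¬ d.Adj d.b (e • d.b) := fun e he he1 h =>
    h1 fun e' he' he'1 => (adj_b_congr hG d he he' he1 he'1).1 h
  by_cases h2 : ∀ e ∈ (F.P : Subgroup G), e ≠ 1 → d.Adj d.b (e • d.c)
  swap
  · exact not_unique_common hG d ⟨h1', fun e he he1 h =>
      h2 fun e' he' he'1 => (adj_b_congr hG d he he' he1 he'1).2 h⟩
  haveI := Fintype.ofFinite (F.P : Subgroup G)
  -- the images of `c` under nontrivial elements
  set S := ((Finset.univ : Finset ↥(F.P : Subgroup G)).erase 1).image (fun (e : ↥(F.P : Subgroup G)) => (e : G) • d.c) with hS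
  have hScard : S.card = 8 := by
    rw [hS, Finset.card_image_of_injective _ (fun a a' h => Subtype.ext (smul_c_inj hG d a.2 a'.2 h)),
      Finset.card_erase_of_mem (Finset.mem_univ _), Finset.card_univ, ← Nat.card_eq_fintype_card,
      card_sylow3 hG F.P]
  have hl : 8 ≤ (d.nb F.P ∩ d.nb d.b).card := by
    rw [← hScard]
    refine Finset.card_le_card fun y hy => ?_
    simp only [hS, Finset.mem_image, Finset.mem_erase, Finset.mem_univ, and_true] at hy
    obtain ⟨e, he1, rfl⟩ := hy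
    exact Finset.mem_inter.2 ⟨mem_nb.2 ((adj_P_iff hG d).2 ⟨e, e.2, Or.inr rfl⟩),
      mem_nb.2 (h2 e e.2 fun h => he1 (Subtype.ext h))⟩
  obtain ⟨e, he, he1⟩ := exists_ne_one_sylow hG F.P
  set b' := e • d.b with hb'
  have hne : d.b ≠ b' := fun h => he1 (smul_b_inj hG d he (one_mem _) (by rw [one_smul, ← hb', ← h]))
  obtain ⟨g, hg⟩ := exists_smul_eq G d.b F.P
  have h4 : (d.nb d.b ∩ d.nb b').card ≤ 4 := by
    rw [← card_nb_inter_smul d g, hg]
    refine common_small hG d (fun h => hne (MulAction.injective g (hg.trans h.symm))) ?_ hl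
    rw [← hg, adj_smul_iff]
    exact h1' e he he1
  have hPb : d.Adj d.b F.P := adj_symm d ⟨1, one_smul _ _, one_smul _ _⟩
  have hPb' : d.Adj b' F.P := adj_symm d ((adj_P_iff hG d).2 ⟨e, he, Or.inl rfl⟩)
  have hsub : insert F.P (S.erase (e • d.c)) ⊆ d.nb d.b ∩ d.nb b' := by
    intro y hy
    rw [Finset.mem_insert] at hy
    rcases hy with rfl | hy
    · exact Finset.mem_inter.2 ⟨mem_nb.2 hPb, mem_nb.2 hPb'⟩
    simp only [hS, Finset.mem_image, Finset.mem_erase, Finset.mem_univ, and_true] at hy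
    obtain ⟨hye, f, hf1, rfl⟩ := hy
    refine Finset.mem_inter.2 ⟨mem_nb.2 (h2 f f.2 fun h => hf1 (Subtype.ext h)), mem_nb.2 ?_⟩
    rw [← adj_smul_iff d e⁻¹, hb', inv_smul_smul, smul_smul]
    refine h2 _ (mul_mem (inv_mem he) f.2) fun h => hye ?_
    rw [← inv_mul_eq_one.1 h]
  have := (Finset.card_le_card hsub).trans h4
  rw [Finset.card_insert_of_notMem, Finset.card_erase_of_mem, hScard] at this
  · omega
  · simp only [hS, Finset.mem_image, Finset.mem_erase, Finset.mem_univ, and_true]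
    exact ⟨⟨e, he⟩, fun h => he1 (congrArg Subtype.val h), rfl⟩
  · intro h
    simp only [hS, Finset.mem_image, Finset.mem_erase, Finset.mem_univ, and_true] at h
    obtain ⟨-, f, -, hf⟩ := h
    exact d.cP (MulAction.injective (f : G) (hf.trans (e_smul_P hG f.2).symm))

end CfsgLib.MElevenUnique
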