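import Cfsg.Agent.MElevenUnique.TwoTwentyNine

/-!
A simple group of order 7920: 220 self-centralising Sylow 3-subgroups are impossible.
-/

set_option autoImplicit false

open scoped Pointwise
open MulAction

namespace CfsgLib.MElevenUnique

variable {G : Type*} [Group G] [Finite G] [IsSimpleGroup G] [Fact (Nat.Prime 3)]
  (hG : Nat.card G = 7920) (h220 : Nat.card (Sylow 3 G) = 220)
  (hC : ∀ Q : Sylow 3 G, Nat.card (Cs (Q : Subgroup G)) = 9)
include hG h220 hC

/-- An involution fixing a bad element and inverting the rest. -/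
theorem exists_reflection {P : Sylow 3 G} {u : G} (hu : u ∈ (P : Subgroup G)) (hu1 : u ≠ 1)
    (hb : inCard 3 (Cg u) = 4) :
    ∃ s b : G, orderOf s = 2 ∧ s ∈ Ng (P : Subgroup G) ∧ s ∈ Cg u ∧ orderOf b = 3 ∧ b ∈ (P : Subgroup G) ∧
      b ∉ Subgroup.zpowers u ∧ (∀ x ∈ (P : Subgroup G), s * x = x * s → x ∈ Subgroup.zpowers u) ∧
      (∀ x ∈ (P : Subgroup G), s * x * s⁻¹ = x⁻¹ → x ∈ Subgroup.zpowers b) ∧
      ∀ x ∈ (P : Subgroup G), s * x * s⁻¹ * x ∈ Subgroup.zpowers u := by
  have h18 := bad_eighteen hG h220 hC hu hu1 hb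
  have h3 := orderOf_bad hG hu hu1 hb
  have hP := card_sylow3 hG P
  haveI := Fact.mk Nat.prime_two
  obtain ⟨⟨s, hs'⟩, hs⟩ := exists_prime_orderOf_dvd_card' (G := ↥(Cg u ⊓ Ng (P : Subgroup G))) 2
    (by rw [h18]; norm_num)
  rw [← Subgroup.orderOf_coe] at hs
  simp only at hs
  have hs1 : s ≠ 1 := fun e => by rw [e, orderOf_one] at hs; norm_num at hs
  have hss : s * s = 1 := by rw [← pow_two, ← hs, pow_orderOf_eq_one]
  have hsinv : s⁻¹ = s := inv_eq_of_mul_eq_one_right hss
  have hcomm : ∀ x ∈ (P : Subgroup G), ∀ y ∈ (P : Subgroup G), x * y = y * x := fun x hx y hy =>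
    mem_Cg.1 (sylow_le_Cg hG P hy hx)
  have hmem : ∀ x ∈ (P : Subgroup G), s * x * s⁻¹ ∈ (P : Subgroup G) := fun x hx =>
    (Subgroup.mem_normalizer_iff.1 hs'.2 x).1 hx
  set A0 := (P : Subgroup G) ⊓ Cg s with hA0
  have huA : u ∈ A0 := ⟨hu, mem_Cg.2 (mem_Cg.1 hs'.1).symm⟩
  have hA0d : Nat.card A0 ∣ 9 := hP ▸ Subgroup.card_dvd_of_le inf_le_left
  have hA0ne : Nat.card A0 ≠ 9 := fun e => by
    have hle : (P : Subgroup G) ≤ Cg s :=
      (Subgroup.eq_of_le_of_card_ge (inf_le_left : A0 ≤ _) (by rw [e, hP])).symm.le.trans inf_le_right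
    exact not_le_Cg_invol hG hC hs hle
  have hA0eq : A0 = Subgroup.zpowers u := by
    refine (Subgroup.eq_of_le_of_card_ge (Subgroup.zpowers_le.2 huA) ?_).symm
    rw [Nat.card_zpowers, h3]
    have := Nat.le_of_dvd (by norm_num) hA0d
    interval_cases Nat.card A0 <;> omega
  have hfix : ∀ x ∈ (P : Subgroup G), s * x = x * s → x ∈ Subgroup.zpowers u := fun x hx h =>
    hA0eq ▸ (⟨hx, mem_Cg.2 h.symm⟩ : x ∈ A0)
  obtain ⟨v, hv, hvu⟩ : ∃ v ∈ (P : Subgroup G), v ∉ Subgroup.zpowers u := by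
    by_contra h
    push Not at h
    have := Subgroup.card_le_of_le (show (P : Subgroup G) ≤ Subgroup.zpowers u from h)
    rw [hP, Nat.card_zpowers, h3] at this
    norm_num at this
  set b := v⁻¹ * (s * v * s⁻¹) with hbdef
  have hbP : b ∈ (P : Subgroup G) := mul_mem (inv_mem hv) (hmem v hv)
  have hbinv : s * b * s⁻¹ = b⁻¹ := by
    have e : s * b * s⁻¹ = (s * v * s⁻¹)⁻¹ * v := by
      rw [hbdef]
      calc s * (v⁻¹ * (s * v * s⁻¹)) * s⁻¹ = (s * v * s⁻¹)⁻¹ * ((s * s) * v * (s * s)⁻¹) := by group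
        _ = (s * v * s⁻¹)⁻¹ * v := by rw [hss, inv_one, one_mul, mul_one]
    rw [e, hbdef]
    group
  have hb1 : b ≠ 1 := fun e => hvu (hfix v hv (by
    have := inv_mul_eq_one.1 (hbdef ▸ e : v⁻¹ * (s * v * s⁻¹) = 1)
    nth_rewrite 2 [this]
    rw [inv_mul_cancel_right]))
  -- the inverted elements
  let B0 : Subgroup G :=
    { carrier := {x | x ∈ (P : Subgroup G) ∧ s * x * s⁻¹ = x⁻¹}
      one_mem' := ⟨one_mem _, by simp⟩
      mul_mem' := by
        rintro x y ⟨hx, hx'⟩ ⟨hy, hy'⟩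
        refine ⟨mul_mem hx hy, ?_⟩
        rw [← conj_mul, hx', hy', ← mul_inv_rev, hcomm x hx y hy]
      inv_mem' := by
        rintro x ⟨hx, hx'⟩
        exact ⟨inv_mem hx, by rw [← conj_inv, hx']⟩ }
  have hB0le : B0 ≤ (P : Subgroup G) := fun x hx => hx.1
  have hB0d : Nat.card B0 ∣ 9 := hP ▸ Subgroup.card_dvd_of_le hB0le
  have hB0ne : Nat.card B0 ≠ 9 := fun e => by
    have h := ((Subgroup.eq_of_le_of_card_ge hB0le (by rw [e, hP])).symm.le hu : u ∈ B0).2
    rw [mem_Cg.1 hs'.1, mul_inv_cancel_right] at h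
    have h2 : u ^ 2 = 1 := by rw [pow_two]; nth_rewrite 1 [h]; exact inv_mul_cancel u
    have := orderOf_dvd_of_pow_eq_one h2
    rw [h3] at this
    norm_num at this
  have hbB : b ∈ B0 := ⟨hbP, hbinv⟩
  have hbne : Nat.card B0 ≠ 1 := fun e => hb1 (Subgroup.mem_bot.1 (Subgroup.card_eq_one.1 e ▸ hbB))
  have hB3 : Nat.card B0 = 3 := by
    have := Nat.le_of_dvd (by norm_num) hB0d
    interval_cases Nat.card B0 <;> omega
  have hob : orderOf b = 3 := Small.orderOf_eq_of_mem_prime hB3 hbB hb1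
  have hbu : b ∉ Subgroup.zpowers u := fun h => by
    have hc : s * b = b * s := (mem_Cg.1 ((hA0eq ▸ h : b ∈ A0).2)).symm
    have h' := hbinv
    rw [hc, mul_inv_cancel_right] at h'
    have h2 : b ^ 2 = 1 := by rw [pow_two]; nth_rewrite 1 [h']; exact inv_mul_cancel b
    have := orderOf_dvd_of_pow_eq_one h2
    rw [hob] at this
    norm_num at this
  refine ⟨s, b, hs, hs'.2, hs'.1, hob, hbP, hbu, hfix, fun x hx h => ?_, fun x hx => ?_⟩
  · rw [Small.eq_zpowers_of_mem_prime hB3 hbB hb1]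
    exact ⟨hx, h⟩
  · refine hfix _ (mul_mem (hmem x hx) hx) ?_
    calc s * (s * x * s⁻¹ * x) = (s * s) * x * s⁻¹ * x := by group
      _ = x * (s * x) := by rw [hss, one_mul, hsinv]; group
      _ = x * (s * x * s⁻¹) * s := by group
      _ = (s * x * s⁻¹ * x) * s := by rw [hcomm x hx _ (hmem x hx)]

theorem bad_unique {P : Sylow 3 G} {u v : G} (hu : u ∈ (P : Subgroup G)) (hu1 : u ≠ 1)
    (hb : inCard 3 (Cg u) = 4) (hv : v ∈ (P : Subgroup G)) (hv1 : v ≠ 1)
    (hbv : inCard 3 (Cg v) = 4) : v ∈ Subgroup.zpowers u := by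
  classical
  obtain ⟨s, b, hs, hsN, hsu, hob, hbP, hbu, hfix, hinv, -⟩ := exists_reflection hG h220 hC hu hu1 hb
  have h3 := orderOf_bad hG hu hu1 hb
  have hss : s * s = 1 := by rw [← pow_two, ← hs, pow_orderOf_eq_one]
  have hmem : ∀ w ∈ (P : Subgroup G), w ≠ 1 → inCard 3 (Cg w) = 4 →
      w ∈ Subgroup.zpowers u ∨ w ∈ Subgroup.zpowers b := by
    intro w hw hw1 hbw
    obtain ⟨hN, -, -⟩ := Ng_le_Ng_bad hG h220 hw hw1 hbw (bad_eighteen hG h220 hC hw hw1 hbw)
    have hz := (Subgroup.mem_normalizer_iff.1 (hN hsN) w).1 (Subgroup.mem_zpowers w)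
    rcases zpowers_three (orderOf_bad hG hw hw1 hbw) hz with e | e | e
    · exact absurd (conj_eq_one_iff.1 e) hw1
    · exact Or.inl (hfix w hw (mul_inv_eq_iff_eq_mul.1 e))
    · exact Or.inr (hinv w hw e)
  rcases hmem v hv hv1 hbv with h | h
  · exact h
  exfalso
  have hCb : Cg v = Cg b := by
    rcases zpowers_three hob h with e | e | e
    · exact absurd e hv1
    · rw [e]
    · rw [e]
      ext c
      rw [mem_Cg, mem_Cg]
      exact ⟨fun h' => by simpa using (Commute.inv_right h' : Commute c b⁻¹⁻¹).eq,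
        fun h' => (Commute.inv_right h' : Commute c b⁻¹).eq⟩
  rw [hCb] at hbv
  have hb1 : b ≠ 1 := fun e => by rw [e, orderOf_one] at hob; norm_num at hob
  have hCu : Cg u⁻¹ = Cg u := by
    ext c; rw [mem_Cg, mem_Cg]
    exact ⟨fun h' => by simpa using (Commute.inv_right h' : Commute c u⁻¹⁻¹).eq,
      fun h' => (Commute.inv_right h' : Commute c u⁻¹).eq⟩
  have hCbi : Cg b⁻¹ = Cg b := by
    ext c; rw [mem_Cg, mem_Cg]
    exact ⟨fun h' => by simpa using (Commute.inv_right h' : Commute c b⁻¹⁻¹).eq,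
      fun h' => (Commute.inv_right h' : Commute c b⁻¹).eq⟩
  haveI := Fintype.ofFinite (P : Subgroup G)
  have hset : (Finset.univ.filter fun w : (P : Subgroup G) => w ≠ 1 ∧ inCard 3 (Cg (w : G)) = 4)
      = {⟨u, hu⟩, ⟨u⁻¹, inv_mem hu⟩, ⟨b, hbP⟩, ⟨b⁻¹, inv_mem hbP⟩} := by
    ext w
    simp only [Finset.mem_filter, Finset.mem_univ, true_and, Finset.mem_insert, Finset.mem_singleton]
    constructor
    · rintro ⟨hw1, hbw⟩
      have hw1' : (w : G) ≠ 1 := fun e => hw1 (Subtype.ext e)
      rcases hmem w w.2 hw1' hbw with hw | hw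
      · rcases zpowers_three h3 hw with e | e | e
        · exact absurd e hw1'
        · exact Or.inl (Subtype.ext e)
        · exact Or.inr (Or.inl (Subtype.ext e))
      · rcases zpowers_three hob hw with e | e | e
        · exact absurd e hw1'
        · exact Or.inr (Or.inr (Or.inl (Subtype.ext e)))
        · exact Or.inr (Or.inr (Or.inr (Subtype.ext e)))
    · rintro (rfl | rfl | rfl | rfl)
      · exact ⟨fun e => hu1 (congrArg Subtype.val e), hb⟩
      · exact ⟨fun e => hu1 (inv_eq_one.1 (congrArg Subtype.val e)), by rw [show ((⟨u⁻¹, inv_mem hu⟩ : (P : Subgroup G)) : G) = u⁻¹ from rfl, hCu]; exact hb⟩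
      · exact ⟨fun e => hb1 (congrArg Subtype.val e), hbv⟩
      · exact ⟨fun e => hb1 (inv_eq_one.1 (congrArg Subtype.val e)), by rw [show ((⟨b⁻¹, inv_mem hbP⟩ : (P : Subgroup G)) : G) = b⁻¹ from rfl, hCbi]; exact hbv⟩
  have hne : ∀ x : G, orderOf x = 3 → x ≠ x⁻¹ := fun x hx e => by
    have h2 : x ^ 2 = 1 := by rw [pow_two]; nth_rewrite 1 [e]; exact inv_mul_cancel x
    have := orderOf_dvd_of_pow_eq_one h2
    rw [hx] at this
    norm_num at this
  have hu' : ∀ x ∈ Subgroup.zpowers u, x ≠ b ∧ x ≠ b⁻¹ := fun x hx =>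
    ⟨fun e => hbu (e ▸ hx), fun e => hbu (by simpa using inv_mem (e ▸ hx : b⁻¹ ∈ Subgroup.zpowers u))⟩
  have h4 : Nat.card {w : (P : Subgroup G) // w ≠ 1 ∧ inCard 3 (Cg (w : G)) = 4} = 4 := by
    rw [Nat.card_eq_fintype_card, Fintype.card_subtype, hset, Finset.card_insert_of_notMem,
      Finset.card_insert_of_notMem, Finset.card_pair]
    · exact fun e => hne b hob (congrArg Subtype.val e)
    · have := hu' u⁻¹ (inv_mem (Subgroup.mem_zpowers u))
      simp only [Finset.mem_insert, Finset.mem_singleton, Subtype.mk.injEq, not_or]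
      exact this
    · have := hu' u (Subgroup.mem_zpowers u)
      simp only [Finset.mem_insert, Finset.mem_singleton, Subtype.mk.injEq, not_or]
      exact ⟨hne u h3, this⟩
  have := nine_dvd_count hG P
  rw [h220, h4] at this
  norm_num at this

theorem false_nine : False := by
  classical
  obtain ⟨P⟩ : Nonempty (Sylow 3 G) := inferInstance
  obtain ⟨u, hu, hu1, hb⟩ := exists_bad hG h220 P
  obtain ⟨hNL, h72, hL144⟩ := Ng_le_Ng_bad hG h220 hu hu1 hb (bad_eighteen hG h220 hC hu hu1 hb)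
  obtain ⟨s, b, hs, hsN, hsu, hob, hbP, hbu, hfix, -, hmod⟩ := exists_reflection hG h220 hC hu hu1 hb
  have h3 := orderOf_bad hG hu hu1 hb
  have hP := card_sylow3 hG P
  have hss : s * s = 1 := by rw [← pow_two, ← hs, pow_orderOf_eq_one]
  have hs1 : s ≠ 1 := fun e => by rw [e, orderOf_one] at hs; norm_num at hs
  set L := Ng (Subgroup.zpowers u) with hLdef
  have hCL : Cg u ≤ L := fun c hc =>
    mem_Ng_zpowers (by rw [mem_Cg.1 hc, mul_inv_cancel_right]; exact Subgroup.mem_zpowers u)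
  have hRu : ∀ R : Sylow 3 G, (R : Subgroup G) ≤ L → (R : Subgroup G) ≤ Cg u := fun R hR =>
    sylow_le_of_Ng hG h3 hR
  have hPL : (P : Subgroup G) ≤ L := (sylow_le_Cg hG P hu).trans hCL
  have hsL : s ∈ L := hNL hsN
  have hX : Nat.card (G ⧸ L) = 55 := by
    have h1 := L.index_mul_card
    rw [hL144, hG, Subgroup.index_eq_card] at h1
    omega
  have hbase : ∀ g ∈ L, g • ((1 : G) : G ⧸ L) = ((1 : G) : G ⧸ L) := fun g hg => by
    show ((g * 1 : G) : G ⧸ L) = _
    rw [mul_one, QuotientGroup.eq, mul_one]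
    exact inv_mem hg
  have hkey : ∀ g a : G, a • (g : G ⧸ L) = g ↔ g⁻¹ * a * g ∈ L := fun g a => by
    show ((a * g : G) : G ⧸ L) = g ↔ _
    rw [eq_comm, QuotientGroup.eq, ← mul_assoc]
  have hfree : ∀ a ∈ (P : Subgroup G), a ≠ 1 →
      ∀ x : G ⧸ L, a • x = x → x = ((1 : G) : G ⧸ L) := by
    intro a ha ha1 x hx
    induction x using QuotientGroup.induction_on with
    | _ g =>
      obtain ⟨k, hk⟩ := three_pow hG ha
      obtain ⟨R0, hR0, hR0L⟩ := exists_le_sylow_of_mem (a := 2) (x := g⁻¹ * a * g) (k := k)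
        (by rw [← hk]; simpa [MulAut.conj_apply] using
          orderOf_injective (MulAut.conj g⁻¹).toMonoidHom (MulAut.conj g⁻¹).injective a)
        ((hkey g a).1 hx) (by rw [hL144]; norm_num) (fun T => by rw [card_sylow3 hG T]; norm_num)
      set R := g • R0 with hR
      have haR : a ∈ (R : Subgroup G) := by
        have := (mem_smul_sylow R0 g).2 hR0
        rwa [show g * (g⁻¹ * a * g) * g⁻¹ = a by group] at this
      set u' := g * u * g⁻¹ with hu'def
      have hu'R : u' ∈ (R : Subgroup G) := (mem_smul_sylow R0 g).2 ((mem_iff_le_Cg hG hu).2 (hRu R0 hR0L))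
      have hu'1 : u' ≠ 1 := fun e => hu1 (conj_eq_one_iff.1 e)
      have hbu' : inCard 3 (Cg u') = 4 := by rw [← fix3_eq hG hu'R, fixCard_conj, fix3_eq hG hu, hb]
      have hu'u : u' ∈ Subgroup.zpowers u := by
        rcases inCard_Cg hG ha ha1 with h | h
        · have e : R = P := eq_of_inCard_one h (sylow_le_Cg hG R haR) (sylow_le_Cg hG P ha)
          exact bad_unique hG h220 hC hu hu1 hb (e ▸ hu'R) hu'1 hbu'
        · have h1 : a ∈ Subgroup.zpowers u := bad_unique hG h220 hC hu hu1 hb ha ha1 h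
          have h2 : a ∈ Subgroup.zpowers u' := bad_unique hG h220 hC hu'R hu'1 hbu' haR ha1 h
          have ho : orderOf u' = 3 := orderOf_bad hG hu'R hu'1 hbu'
          have hz : Subgroup.zpowers a = Subgroup.zpowers u' :=
            Subgroup.eq_of_le_of_card_ge (Subgroup.zpowers_le.2 h2) (by
              rw [Nat.card_zpowers, Nat.card_zpowers, ho, orderOf_bad hG ha ha1 h])
          exact Subgroup.zpowers_le.2 h1 (hz.symm.le (Subgroup.mem_zpowers u'))
      have hgL : g ∈ L := mem_Ng_zpowers hu'u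
      exact QuotientGroup.eq.2 (by simpa using inv_mem hgL)
  haveI : Nontrivial (G ⧸ L) := Finite.one_lt_card_iff_nontrivial.1 (by omega)
  -- fixed points of s
  have hufix : fixCard (G ⧸ L) s % 3 = 1 := by
    rw [fix_modEq_inter (X := G ⧸ L) (mem_Cg.1 hsu : Commute s u) (h3 ▸ pow_orderOf_eq_one u)]
    have : Nat.card {a : G ⧸ L // s • a = a ∧ u • a = a} = 1 := by
      rw [Nat.card_eq_one_iff_unique]
      exact ⟨⟨fun c d => Subtype.ext ((hfree u hu hu1 _ c.2.2).trans (hfree u hu hu1 _ d.2.2).symm)⟩,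
        ⟨⟨_, hbase s hsL, hbase u (hPL hu)⟩⟩⟩
    rw [this]
  have h4m := four_dvd_moved (X := G ⧸ L) (nc hG) hs
  have hle := fixCard_le (X := G ⧸ L) s
  have hlt : fixCard (G ⧸ L) s < 55 := by
    by_contra hge
    exact hs1 (eq_one_of_fixCard (X := G ⧸ L) (by omega))
  rw [hX] at h4m
  -- the action on four Sylow subgroups
  set Y := insideSylows 3 L
  haveI := Fintype.ofFinite Y
  have hY4 : Fintype.card Y = 4 := by
    rw [← Nat.card_eq_fintype_card, ← hb]
    exact Nat.card_congr (Equiv.subtypeEquivRight fun R => ⟨hRu R, fun h => h.trans hCL⟩)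
  set π := toPermHom L Y with hπ
  obtain ⟨R1, hR1, hR1P, hsR1, huniq⟩ := exactly_two hG hu hu1 hb hsN hmod
  set sL : L := ⟨s, hsL⟩
  have hswap : (π sL).IsSwap := by
    refine isSwap_of_two_fixed hY4 (a := ⟨P, hPL⟩) (b := ⟨R1, hR1.trans hCL⟩)
      (fun e => hR1P (congrArg Subtype.val e).symm) ?_ ?_ ?_
    · exact Subtype.ext (smul_sylow_eq_iff.2 hsN)
    · exact Subtype.ext hsR1
    · intro T hT
      rcases huniq T (hRu T T.2) (congrArg Subtype.val hT) with e | e
      · exact Or.inl (Subtype.ext e)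
      · exact Or.inr (Subtype.ext e)
  -- the kernel inside C(u)
  have hker : ∀ k : L, (k : G) ∈ Cg u → π k = 1 → (k : G) ∈ Subgroup.zpowers u := by
    intro k hku hk
    have hfixk : ∀ T : Sylow 3 G, (T : Subgroup G) ≤ Cg u → (k : G) • T = T := fun T hT =>
      congrArg Subtype.val (congrArg (fun σ : Equiv.Perm Y => σ ⟨T, hT.trans hCL⟩) hk :)
    have hkN : (k : G) ∈ Ng (P : Subgroup G) := smul_sylow_eq_iff.1 (hfixk P (sylow_le_Cg hG P hu))
    by_cases hkP : (k : G) ∈ (P : Subgroup G)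
    · obtain ⟨T, hT, hTP⟩ := exists_other hG (P := P) hb
      rw [← inter_eq_zpowers hG hTP h3 ((mem_iff_le_Cg hG hu).2 hT) hu]
      exact Subgroup.mem_inf.2 ⟨(fix3_iff hG hkP).1 (hfixk T hT), hkP⟩
    exfalso
    set H := Cg u ⊓ Ng (P : Subgroup G) with hH
    have hidx : ((P : Subgroup G).subgroupOf H).index = 2 := by
      have h := ((P : Subgroup G).subgroupOf H).index_mul_card
      rw [Nat.card_congr (Subgroup.subgroupOfEquivOfLe (le_inf (sylow_le_Cg hG P hu) Subgroup.le_normalizer)).toEquiv,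
        hP] at h
      have h18 := bad_eighteen hG h220 hC hu hu1 hb
      rw [← hH] at h18
      rw [h18] at h
      omega
    have hsnP : s ∉ (P : Subgroup G) := fun h => by
      have hd := (Subgroup.orderOf_dvd_natCard _ h).trans (dvd_of_eq hP)
      rw [hs] at hd
      norm_num at hd
    have hp : (k : G) * s ∈ (P : Subgroup G) :=
      (Subgroup.mul_mem_iff_of_index_two hidx (a := ⟨k, hku, hkN⟩) (b := ⟨s, hsu, hsN⟩)).2
        (iff_of_false hkP hsnP)
    set p := (k : G) * s with hpdef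
    have hsT : ∀ T : Sylow 3 G, (T : Subgroup G) ≤ Cg u → s • T = p • T := by
      intro T hT
      have hle := smul_sylow_le hsu hT
      rw [hpdef, mul_smul, hfixk _ hle]
    obtain ⟨T, hT, hTP⟩ := exists_other hG (P := P) hb
    have hbT := hsT _ (smul_sylow_le (sylow_le_Cg hG P hu hbP) hT)
    rw [smul_smul, smul_smul, show s * b = (s * b * s⁻¹ * b) * b⁻¹ * s by group,
      show p * b = b * p from mem_Cg.1 (sylow_le_Cg hG P hbP hp), mul_smul, mul_smul, hsT T hT, mul_smul b p T] at hbT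
    have hle : ((b⁻¹ • p • T : Sylow 3 G) : Subgroup G) ≤ Cg u :=
      smul_sylow_le (inv_mem (sylow_le_Cg hG P hu hbP)) (smul_sylow_le (sylow_le_Cg hG P hu hp) hT)
    have huX : s * b * s⁻¹ * b ∈ Ng ((b⁻¹ • p • T : Sylow 3 G) : Subgroup G) :=
      Subgroup.le_normalizer ((Subgroup.zpowers_le.2 ((mem_iff_le_Cg hG hu).2 hle)) (hmod b hbP))
    rw [smul_sylow_eq_iff.2 huX, inv_smul_eq_iff, smul_smul] at hbT
    have hbb : (b * b) • p • T = p • T := hbT.symm
    have h5 := pow_smul_eq hbb 5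
    rw [← eq_self_of_pow_nine (pow_nine hG hbP)] at h5
    have hpT : ((p • T : Sylow 3 G) : Subgroup G) ≤ Cg u := smul_sylow_le (sylow_le_Cg hG P hu hp) hT
    have hne : p • T ≠ P := fun e => hTP (MulAction.injective p
      (e.trans (smul_sylow_eq_iff.2 (Subgroup.le_normalizer hp)).symm))
    refine hbu ?_
    rw [← inter_eq_zpowers hG hne h3 ((mem_iff_le_Cg hG hu).2 hpT) hu]
    exact Subgroup.mem_inf.2 ⟨(fix3_iff hG hbP).1 h5, hbP⟩
  have hinjC : ∀ h h' : L, (h : G) ∈ Cg u → (h' : G) ∈ Cg u → h * h = 1 → h' * h' = 1 → π h = π h' →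
      h = h' := by
    intro h h' hh hh' h2 h2' he
    have hinv : h⁻¹ = h := inv_eq_of_mul_eq_one_right h2
    set k := h * h' with hk
    have hku : (k : G) ∈ Cg u := mul_mem hh hh'
    have hk1 : π k = 1 := by rw [hk, map_mul, ← he, ← map_mul, h2, map_one]
    have hkz := hker k hku hk1
    have hc : Commute (h : G) (k : G) := by
      obtain ⟨j, hj⟩ := hkz
      rw [← (hj : u ^ j = (k : G))]
      exact Commute.zpow_right (mem_Cg.1 hh) j
    have hc' : h * k = k * h := Subtype.ext hc.eq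
    have hkk : k * k = 1 := by
      have h3 : h' = h * k := by rw [hk, ← mul_assoc, h2, one_mul]
      calc k * k = h * h' * (h * h') := by rw [hk]
        _ = h * (h * k) * (h * (h * k)) := by rw [← h3]
        _ = k * k := by rw [← mul_assoc h h k, h2, one_mul]
        _ = 1 := by
          have : h * k * (h * k) = 1 := by rw [← h3, h2']
          rw [← mul_assoc, hc', mul_assoc k h h, h2, mul_one] at this
          exact this
    have hkG : (k : G) * k = 1 := congrArg Subtype.val hkk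
    have h3' : (k : G) = 1 := by
      rw [eq_self_of_pow_nine (pow_nine hG ((Subgroup.zpowers_le.2 hu) hkz)), hkG, one_pow]
    have hk1' : h * h' = 1 := Subtype.ext h3'
    exact hinv.symm.trans (inv_eq_of_mul_eq_one_right hk1')
  -- the centraliser of s in L
  set D := (Cg s).subgroupOf L with hD
  have hDidx : D.index ≤ 6 := by
    refine le_trans ?_ (card_swaps_le hY4)
    rw [Subgroup.index_eq_card]
    refine Nat.card_le_card_of_injective (fun q => ⟨π (q.out * sL * q.out⁻¹), by
      rw [map_mul, map_mul, map_inv]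
      obtain ⟨x, y, hxy, hx⟩ := hswap
      exact ⟨π q.out x, π q.out y, fun e => hxy ((π q.out).injective e), by
        rw [hx, Equiv.Perm.mul_def, Equiv.Perm.mul_def]
        ext z
        simp [Equiv.swap_apply_def, Equiv.Perm.inv_def, Equiv.symm_apply_eq]
        split_ifs <;> simp_all⟩⟩) ?_
    intro q q' e
    have hmemC : ∀ c : L, ((c * sL * c⁻¹ : L) : G) ∈ Cg u := fun c => Ng_zpowers_Cg c.2 hsu
    have hsq : ∀ c : L, (c * sL * c⁻¹) * (c * sL * c⁻¹) = 1 := fun c => by
      rw [conj_mul, show sL * sL = 1 from Subtype.ext hss, mul_one, mul_inv_cancel]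
    have e' := hinjC _ _ (hmemC _) (hmemC _) (hsq _) (hsq _) (congrArg Subtype.val e)
    have e'' : (q.out : G) * s * (q.out : G)⁻¹ = (q'.out : G) * s * (q'.out : G)⁻¹ :=
      congrArg Subtype.val e'
    rw [← q.out_eq', ← q'.out_eq']
    refine QuotientGroup.eq.2 (Subgroup.mem_subgroupOf.2 (mem_Cg.2 ?_))
    show (q.out : G)⁻¹ * (q'.out : G) * s = s * ((q.out : G)⁻¹ * (q'.out : G))
    calc (q.out : G)⁻¹ * (q'.out : G) * s
        = (q.out : G)⁻¹ * ((q'.out : G) * s * (q'.out : G)⁻¹) * (q'.out : G) := by group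
      _ = (q.out : G)⁻¹ * ((q.out : G) * s * (q.out : G)⁻¹) * (q'.out : G) := by rw [e'']
      _ = _ := by group
  have h24le : 24 ≤ Nat.card D := by
    have h1 := D.index_mul_card
    rw [hL144] at h1
    have := Nat.mul_le_mul_right (Nat.card D) hDidx
    omega
  set H := L ⊓ Cg s with hH
  have hDH : Nat.card D = Nat.card H := by
    rw [hD, ← Subgroup.inf_subgroupOf_left (Cg s) L,
      Nat.card_congr (Subgroup.subgroupOfEquivOfLe inf_le_left).toEquiv]
  have hno9 : ∀ K : Subgroup G, K ≤ Cg s → u ∈ K → ¬ 9 ∣ Nat.card K := by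
    intro K hK huK h9
    obtain ⟨R, -, hR⟩ := exists_le_sylow_of_mem (a := 2) (k := 1) (x := u) (H := K)
      (by rw [h3, pow_one]) huK h9 (fun T => by rw [card_sylow3 hG T]; norm_num)
    exact not_le_Cg_invol hG hC hs (hR.trans hK)
  have hus : u ∈ Cg s := mem_Cg_comm.1 hsu
  have h24 : Nat.card H = 24 := by
    rw [hDH] at h24le
    have hst : Nat.card (stabilizer H P) ≤ 12 := by
      have hle : (stabilizer H P).map H.subtype ≤ Cg s ⊓ Ng (P : Subgroup G) := by
        rintro _ ⟨c, hc, rfl⟩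
        exact ⟨c.2.2, smul_sylow_eq_iff.1 hc⟩
      have h1 := Subgroup.card_le_of_le hle
      rw [Subgroup.card_subtype] at h1
      have h2 : Nat.card ↥(Cg s ⊓ Ng (P : Subgroup G)) ∣ 36 :=
        card_Ng220 hG h220 P ▸ Subgroup.card_dvd_of_le inf_le_right
      have h9 := hno9 _ (inf_le_left : Cg s ⊓ Ng (P : Subgroup G) ≤ Cg s) ⟨hus, Subgroup.le_normalizer hu⟩
      have h3' := Nat.le_of_dvd (by norm_num) h2
      generalize Nat.card ↥(Cg s ⊓ Ng (P : Subgroup G)) = c at h1 h2 h9 h3'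
      by_contra hlt
      have hc : c = 18 ∨ c = 36 := by
        have hm : c ∈ Nat.divisors 36 := Nat.mem_divisors.2 ⟨h2, by norm_num⟩
        rw [show Nat.divisors 36 = {1, 2, 3, 4, 6, 9, 12, 18, 36} by decide] at hm
        simp only [Finset.mem_insert, Finset.mem_singleton] at hm
        omega
      rcases hc with e | e <;> exact h9 (by rw [e]; norm_num)
    have horb : (orbit H P).ncard ≤ 2 := by
      refine le_trans (Set.ncard_le_ncard (t := {P, R1}) ?_ (Set.toFinite _)) ?_
      · rintro T ⟨c, rfl⟩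
        have hcT : ((c : G) • P : Sylow 3 G) = P ∨ ((c : G) • P : Sylow 3 G) = R1 := by
          refine huniq _ (hRu _ (smul_sylow_le c.2.1 hPL)) ?_
          rw [smul_smul, ← mem_Cg.1 c.2.2, mul_smul, smul_sylow_eq_iff.2 hsN]
        simpa [Subgroup.smul_def] using hcT
      · rw [Set.ncard_pair (fun e => hR1P e.symm)]
    have h1 := Subgroup.index_mul_card (stabilizer H P)
    rw [index_stabilizer] at h1
    have := Nat.mul_le_mul horb hst
    omega
  -- the whole centraliser of s
  have hCs : Nat.card (Cg s) = 24 := by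
    have hHle : H ≤ Cg s := inf_le_right
    obtain ⟨c, hc⟩ : 24 ∣ Nat.card (Cg s) := h24 ▸ Subgroup.card_dvd_of_le hHle
    have hd := card_dvd hG (Cg s)
    have h11 := not_eleven_Cg hG hs1 (by rw [hs]; norm_num)
    have h9 := hno9 _ le_rfl hus
    have hle7 := card_le hG (Cg_ne_top hG hs1)
    set X := Subgroup.zpowers u with hXdef
    have hXle : X ≤ Cg s := Subgroup.zpowers_le.2 hus
    have hXS : IsPGroup 3 (X.subgroupOf (Cg s)) := IsPGroup.of_card (n := 1) (by
      rw [Nat.card_congr (Subgroup.subgroupOfEquivOfLe hXle).toEquiv, Nat.card_zpowers, h3, pow_one])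
    have hXi : ¬ 3 ∣ (X.subgroupOf (Cg s)).index := by
      have h1 := (X.subgroupOf (Cg s)).index_mul_card
      rw [Nat.card_congr (Subgroup.subgroupOfEquivOfLe hXle).toEquiv, Nat.card_zpowers, h3] at h1
      intro h
      apply h9
      rw [← h1]
      obtain ⟨d, hd⟩ := h
      exact ⟨d, by rw [hd]; ring⟩
    have hk := Small.card_sylow_mul_card_normalizer (hXS.toSylow hXi)
    rw [show ((hXS.toSylow hXi) : Subgroup (Cg s)) = X.subgroupOf (Cg s) from rfl,
      ← Subgroup.subgroupOf_normalizer_eq hXle, ← Subgroup.inf_subgroupOf_left (Ng X) (Cg s),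
      Nat.card_congr (Subgroup.subgroupOfEquivOfLe inf_le_left).toEquiv,
      show Cg s ⊓ Ng X = H from inf_comm _ _, h24] at hk
    have hmod3 := Small.card_sylow_mod 3 (G := Cg s)
    have h16 : 16 ∣ Nat.card (Cg s) → ¬ 5 ∣ Nat.card (Cg s) := fun h => no_five hG hs h
    rw [← hk] at hd h11 h9 hle7 h16
    generalize Nat.card (Sylow 3 (Cg s)) = n at hk hd h11 h9 hle7 hmod3 h16
    have hn : n ≤ 30 := by omega
    interval_cases n <;> first
      | omega
      | (exfalso; norm_num at hd; done)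
      | (exfalso; norm_num at h16; done)
      | (exfalso; norm_num at h9; done)
  -- involutions of L
  have hf := fix_mul (X := G ⧸ L) ((1 : G) : G ⧸ L) s
  rw [MulAction.stabilizer_quotient, hL144, hCs] at hf
  have hinvol : Nat.card {h : G // h ∈ L ∧ IsConj s h} ≤ 40 := by
    haveI := Fintype.ofFinite L
    have hsq : ∀ h : {h : G // h ∈ L ∧ IsConj s h}, (⟨h.1, h.2.1⟩ : L) * ⟨h.1, h.2.1⟩ = 1 := fun h => by
      obtain ⟨c, hc⟩ := isConj_iff.1 h.2.2
      refine Subtype.ext ?_
      show h.1 * h.1 = 1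
      rw [← hc, conj_mul, hss, mul_one, mul_inv_cancel]
    refine le_trans (Nat.card_le_card_of_injective (β := {h : L // h * h = 1})
      (fun h => ⟨⟨h.1, h.2.1⟩, hsq h⟩) (fun a b e => Subtype.ext
        (congrArg (fun z : {h : L // h * h = 1} => ((z : L) : G)) e))) ?_
    rw [Nat.card_eq_fintype_card, Fintype.card_subtype]
    refine le_trans (Finset.card_le_mul_card_image (f := fun h : L => π h) _ 4 fun σ _ => ?_) ?_
    · set F := (Finset.univ.filter fun h : L => h * h = 1).filter fun h => π h = σ with hF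
      have hmemF : ∀ h ∈ F, h * h = 1 ∧ π h = σ := fun h hh => by
        simpa [hF] using hh
      have hA : (F.filter fun (h : L) => (h : G) ∈ Cg u).card ≤ 1 := Finset.card_le_one.2 fun a ha b hb' => by
        simp only [Finset.mem_filter] at ha hb'
        exact hinjC a b ha.2 hb'.2 (hmemF a ha.1).1 (hmemF b hb'.1).1
          ((hmemF a ha.1).2.trans (hmemF b hb'.1).2.symm)
      have hB : (F.filter fun (h : L) => (h : G) ∉ Cg u).card ≤ 3 := by
        rcases (F.filter fun (h : L) => (h : G) ∉ Cg u).eq_empty_or_nonempty with e | ⟨a, ha⟩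
        · simp [e]
        simp only [Finset.mem_filter] at ha
        have hidx : ((Cg u).subgroupOf L).index = 2 := by
          have h := ((Cg u).subgroupOf L).index_mul_card
          rw [Nat.card_congr (Subgroup.subgroupOfEquivOfLe hCL).toEquiv, h72, hL144] at h
          omega
        haveI := Fintype.ofFinite (Subgroup.zpowers u)
        have hz3 : Fintype.card (Subgroup.zpowers u) = 3 := by rw [← Nat.card_eq_fintype_card, Nat.card_zpowers, h3]
        rw [← hz3, ← Finset.card_univ]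
        refine (Finset.card_le_card_of_injOn (fun h : L => (a : G) * h) (t := (Finset.univ : Finset (Subgroup.zpowers u)).image Subtype.val) ?_ ?_).trans Finset.card_image_le
        · intro h hh
          simp only [Finset.coe_filter, Set.mem_setOf_eq] at hh
          simp only [Finset.coe_image, Finset.coe_univ, Set.image_univ, Subtype.range_coe_subtype, Set.mem_setOf_eq]
          refine hker (a * h) ?_ ?_
          · exact (Subgroup.mul_mem_iff_of_index_two hidx (a := a) (b := h)).2 (iff_of_false ha.2 hh.2)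
          · rw [map_mul, (hmemF a ha.1).2, ← (hmemF h hh.1).2, ← map_mul, (hmemF h hh.1).1, map_one]
        · intro h _ h' _ e
          exact Subtype.ext (mul_left_cancel e)
      have := Finset.card_filter_add_card_filter_not (s := F) (fun h : L => (h : G) ∈ Cg u)
      omega
    · refine Nat.mul_le_mul_left 4 ?_ |>.trans (show 4 * 10 ≤ 40 by norm_num)
      rw [← card_square_one_le hY4, Nat.card_eq_fintype_card, Fintype.card_subtype]
      refine Finset.card_le_card fun σ hσ => ?_
      simp only [Finset.mem_image, Finset.mem_filter, Finset.mem_univ, true_and] at hσ ⊢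
      obtain ⟨h, hh, rfl⟩ := hσ
      rw [← map_mul, hh, map_one]
  have : fixCard (G ⧸ L) s ≥ 7 := by
    generalize fixCard (G ⧸ L) s = f at hufix h4m hle hlt
    interval_cases f <;> omega
  omega

end CfsgLib.MElevenUnique
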