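import Cfsg.Agent.MElevenUnique.ThreeFiftyFive
import Cfsg.Agent.MElevenUnique.TwoTwentyB

/-!
A simple group of order 7920 has 55 Sylow 3-subgroups.
-/

set_option autoImplicit false

open scoped Pointwise
open MulAction

namespace CfsgLib.MElevenUnique

variable {G : Type*} [Group G] [Finite G] [IsSimpleGroup G] [Fact (Nat.Prime 3)]
  (hG : Nat.card G = 7920)
include hG

theorem card_sylow_three : Nat.card (Sylow 3 G) = 55 := by
  obtain ⟨P⟩ : Nonempty (Sylow 3 G) := inferInstance
  rcases normalizer_options hG P with ⟨h, -⟩ | ⟨h, -⟩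
  · exact h
  exfalso
  rcases card_Cs220 hG h P with e | e
  · exact false_nine hG h fun Q => (card_Cs_conj P Q).trans e
  · exact false_eighteen hG h fun Q => (card_Cs_conj P Q).trans e

end CfsgLib.MElevenUnique
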