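import Cfsg.Agent.MElevenUnique.Five

/-!
A simple group of order 7920: first facts about the Sylow 3-subgroups.
-/

set_option autoImplicit false

open scoped Pointwise
open MulAction

namespace CfsgLib.MElevenUnique

variable {G : Type*} [Group G]

/-- Conjugates fix equally many points. -/
theorem fixCard_conj {X : Type*} [MulAction G X] (g x : G) : fixCard X (g * x * g⁻¹) = fixCard X x := by
  refine (Nat.card_congr ((toPerm g).subtypeEquiv fun a => ?_)).symm
  show x • a = a ↔ (g * x * g⁻¹) • g • a = g • a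
  rw [smul_smul, show g * x * g⁻¹ * g = g * x by group, mul_smul, smul_left_cancel_iff]

theorem mem_smul_sylow {p : ℕ} (Q : Sylow p G) (g : G) {x : G} :
    g * x * g⁻¹ ∈ ((g • Q : Sylow p G) : Subgroup G) ↔ x ∈ (Q : Subgroup G) := by
  rw [Sylow.coe_subgroup_smul, ← MulAut.conj_apply, ← MulAut.smul_def]
  exact Subgroup.smul_mem_pointwise_smul_iff

theorem smul_sylow_le {p : ℕ} {Q : Sylow p G} {H : Subgroup G} {g : G} (hg : g ∈ H)
    (hQ : (Q : Subgroup G) ≤ H) : ((g • Q : Sylow p G) : Subgroup G) ≤ H := by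
  intro z hz
  have h := (mem_smul_sylow Q g (x := g⁻¹ * z * g)).1 (by simpa [mul_assoc] using hz)
  have := mul_mem (mul_mem hg (hQ h)) (inv_mem hg)
  simpa [mul_assoc] using this

variable [Finite G]

theorem mem_Ng_zpowers {u g : G} (h : g * u * g⁻¹ ∈ Subgroup.zpowers u) :
    g ∈ Ng (Subgroup.zpowers u) := by
  have hle : (Subgroup.zpowers u).map (MulAut.conj g).toMonoidHom ≤ Subgroup.zpowers u := by
    rw [MonoidHom.map_zpowers]
    exact Subgroup.zpowers_le.2 h
  have he := Subgroup.eq_of_le_of_card_ge hle (by rw [card_conj_smul])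
  rw [Subgroup.mem_normalizer_iff]
  intro z
  refine ⟨fun hz => he.le ⟨z, hz, rfl⟩, fun hz => ?_⟩
  obtain ⟨w, hw, e⟩ := he.ge hz
  exact (MulAut.conj g).injective e ▸ hw

theorem Ng_zpowers_Cg {u g c : G} (hg : g ∈ Ng (Subgroup.zpowers u)) (hc : c ∈ Cg u) :
    g * c * g⁻¹ ∈ Cg u := by
  have h1 := (Subgroup.mem_normalizer_iff''.1 hg u).1 (Subgroup.mem_zpowers u)
  obtain ⟨k, hk⟩ := h1
  have hk' : u ^ k = g⁻¹ * u * g := hk
  have h2 : Commute c (g⁻¹ * u * g) := hk' ▸ Commute.zpow_right (mem_Cg.1 hc) k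
  refine mem_Cg.2 ?_
  calc g * c * g⁻¹ * u = g * (c * (g⁻¹ * u * g)) * g⁻¹ := by group
    _ = g * ((g⁻¹ * u * g) * c) * g⁻¹ := by rw [h2.eq]
    _ = u * (g * c * g⁻¹) := by group

variable [IsSimpleGroup G] (hG : Nat.card G = 7920)
include hG

theorem coprime_dvd_144 {H : Subgroup G} (h5 : ¬ 5 ∣ Nat.card H) (h11 : ¬ 11 ∣ Nat.card H) :
    Nat.card H ∣ 144 := by
  refine Nat.Coprime.dvd_of_dvd_mul_left (m := 55) ?_ (show Nat.card H ∣ 55 * 144 from card_dvd hG H)
  have c5 := (Nat.prime_five.coprime_iff_not_dvd.2 h5).symm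
  have c11 := ((show Nat.Prime 11 by norm_num).coprime_iff_not_dvd.2 h11).symm
  exact Nat.Coprime.mul_right c5 c11

variable [Fact (Nat.Prime 3)]

theorem three_pow {P : Sylow 3 G} {u : G} (hu : u ∈ (P : Subgroup G)) : ∃ k, orderOf u = 3 ^ k := by
  obtain ⟨k, -, hk⟩ := (Nat.dvd_prime_pow Nat.prime_three).1
    (show orderOf u ∣ 3 ^ 2 from (Subgroup.orderOf_dvd_natCard _ hu).trans (dvd_of_eq (card_sylow3 hG P)))
  exact ⟨k, hk⟩

theorem exists_three {P : Sylow 3 G} {u : G} (hu : u ∈ (P : Subgroup G)) (hu1 : u ≠ 1) :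
    ∃ x : G, orderOf x = 3 ∧ x ∈ Subgroup.zpowers u ∧ Cg u ≤ Cg x := by
  obtain ⟨k, hk⟩ := three_pow hG hu
  have hk1 : k ≠ 0 := fun e => hu1 (orderOf_eq_one_iff.1 (by rw [hk, e, pow_zero]))
  refine ⟨u ^ 3 ^ (k - 1), ?_, Subgroup.npow_mem_zpowers u _, fun c hc => mem_Cg.2 ?_⟩
  · rw [orderOf_pow, hk, Nat.gcd_eq_right (pow_dvd_pow 3 (by omega)), Nat.pow_div (by omega) (by norm_num),
      show k - (k - 1) = 1 by omega, pow_one]
  · exact Commute.pow_right (mem_Cg.1 hc) _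

theorem exists_sylow3 {x : G} (hx : orderOf x = 3) : ∃ P : Sylow 3 G, x ∈ (P : Subgroup G) :=
  exists_sylow_of_orderOf hx

theorem fix3_iff {P Q : Sylow 3 G} {u : G} (hu : u ∈ (P : Subgroup G)) :
    u • Q = Q ↔ u ∈ (Q : Subgroup G) := by
  obtain ⟨k, hk⟩ := three_pow hG hu
  exact ⟨fun h => mem_sylow_of_normalizes hk (smul_sylow_eq_iff.1 h),
    fun h => smul_sylow_eq_iff.2 (Subgroup.le_normalizer h)⟩

theorem mem_iff_le_Cg {P Q : Sylow 3 G} {u : G} (hu : u ∈ (P : Subgroup G)) :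
    u ∈ (Q : Subgroup G) ↔ (Q : Subgroup G) ≤ Cg u :=
  ⟨fun h => sylow_le_Cg hG Q h, fun h =>
    (fix3_iff hG hu).1 (smul_sylow_eq_iff.2 (Cs_le_Ng _ (mem_Cs_of_le_Cg h)))⟩

theorem fix3_eq {P : Sylow 3 G} {u : G} (hu : u ∈ (P : Subgroup G)) :
    fixCard (Sylow 3 G) u = inCard 3 (Cg u) :=
  Nat.card_congr (Equiv.subtypeEquivRight fun Q =>
    ((fix3_iff hG hu).trans (mem_iff_le_Cg hG hu) : u • Q = Q ↔ _))

/-- Elements of order three are real. -/
theorem card_Ng_three {x : G} (hx : orderOf x = 3) :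
    Nat.card (Ng (Subgroup.zpowers x)) = 2 * Nat.card (Cg x) := by
  obtain ⟨P, hxP⟩ := exists_sylow3 hG hx
  have hX : Nat.card (Subgroup.zpowers x) = 3 := by rw [Nat.card_zpowers, hx]
  have hx1 : x ≠ 1 := fun e => by rw [e, orderOf_one] at hx; norm_num at hx
  obtain ⟨g, -, hg⟩ := exists_inverting hG P
  have hgN : g ∈ Ng (Subgroup.zpowers x) :=
    mem_Ng_zpowers (by rw [hg x hxP]; exact inv_mem (Subgroup.mem_zpowers x))
  have h1 := Small.card_centralizer_mul_relIndex (Subgroup.zpowers x)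
  change Nat.card (Cs (Subgroup.zpowers x)) * (Cs (Subgroup.zpowers x)).relIndex (Ng (Subgroup.zpowers x))
    = Nat.card (Ng (Subgroup.zpowers x)) at h1
  have hd : (Cs (Subgroup.zpowers x)).relIndex (Ng (Subgroup.zpowers x)) ∣ 2 :=
    Small.relIndex_centralizer_dvd_pred hX
  have hne : (Cs (Subgroup.zpowers x)).relIndex (Ng (Subgroup.zpowers x)) ≠ 1 := fun e => by
    have hgC := mem_Cs.1 (Subgroup.relIndex_eq_one.1 e hgN) x (Subgroup.mem_zpowers x)
    have h2 := hg x hxP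
    rw [← hgC, mul_inv_cancel_right] at h2
    have : x ^ 2 = 1 := by rw [pow_two]; nth_rewrite 1 [h2]; exact inv_mul_cancel x
    have := orderOf_dvd_of_pow_eq_one this
    rw [hx] at this
    norm_num at this
  rw [((Nat.dvd_prime Nat.prime_two).1 hd).resolve_left hne,
    show Cs (Subgroup.zpowers x) = Cg x from
      (Small.centralizer_singleton_eq_of_prime hX (Subgroup.mem_zpowers x) hx1).symm] at h1
  rw [mul_comm]
  exact h1.symm

theorem card_Cg_three_dvd {P : Sylow 3 G} {u : G} (hu : u ∈ (P : Subgroup G)) (hu1 : u ≠ 1) :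
    Nat.card (Cg u) ∣ 144 := by
  obtain ⟨x, hx, -, hle⟩ := exists_three hG hu hu1
  have hx1 : x ≠ 1 := fun e => by rw [e, orderOf_one] at hx; norm_num at hx
  exact (Subgroup.card_dvd_of_le hle).trans (coprime_dvd_144 hG (not_five_Cg_three hG hx)
    (not_eleven_Cg hG hx1 (by rw [hx]; norm_num)))

theorem card_Cg_three_lt {P : Sylow 3 G} {u : G} (hu : u ∈ (P : Subgroup G)) (hu1 : u ≠ 1) :
    Nat.card (Cg u) ≠ 144 := by
  intro h
  obtain ⟨x, hx, -, hle⟩ := exists_three hG hu hu1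
  obtain ⟨Q, hxQ⟩ := exists_sylow3 hG hx
  have hd := card_Cg_three_dvd hG hxQ (fun e => by rw [e, orderOf_one] at hx; norm_num at hx)
  have h' := Nat.dvd_antisymm hd (h ▸ Subgroup.card_dvd_of_le hle)
  have h2 := card_dvd hG (Ng (Subgroup.zpowers x))
  rw [card_Ng_three hG hx, h'] at h2
  norm_num at h2

theorem nine_dvd_Cg {P : Sylow 3 G} {u : G} (hu : u ∈ (P : Subgroup G)) :
    9 ∣ Nat.card ↥(Cg u ⊓ Ng (P : Subgroup G)) :=
  (dvd_of_eq (card_sylow3 hG P).symm).trans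
    (Subgroup.card_dvd_of_le (le_inf (sylow_le_Cg hG P hu) Subgroup.le_normalizer))

theorem inCard_Cg {P : Sylow 3 G} {u : G} (hu : u ∈ (P : Subgroup G)) (hu1 : u ≠ 1) :
    inCard 3 (Cg u) = 1 ∨ inCard 3 (Cg u) = 4 := by
  obtain ⟨h1, h2⟩ := inCard_spec P (sylow_le_Cg hG P hu)
  obtain ⟨d, hd⟩ := nine_dvd_Cg hG hu
  have h3 := card_Cg_three_dvd hG hu hu1
  have h4 := card_Cg_three_lt hG hu hu1
  rw [h2, hd] at h3 h4
  have h16 : inCard 3 (Cg u) * d ∣ 16 := by
    rw [show inCard 3 (Cg u) * (9 * d) = 9 * (inCard 3 (Cg u) * d) by ring,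
      show 144 = 9 * 16 by norm_num] at h3
    exact (Nat.mul_dvd_mul_iff_left (by norm_num)).1 h3
  have hn := Nat.le_of_dvd (by norm_num) ((dvd_mul_right _ d).trans h16)
  have hn' := (dvd_mul_right (inCard 3 (Cg u)) d).trans h16
  interval_cases hk : inCard 3 (Cg u) <;> first
    | omega
    | (exfalso; norm_num at hn'; done)
    | (exfalso; obtain rfl : d = 1 := by
         have := Nat.le_of_dvd (by norm_num) h16
         rcases Nat.eq_zero_or_pos d with e | e
         · subst e; norm_num at h16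
         · omega
       norm_num at h4)

theorem Cg_le_Ng {P : Sylow 3 G} {u : G} (hu : u ∈ (P : Subgroup G)) (h : inCard 3 (Cg u) = 1) :
    Cg u ≤ Ng (P : Subgroup G) := fun g hg =>
  smul_sylow_eq_iff.1 (eq_of_inCard_one h (smul_sylow_le hg (sylow_le_Cg hG P hu)) (sylow_le_Cg hG P hu))

theorem exists_other {P : Sylow 3 G} {u : G} (hb : inCard 3 (Cg u) = 4) :
    ∃ Q : Sylow 3 G, (Q : Subgroup G) ≤ Cg u ∧ Q ≠ P := by
  by_contra h
  push Not at h
  have : inCard 3 (Cg u) ≤ 1 := Finite.card_le_one_iff_subsingleton.2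
    ⟨fun a b => Subtype.ext ((h a.1 a.2).trans (h b.1 b.2).symm)⟩
  omega

theorem orderOf_bad {P : Sylow 3 G} {u : G} (hu : u ∈ (P : Subgroup G)) (hu1 : u ≠ 1)
    (hb : inCard 3 (Cg u) = 4) : orderOf u = 3 := by
  obtain ⟨k, hk⟩ := three_pow hG hu
  have h9 : orderOf u ∣ 3 ^ 2 := (Subgroup.orderOf_dvd_natCard _ hu).trans (dvd_of_eq (card_sylow3 hG P))
  rw [hk] at h9
  have hk2 := (Nat.pow_dvd_pow_iff_le_right (by norm_num : 1 < 3)).1 h9
  interval_cases k
  · exact absurd (orderOf_eq_one_iff.1 (hk.trans (pow_zero 3))) hu1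
  · exact hk
  · exfalso
    obtain ⟨Q, hQ, hne⟩ := exists_other hG (P := P) hb
    have huQ := (mem_iff_le_Cg hG hu).2 hQ
    have hz : ∀ R : Sylow 3 G, u ∈ (R : Subgroup G) → Subgroup.zpowers u = (R : Subgroup G) := fun R hR =>
      Subgroup.eq_of_le_of_card_ge (Subgroup.zpowers_le.2 hR) (by
        rw [card_sylow3 hG R, Nat.card_zpowers, hk]; norm_num)
    exact hne (Sylow.ext ((hz Q huQ).symm.trans (hz P hu)))

theorem inter_eq_zpowers {Q R : Sylow 3 G} (hne : Q ≠ R) {u : G} (hu : orderOf u = 3)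
    (huQ : u ∈ (Q : Subgroup G)) (huR : u ∈ (R : Subgroup G)) :
    (Q : Subgroup G) ⊓ (R : Subgroup G) = Subgroup.zpowers u := by
  refine (Subgroup.eq_of_le_of_card_ge (Subgroup.zpowers_le.2 (Subgroup.mem_inf.2 ⟨huQ, huR⟩)) ?_).symm
  rw [Nat.card_zpowers, hu]
  have hQ := card_sylow3 hG Q
  have h := Subgroup.card_dvd_of_le (inf_le_left : (Q : Subgroup G) ⊓ (R : Subgroup G) ≤ (Q : Subgroup G))
  rw [hQ] at h
  have hlt : Nat.card ↥((Q : Subgroup G) ⊓ (R : Subgroup G)) ≠ 9 := fun e => hne (Sylow.ext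
    ((Subgroup.eq_of_le_of_card_ge (inf_le_left (b := (R : Subgroup G))) (by rw [e, hQ])).symm.trans
      (Subgroup.eq_of_le_of_card_ge (inf_le_right (a := (Q : Subgroup G))) (by rw [e, card_sylow3 hG R]))))
  have := Nat.le_of_dvd (by norm_num) h
  interval_cases Nat.card ↥((Q : Subgroup G) ⊓ (R : Subgroup G)) <;> omega

theorem sylow_le_of_Ng {Q : Sylow 3 G} {u : G} (hu : orderOf u = 3)
    (hQ : (Q : Subgroup G) ≤ Ng (Subgroup.zpowers u)) : (Q : Subgroup G) ≤ Cg u := by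
  have hc := GraphSimple.le_centralizer_of_mod (p := 3) (H := (Q : Subgroup G)) (Q := Subgroup.zpowers u)
    Q.2 hQ (by
      rw [Nat.card_zpowers, hu]
      intro d hd hmod
      have := Nat.le_of_dvd (by norm_num) hd
      interval_cases d <;> omega)
  exact fun a ha => mem_Cg.2 (mem_Cs.1 (hc (Subgroup.mem_zpowers u)) a ha)

/-- A subgroup whose Sylow 3-subgroups are those of `C(u)`, `u` bad, normalises `⟨u⟩`. -/
theorem le_Ng_of_sylows {P : Sylow 3 G} {u : G} (hu : u ∈ (P : Subgroup G)) (hu1 : u ≠ 1)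
    (hb : inCard 3 (Cg u) = 4) {H : Subgroup G} (hH : inCard 3 H = 4)
    (hle : ∀ R : Sylow 3 G, (R : Subgroup G) ≤ Cg u → (R : Subgroup G) ≤ H) :
    H ≤ Ng (Subgroup.zpowers u) := by
  have hsur : ∀ R : Sylow 3 G, (R : Subgroup G) ≤ H → (R : Subgroup G) ≤ Cg u := by
    have hinj : Function.Injective
        (fun R : {R : Sylow 3 G // (R : Subgroup G) ≤ Cg u} =>
          (⟨R.1, hle R.1 R.2⟩ : {R : Sylow 3 G // (R : Subgroup G) ≤ H})) := fun a b e =>
      Subtype.ext (congrArg Subtype.val e :)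
    have hs := hinj.bijective_of_nat_card_le (le_of_eq (hH.trans hb.symm))
    intro R hR
    obtain ⟨⟨R', hR'⟩, e⟩ := hs.2 ⟨R, hR⟩
    have e' : R' = R := congrArg Subtype.val e
    exact e' ▸ hR'
  intro g hg
  obtain ⟨Q, hQ, hne⟩ := exists_other hG (P := P) hb
  have key : ∀ R : Sylow 3 G, (R : Subgroup G) ≤ Cg u → g * u * g⁻¹ ∈ (R : Subgroup G) := fun R hR => by
    have h1 := hsur (g⁻¹ • R) (smul_sylow_le (inv_mem hg) (hle R hR))
    have h2 := (mem_iff_le_Cg hG hu).2 h1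
    have h3 := (mem_smul_sylow (g⁻¹ • R) g).2 h2
    rwa [smul_inv_smul] at h3
  refine mem_Ng_zpowers ?_
  rw [← inter_eq_zpowers hG hne (orderOf_bad hG hu hu1 hb) ((mem_iff_le_Cg hG hu).2 hQ) hu]
  exact Subgroup.mem_inf.2 ⟨key Q hQ, key P (sylow_le_Cg hG P hu)⟩

/-- The Sylow subgroups in `C(u)` other than `P` form one orbit of `P`. -/
theorem bad_orbit {P Q R : Sylow 3 G} {u : G} (hu : u ∈ (P : Subgroup G)) (hu1 : u ≠ 1)
    (hb : inCard 3 (Cg u) = 4) (hQ : (Q : Subgroup G) ≤ Cg u) (hQP : Q ≠ P)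
    (hR : (R : Subgroup G) ≤ Cg u) (hRP : R ≠ P) : ∃ e ∈ (P : Subgroup G), e • Q = R := by
  classical
  have h3 := orderOf_bad hG hu hu1 hb
  have hstab : stabilizer (P : Subgroup G) Q = (Subgroup.zpowers u).subgroupOf (P : Subgroup G) := by
    ext e
    rw [mem_stabilizer_iff, Subgroup.mem_subgroupOf,
      ← inter_eq_zpowers hG hQP h3 ((mem_iff_le_Cg hG hu).2 hQ) hu, Subgroup.mem_inf]
    exact ⟨fun h => ⟨(fix3_iff hG e.2).1 h, e.2⟩, fun h => (fix3_iff hG e.2).2 h.1⟩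
  have ho := Subgroup.index_mul_card (stabilizer (P : Subgroup G) Q)
  rw [index_stabilizer, card_sylow3 hG P, hstab,
    Nat.card_congr (Subgroup.subgroupOfEquivOfLe (Subgroup.zpowers_le.2 hu)).toEquiv, Nat.card_zpowers, h3] at ho
  let X : Set (Sylow 3 G) := {T | (T : Subgroup G) ≤ Cg u ∧ T ≠ P}
  have hX : X.ncard = 3 := by
    have e : X = {T : Sylow 3 G | (T : Subgroup G) ≤ Cg u} \ {P} := by
      ext T; simp [X]
    rw [e, Set.ncard_sdiff (Set.singleton_subset_iff.2 (show P ∈ {T : Sylow 3 G | (T : Subgroup G) ≤ Cg u} from sylow_le_Cg hG P hu)), Set.ncard_singleton]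
    have : ({T : Sylow 3 G | (T : Subgroup G) ≤ Cg u}).ncard = 4 := by
      rw [← hb, ← Nat.card_coe_set_eq]
      rfl
    omega
  have hsub : orbit (P : Subgroup G) Q ⊆ X := by
    rintro T ⟨e, rfl⟩
    refine ⟨smul_sylow_le (sylow_le_Cg hG P hu e.2) hQ, fun h => hQP ?_⟩
    have hP : (e : G) • P = P := smul_sylow_eq_iff.2 (Subgroup.le_normalizer e.2)
    exact MulAction.injective (e : G) ((h : (e : G) • Q = P).trans hP.symm)
  have heq := Set.eq_of_subset_of_ncard_le hsub (by omega) (Set.toFinite _)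
  obtain ⟨e, he⟩ : R ∈ orbit (P : Subgroup G) Q := heq ▸ ⟨hR, hRP⟩
  exact ⟨e, e.2, he⟩

omit hG [Finite G] [IsSimpleGroup G] [Fact (Nat.Prime 3)] in
theorem eq_self_of_pow_nine {v : G} (h : v ^ 9 = 1) : v = (v * v) ^ 5 := by
  rw [← pow_two, ← pow_mul, show 2 * 5 = 9 + 1 by norm_num, pow_succ, h, one_mul]

theorem pow_nine {P : Sylow 3 G} {v : G} (hv : v ∈ (P : Subgroup G)) : v ^ 9 = 1 :=
  orderOf_dvd_iff_pow_eq_one.1 ((Subgroup.orderOf_dvd_natCard _ hv).trans (dvd_of_eq (card_sylow3 hG P)))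

/-- An involution centralising `P` fixes all Sylow subgroups of `C(u)`. -/
theorem fix_all {P R : Sylow 3 G} {u k : G} (hu : u ∈ (P : Subgroup G)) (hu1 : u ≠ 1)
    (hb : inCard 3 (Cg u) = 4) (hk : k ∈ Cs (P : Subgroup G)) (hk2 : k * k = 1)
    (hR : (R : Subgroup G) ≤ Cg u) : k • R = R := by
  by_cases hRP : R = P
  · rw [hRP]; exact smul_sylow_eq_iff.2 (Cs_le_Ng _ hk)
  have hku : k ∈ Cg u := mem_Cg.2 (mem_Cs.1 hk u hu).symm
  have hkR : k • R ≠ P := fun e => hRP (MulAction.injective k (e.trans (smul_sylow_eq_iff.2 (Cs_le_Ng _ hk)).symm))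
  obtain ⟨v, hv, hvR⟩ := bad_orbit hG hu hu1 hb hR hRP (smul_sylow_le hku hR) hkR
  have hvk := mem_Cs.1 hk v hv
  have h2 : (v * v) • R = R := by
    have : k • k • R = R := by rw [smul_smul, hk2, one_smul]
    rwa [← hvR, smul_smul, ← hvk, mul_smul, ← hvR, smul_smul] at this
  have hv5 : (v * v) ^ 5 • R = R := pow_smul_eq h2 5
  rw [← eq_self_of_pow_nine (pow_nine hG hv)] at hv5
  rw [← hvR, hv5]

/-- An involution of `C(u)` fixing all Sylow subgroups of `C(u)` centralises them. -/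
theorem centralizes_of_fix_all {P R : Sylow 3 G} {u k : G} (hu : u ∈ (P : Subgroup G)) (hu1 : u ≠ 1)
    (hb : inCard 3 (Cg u) = 4) (hku : k ∈ Cg u) (hk2 : k * k = 1)
    (hall : ∀ T : Sylow 3 G, (T : Subgroup G) ≤ Cg u → k • T = T) (hR : (R : Subgroup G) ≤ Cg u) :
    (R : Subgroup G) ≤ Cg k := by
  intro x hx
  have hkinv : k⁻¹ = k := inv_eq_of_mul_eq_one_right hk2
  set c := k * x * k⁻¹ * x⁻¹ with hc
  have hcR : c ∈ (R : Subgroup G) :=
    mul_mem ((Subgroup.mem_normalizer_iff.1 (smul_sylow_eq_iff.1 (hall R hR)) x).1 hx) (inv_mem hx)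
  have hcfix : ∀ T : Sylow 3 G, (T : Subgroup G) ≤ Cg u → c • T = T := by
    intro T hT
    have hxT := smul_sylow_le (inv_mem (hR hx)) hT
    rw [hc, mul_smul, mul_smul, mul_smul, hkinv, hall _ hxT, smul_inv_smul, hall T hT]
  obtain ⟨T, hT, hne⟩ := exists_other hG (P := R) hb
  have hcT := (fix3_iff hG hcR).1 (hcfix T hT)
  have hcu : c ∈ Subgroup.zpowers u := by
    rw [← inter_eq_zpowers hG hne (orderOf_bad hG hu hu1 hb) ((mem_iff_le_Cg hG hu).2 hT)
      ((mem_iff_le_Cg hG hu).2 hR)]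
    exact ⟨hcT, hcR⟩
  obtain ⟨j, hj⟩ := hcu
  have hkc : Commute k c := by
    rw [← (hj : u ^ j = c)]
    exact Commute.zpow_right (mem_Cg.1 hku) j
  have e1 : k * x * k⁻¹ = c * x := by rw [hc]; group
  have e2 : x = c * c * x := by
    calc x = k * (k * x * k⁻¹) * k⁻¹ := by rw [hkinv, ← mul_assoc, ← mul_assoc, hk2, one_mul, mul_assoc, hk2, mul_one]
      _ = k * (c * x) * k⁻¹ := by rw [e1]
      _ = c * (k * x * k⁻¹) := by rw [← mul_assoc k c x, hkc.eq]; group
      _ = c * c * x := (congrArg (c * ·) e1).trans (mul_assoc c c x).symm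
  have hcc : c * c = 1 := mul_right_cancel (b := x) (e2.symm.trans (one_mul x).symm)
  have hc1 : c = 1 := by rw [eq_self_of_pow_nine (pow_nine hG hcR), hcc, one_pow]
  rw [hc1, one_mul] at e1
  exact mem_Cg.2 (mul_inv_eq_iff_eq_mul.1 e1).symm

/-- Counting the fixed points of all elements of `P`. -/
theorem nine_dvd_count (P : Sylow 3 G) :
    9 ∣ Nat.card (Sylow 3 G) + 8 +
      3 * Nat.card {u : (P : Subgroup G) // u ≠ 1 ∧ inCard 3 (Cg (u : G)) = 4} := by
  classical
  haveI := Fintype.ofFinite (P : Subgroup G)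
  have h := card_dvd_sum_fix (X := Sylow 3 G) (P : Subgroup G)
  rw [card_sylow3 hG P, ← Finset.add_sum_erase _ _ (Finset.mem_univ (1 : (P : Subgroup G)))] at h
  have h1 : fixCard (Sylow 3 G) ((1 : (P : Subgroup G)) : G) = Nat.card (Sylow 3 G) := by
    simp only [fixCard, OneMemClass.coe_one, fixedBy_one_eq_univ]
    exact Nat.card_congr (Equiv.Set.univ _)
  have h2 : ∀ u ∈ (Finset.univ : Finset (P : Subgroup G)).erase 1, fixCard (Sylow 3 G) (u : G)
      = 1 + 3 * if inCard 3 (Cg (u : G)) = 4 then 1 else 0 := by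
    intro u hu
    have hu1 : (u : G) ≠ 1 := fun e => Finset.ne_of_mem_erase hu (Subtype.ext e)
    rw [fix3_eq hG u.2]
    rcases inCard_Cg hG u.2 hu1 with e | e <;> simp [e]
  rw [h1, Finset.sum_congr rfl h2, Finset.sum_add_distrib, ← Finset.mul_sum, ← Finset.card_eq_sum_ones,
    Finset.sum_boole, Nat.cast_id, Finset.card_erase_of_mem (Finset.mem_univ _), Finset.card_univ,
    ← Nat.card_eq_fintype_card, card_sylow3 hG P] at h
  have hc : Nat.card {u : (P : Subgroup G) // u ≠ 1 ∧ inCard 3 (Cg (u : G)) = 4}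
      = (((Finset.univ : Finset (P : Subgroup G)).erase 1).filter fun (u : (P : Subgroup G)) => inCard 3 (Cg (u : G)) = 4).card := by
    rw [Nat.card_eq_fintype_card, Fintype.card_subtype]
    congr 1
    ext u
    simp
  rw [hc]
  omega

theorem normalizer_options (P : Sylow 3 G) :
    Nat.card (Sylow 3 G) = 55 ∧ Nat.card (Ng (P : Subgroup G)) = 144 ∨
      Nat.card (Sylow 3 G) = 220 ∧ Nat.card (Ng (P : Subgroup G)) = 36 := by
  have hn : Nat.card (Sylow 3 G) * Nat.card (Ng (P : Subgroup G)) = 7920 :=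
    (Small.card_sylow_mul_card_normalizer P).trans hG
  have hP := card_sylow3 hG P
  have hnocop : ∀ q, q = 5 ∨ q = 11 → ¬ q ∣ Nat.card (Ng (P : Subgroup G)) := by
    intro q hq h
    haveI : Fact q.Prime := ⟨by rcases hq with rfl | rfl <;> norm_num⟩
    obtain ⟨⟨y, hyN⟩, hy⟩ := exists_prime_orderOf_dvd_card' (G := Ng (P : Subgroup G)) q h
    rw [← Subgroup.orderOf_coe] at hy
    simp only at hy
    have hc := GraphSimple.le_centralizer_of_mod (p := q) (H := Subgroup.zpowers y) (Q := (P : Subgroup G))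
      (IsPGroup.of_card (n := 1) (by rw [Nat.card_zpowers, hy, pow_one]))
      (Subgroup.zpowers_le.2 hyN) (by
        rw [hP]
        intro d hd hmod
        have := Nat.le_of_dvd (by norm_num) hd
        rcases hq with rfl | rfl <;> interval_cases d <;> omega)
    obtain ⟨⟨x, hxP⟩, hx⟩ := exists_prime_orderOf_dvd_card' (G := (P : Subgroup G)) 3 (by rw [hP]; norm_num)
    rw [← Subgroup.orderOf_coe] at hx
    simp only at hx
    have hxy : y ∈ Cg x := mem_Cg.2 (mem_Cs.1 (hc hxP) y (Subgroup.mem_zpowers y))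
    have hd : q ∣ Nat.card (Cg x) := hy ▸ Subgroup.orderOf_dvd_natCard _ hxy
    rcases hq with rfl | rfl
    · exact not_five_Cg_three hG hx hd
    · exact not_eleven_Cg hG (fun e => by rw [e, orderOf_one] at hx; norm_num at hx) (by rw [hx]; norm_num) hd
  have hdvd := coprime_dvd_144 hG (hnocop 5 (Or.inl rfl)) (hnocop 11 (Or.inr rfl))
  have h9 : 9 ∣ Nat.card (Ng (P : Subgroup G)) :=
    (dvd_of_eq hP.symm).trans (Subgroup.card_dvd_of_le Subgroup.le_normalizer)
  obtain ⟨d, hd⟩ := h9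
  rw [hd] at hdvd hn
  have hd16 : d ∣ 16 := (Nat.mul_dvd_mul_iff_left (by norm_num : 0 < 9)).1 hdvd
  have hdm : d ∈ Nat.divisors 16 := Nat.mem_divisors.2 ⟨hd16, by norm_num⟩
  rw [show Nat.divisors 16 = {1, 2, 4, 8, 16} by decide] at hdm
  simp only [Finset.mem_insert, Finset.mem_singleton] at hdm
  have hmod := Small.card_sylow_mod 3 (G := G)
  rcases hdm with rfl | rfl | rfl | rfl | rfl
  · exfalso
    refine Small.not_normalizer_le_centralizer (nc hG) (p := 3) (by rw [hG]; norm_num) P ?_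
    have he := Subgroup.eq_of_le_of_card_ge (Subgroup.le_normalizer (H := (P : Subgroup G)))
      (by rw [hP]; exact le_of_eq (hd.trans (by norm_num)))
    exact fun a ha => sylow_le_Cs hG P (he.symm.le ha)
  · omega
  · exact Or.inr ⟨by omega, hd.trans (by norm_num)⟩
  · omega
  · exact Or.inl ⟨by omega, hd.trans (by norm_num)⟩

/-- An inverting element normalising `P` bounds the fixed points of actions free outside one point. -/
theorem fix_le_seven {X : Type*} [MulAction G X] [Finite X] (hX : Nat.card X = 55) (P : Sylow 3 G) {a : X}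
    (hfree : ∀ e ∈ (P : Subgroup G), e ≠ 1 → ∀ x : X, e • x = x → x = a) {g : G}
    (hg : ∀ e ∈ (P : Subgroup G), g * e * g⁻¹ = e⁻¹) (hga : g • a = a)
    (hea : ∀ e ∈ (P : Subgroup G), e • a = a) :
    fixCard X g ≤ 7 := by
  classical
  have hinj : Function.Injective fun p : {x : X // g • x = x ∧ x ≠ a} × (P : Subgroup G) =>
      (⟨(p.2 : G) • p.1.1, fun h => p.1.2.2 (MulAction.injective (p.2 : G) (h.trans (hea _ p.2.2).symm))⟩ :
        {x : X // x ≠ a}) := by
    rintro ⟨⟨x, hx, hxa⟩, e⟩ ⟨⟨x', hx', hxa'⟩, e'⟩ h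
    have h' : (e : G) • x = (e' : G) • x' := congrArg Subtype.val h
    set d := (e' : G)⁻¹ * e with hd
    have hdP : d ∈ (P : Subgroup G) := mul_mem (inv_mem e'.2) e.2
    have hdx : d • x = x' := by rw [hd, mul_smul, h', inv_smul_smul]
    have h2 : (d * d) • x = x := by
      have hgd : g * d = d⁻¹ * g := by rw [← hg d hdP]; group
      have h3 : d⁻¹ • x = d • x := by
        calc d⁻¹ • x = d⁻¹ • g • x := by rw [hx]
          _ = g • d • x := by rw [smul_smul, ← hgd, mul_smul]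
          _ = d • x := by rw [hdx, hx']
      rw [mul_smul, ← h3, smul_inv_smul]
    by_cases hd1 : d = 1
    · rw [hd1, one_smul] at hdx
      obtain rfl : e' = e := Subtype.ext (inv_mul_eq_one.1 (hd ▸ hd1))
      subst hdx
      rfl
    · exact absurd (hfree _ (mul_mem hdP hdP)
        (fun e => hd1 (by rw [eq_self_of_pow_nine (pow_nine hG hdP), e, one_pow])) x h2) hxa
  have hc := Nat.card_le_card_of_injective _ hinj
  haveI := Fintype.ofFinite X
  rw [Nat.card_prod, card_sylow3 hG P] at hc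
  have hXa : Nat.card {x : X // x ≠ a} = 54 := by
    rw [Nat.card_eq_fintype_card, Fintype.card_subtype_compl, Fintype.card_subtype_eq, ← Nat.card_eq_fintype_card, hX]
  rw [hXa] at hc
  have hF : fixCard X g ≤ Nat.card {x : X // g • x = x ∧ x ≠ a} + 1 := by
    rw [← Finite.card_option]
    refine Nat.card_le_card_of_injective
      (fun x : fixedBy X g => if h : x.1 = a then none else some ⟨x.1, x.2, h⟩) ?_
    intro x y e
    apply Subtype.ext
    by_cases hx : x.1 = a <;> by_cases hy : y.1 = a <;> simp_all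
  omega

/-- A commuting subgroup of order nine free outside a fixed point. -/
theorem fix_mod_nine {X : Type*} [MulAction G X] [Finite X] (P : Sylow 3 G) {a : X} {t : G}
    (ht : (P : Subgroup G) ≤ Cg t) (hfree : ∀ e ∈ (P : Subgroup G), e ≠ 1 → ∀ x : X, e • x = x → x = a)
    (hea : ∀ e ∈ (P : Subgroup G), e • a = a) (hta : t • a = a) : fixCard X t % 9 = 1 := by
  let A : SubMulAction (Cg t) X :=
    { carrier := fixedBy X t
      smul_mem' := fun c q hq => by
        show t • (c : G) • q = (c : G) • q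
        rw [smul_smul, (mem_Cg.1 c.2).symm, ← smul_smul]
        exact congrArg _ hq }
  have h := card_dvd_add_mul (X := A) ((P : Subgroup G).subgroupOf (Cg t)) 1 (fun e he he1 => by
    rw [fixCard, Nat.card_eq_one_iff_unique]
    have key : ∀ c : fixedBy A e, (c.1 : X) = a := fun c =>
      hfree e.1 he (fun h => he1 (Subtype.ext h)) _ (congrArg Subtype.val c.2)
    exact ⟨⟨fun c d => Subtype.ext (Subtype.ext ((key c).trans (key d).symm))⟩,
      ⟨⟨⟨a, hta⟩, Subtype.ext (hea e.1 he)⟩⟩⟩)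
  rw [Nat.card_congr (Subgroup.subgroupOfEquivOfLe ht).toEquiv, card_sylow3 hG P] at h
  have e : Nat.card A = fixCard X t := rfl
  omega

theorem exists_fixed_ne {X : Type*} [MulAction G X] [Finite X] (a : X) {t : G} (h : 1 < fixCard X t) :
    ∃ x : X, t • x = x ∧ x ≠ a := by
  by_contra hcon
  push Not at hcon
  have : fixCard X t ≤ 1 := Finite.card_le_one_iff_subsingleton.2
    ⟨fun x y => Subtype.ext ((hcon x.1 x.2).trans (hcon y.1 y.2).symm)⟩
  omega

end CfsgLib.MElevenUnique
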