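import Cfsg.Agent.MElevenUnique.ThreeBasic

/-!
A simple group of order 7920 with 55 Sylow 3-subgroups: they are self-centralising and free.
-/

set_option autoImplicit false

open scoped Pointwise
open MulAction

namespace CfsgLib.MElevenUnique

variable {G : Type*} [Group G] [Finite G] [IsSimpleGroup G] [Fact (Nat.Prime 3)]
  (hG : Nat.card G = 7920) (h55 : Nat.card (Sylow 3 G) = 55)
include hG h55

theorem card_Ng55 (P : Sylow 3 G) : Nat.card (Ng (P : Subgroup G)) = 144 := by
  rcases normalizer_options hG P with ⟨-, h⟩ | ⟨h, -⟩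
  · exact h
  · omega

theorem Cs55 (P : Sylow 3 G) : Cs (P : Subgroup G) = (P : Subgroup G) := by
  by_contra hne
  haveI := Fact.mk Nat.prime_two
  set N := Ng (P : Subgroup G) with hNdef
  have hN : Nat.card N = 144 := card_Ng55 hG h55 P
  have hP := card_sylow3 hG P
  have hC9 : Nat.card (Cs (P : Subgroup G)) ≠ 9 := fun h => hne
    (Subgroup.eq_of_le_of_card_ge (sylow_le_Cs hG P) (by rw [hP, h])).symm
  obtain ⟨S, hSN, hS⟩ := Small.exists_two_subgroup_le (H := N) (k := 4) (by rw [hN]; norm_num)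
  have h1 : Nat.card (Cs (P : Subgroup G)) * (Cs (P : Subgroup G)).relIndex N = 144 :=
    (Small.card_centralizer_mul_relIndex (P : Subgroup G)).trans hN
  have h9 : 9 ≤ Nat.card (Cs (P : Subgroup G)) := hP ▸ Subgroup.card_le_of_le (sylow_le_Cs hG P)
  obtain ⟨t0, ht0, ht0S, ht0C⟩ := Small.exists_ne_one_mem_centralizer (P := (P : Subgroup G)) hSN (by
    rw [hS]
    show (Cs (P : Subgroup G)).relIndex N < 2 ^ 4
    have : 10 ≤ Nat.card (Cs (P : Subgroup G)) := by omega
    have := Nat.mul_le_mul_right ((Cs (P : Subgroup G)).relIndex N) this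
    omega)
  set K := S ⊓ Cs (P : Subgroup G)
  have hSp : IsPGroup 2 S := IsPGroup.of_card hS
  have hKn : S ≤ Ng K := by
    intro s hs
    have hconj : ∀ z ∈ Cs (P : Subgroup G), ∀ g ∈ N, g * z * g⁻¹ ∈ Cs (P : Subgroup G) := by
      intro z hz g hg
      refine mem_Cs.2 fun b hb => ?_
      have hb' : g⁻¹ * b * g ∈ (P : Subgroup G) := (Subgroup.mem_normalizer_iff''.1 hg b).1 hb
      calc b * (g * z * g⁻¹) = g * ((g⁻¹ * b * g) * z) * g⁻¹ := by group
        _ = g * (z * (g⁻¹ * b * g)) * g⁻¹ := by rw [mem_Cs.1 hz _ hb']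
        _ = g * z * g⁻¹ * b := by group
    rw [Subgroup.mem_normalizer_iff]
    intro z
    constructor
    · rintro ⟨h1, h2⟩
      exact ⟨S.mul_mem (S.mul_mem hs h1) (S.inv_mem hs), hconj z h2 s (hSN hs)⟩
    · rintro ⟨h1, h2⟩
      have h3 : s⁻¹ * (s * z * s⁻¹) * s ∈ S := mul_mem (mul_mem (inv_mem hs) h1) hs
      have h4 := hconj _ h2 s⁻¹ (inv_mem (hSN hs))
      simp only [mul_assoc, inv_mul_cancel_left, inv_inv, inv_mul_cancel, mul_one] at h3 h4
      exact ⟨h3, h4⟩
  have hK2 : 2 ∣ Nat.card K := by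
    obtain ⟨n, hn, he⟩ := (hSp.to_le (inf_le_left : K ≤ S)).nontrivial_iff_card.1
      ⟨⟨⟨t0, ht0S, ht0C⟩, 1, fun e => ht0 (congrArg Subtype.val e)⟩⟩
    rw [he]; exact dvd_pow_self 2 hn.ne'
  have hKS := GraphSimple.card_inf_centralizer_modEq hSp hKn
  obtain ⟨⟨z, hz'⟩, hz⟩ := exists_prime_orderOf_dvd_card' (G := ↥(K ⊓ Cs S)) 2
    (Nat.dvd_of_mod_eq_zero (hKS.symm.trans (Nat.mod_eq_zero_of_dvd hK2)))
  rw [← Subgroup.orderOf_coe] at hz
  simp only at hz
  have hzP : (P : Subgroup G) ≤ Cg z := le_Cg_of_mem_Cs hz'.1.2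
  have hzS : S ≤ Cg z := le_Cg_of_mem_Cs hz'.2
  have hdvd : ∀ H : Subgroup G, (P : Subgroup G) ≤ H → S ≤ H → 144 ∣ Nat.card H := fun H h1 h2 =>
    Nat.Coprime.mul_dvd_of_dvd_of_dvd (show Nat.Coprime 9 16 by norm_num)
      ((dvd_of_eq hP.symm).trans (Subgroup.card_dvd_of_le h1))
      ((dvd_of_eq (show 16 = Nat.card S by rw [hS]; norm_num)).trans (Subgroup.card_dvd_of_le h2))
  have hzN : N ≤ Cg z := by
    have h := hdvd (Cg z ⊓ N) (le_inf hzP Subgroup.le_normalizer) (le_inf hzS hSN)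
    exact (Subgroup.eq_of_le_of_card_ge inf_le_right
      (by rw [hN]; exact Nat.le_of_dvd Nat.card_pos h)).symm.le.trans inf_le_left
  have hz1 : z ≠ 1 := fun e => by rw [e, orderOf_one] at hz; norm_num at hz
  have hCz : Cg z = N := by
    have h144 := hdvd (Cg z) hzP hzS
    have hle := card_le hG (Cg_ne_top hG hz1)
    have hd := card_dvd hG (Cg z)
    have h5 := no_five hG hz (dvd_trans (by norm_num) h144)
    obtain ⟨k, hk⟩ := h144
    rw [hk] at hle hd h5
    refine (Subgroup.eq_of_le_of_card_ge hzN ?_).symm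
    rw [hk, hN]
    have : k ≤ 5 := by omega
    interval_cases k <;> first | omega | (exfalso; norm_num at hd; done) | (exfalso; norm_num at h5; done)
  -- no bad elements
  have hzz : z * z = 1 := by rw [← pow_two, ← hz, pow_orderOf_eq_one]
  have hfree : ∀ e ∈ (P : Subgroup G), e ≠ 1 → ∀ R : Sylow 3 G, e • R = R → R = P := by
    intro e he he1 R hR
    rcases inCard_Cg hG he he1 with h | h
    · exact eq_of_inCard_one h ((mem_iff_le_Cg hG he).1 ((fix3_iff hG he).1 hR)) (sylow_le_Cg hG P he)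
    · exfalso
      obtain ⟨Q, hQ, hQne⟩ := exists_other hG (P := P) h
      have hze : z ∈ Cg e := mem_Cg.2 (mem_Cg.1 (hzP he)).symm
      have hQz := centralizes_of_fix_all hG he he1 h hze hzz
        (fun T hT => fix_all hG he he1 h hz'.1.2 hzz hT) hQ
      rw [hCz] at hQz
      refine hQne ?_
      exact Sylow.ext (Subgroup.eq_of_le_of_card_ge (fun a ha => by
        obtain ⟨j, hj⟩ := three_pow hG ha
        exact mem_sylow_of_normalizes hj (hQz ha)) (by rw [hP, card_sylow3 hG Q]))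
  have hea : ∀ e ∈ (P : Subgroup G), e • P = P := fun e he => smul_sylow_eq_iff.2 (Subgroup.le_normalizer he)
  have hzfix : z • P = P := smul_sylow_eq_iff.2 (Cs_le_Ng _ hz'.1.2)
  have h9' := fix_mod_nine hG P (X := Sylow 3 G) hzP hfree hea hzfix
  haveI : Nontrivial (Sylow 3 G) := Finite.one_lt_card_iff_nontrivial.1 (by omega)
  have h4 := four_dvd_moved (X := Sylow 3 G) (nc hG) hz
  have hle := fixCard_le (X := Sylow 3 G) z
  have hlt : fixCard (Sylow 3 G) z < 55 := by
    by_contra hge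
    exact hz1 (eq_one_of_fixCard (X := Sylow 3 G) (by omega))
  rw [h55] at h4
  have h19 : fixCard (Sylow 3 G) z = 19 := by omega
  obtain ⟨Q, hzQ, hQP⟩ := exists_fixed_ne hG P (t := z) (X := Sylow 3 G) (by omega)
  obtain ⟨g, rfl⟩ := exists_smul_eq G P Q
  set z' := g * z * g⁻¹ with hz'def
  have hgz : g⁻¹ * z * g ∈ Cg z := by
    rw [hCz]
    refine smul_sylow_eq_iff.1 ?_
    rw [mul_smul, mul_smul, hzQ, inv_smul_smul]
  have hzz' : z' ∈ Cg z := by
    have h := (mem_Cg_conj (g := g) (x := z)).2 hgz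
    rw [show g * (g⁻¹ * z * g) * g⁻¹ = z by group] at h
    exact mem_Cg_comm.1 h
  have hz'N : z' ∈ N := hCz ▸ hzz'
  have hz'2 : z' * z' = 1 := by rw [hz'def, conj_mul, hzz, mul_one, mul_inv_cancel]
  have hfp : ∀ e ∈ (P : Subgroup G), z' * e = e * z' → e = 1 := by
    intro e he hc
    by_contra he1
    refine hQP (hfree e he he1 _ (smul_sylow_eq_iff.2 ?_))
    have h1 : g⁻¹ * e * g ∈ Cg z := by
      rw [← mem_Cg_conj (g := g), ← hz'def, show g * (g⁻¹ * e * g) * g⁻¹ = e by group]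
      exact mem_Cg.2 hc.symm
    rw [hCz] at h1
    rw [← smul_sylow_eq_iff, mul_smul, mul_smul, inv_smul_eq_iff] at h1
    exact smul_sylow_eq_iff.1 h1
  have hinv : ∀ e ∈ (P : Subgroup G), z' * e * z'⁻¹ = e⁻¹ := fun e he => by
    rw [inv_eq_of_mul_eq_one_right hz'2]
    exact GraphSimple.inverts_of_fpf hz'2 hz'N hfp he
  have h7 := fix_le_seven hG h55 P hfree hinv (smul_sylow_eq_iff.2 hz'N) hea
  rw [hz'def, fixCard_conj, h19] at h7
  norm_num at h7

theorem local55 (P : Sylow 3 G) :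
    (∀ u ∈ (P : Subgroup G), u ≠ 1 → orderOf u = 3 ∧ Nat.card (Cg u) = 18 ∧ Cg u ≤ Ng (P : Subgroup G)) ∧
      ∀ u ∈ (P : Subgroup G), ∀ v ∈ (P : Subgroup G), u ≠ 1 → v ≠ 1 →
        ∃ g ∈ Ng (P : Subgroup G), g * u * g⁻¹ = v := by
  classical
  have hC := Cs55 hG h55 P
  have hP := card_sylow3 hG P
  have hN := card_Ng55 hG h55 P
  haveI := three_comm hG P
  letI : CommGroup (P : Subgroup G) := { (inferInstance : Group (P : Subgroup G)) with mul_comm := mul_comm' }
  set φ := (P : Subgroup G).normalizerMonoidHom with hφ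
  have hW : Nat.card φ.range = 16 := by
    have h1 := Subgroup.card_eq_card_quotient_mul_card_subgroup φ.ker
    rw [Nat.card_congr (QuotientGroup.quotientKerEquivRange φ).toEquiv, hφ, Subgroup.normalizerMonoidHom_ker,
      Nat.card_congr (Subgroup.subgroupOfEquivOfLe (Cs_le_Ng (P : Subgroup G))).toEquiv] at h1
    change Nat.card (Ng (P : Subgroup G)) = _ * Nat.card (Cs (P : Subgroup G)) at h1
    rw [hN, hC, hP] at h1
    rw [hφ]; omega
  have horb : ∀ u : (P : Subgroup G), u ≠ 1 → orbit φ.range u = {v | v ≠ 1} ∧ (stabilizer φ.range u).index = 8 := by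
    intro u hu
    have hst : Nat.card (stabilizer φ.range u) ≤ 2 :=
      card_stab_aut_le_two hP (by rw [hW]; norm_num) hu
    have hmul := Subgroup.index_mul_card (stabilizer φ.range u)
    rw [hW] at hmul
    have hsub : orbit φ.range u ⊆ {v | v ≠ 1} := by
      rintro v ⟨w, rfl⟩ hv
      exact hu ((w : MulAut (P : Subgroup G)).map_eq_one_iff.1 hv)
    have hc8 : ({v : (P : Subgroup G) | v ≠ 1}).ncard = 8 := by
      rw [show {v : (P : Subgroup G) | v ≠ 1} = {1}ᶜ from rfl, Set.ncard_compl, Set.ncard_singleton, hP]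
    have hle := Set.ncard_le_ncard hsub (Set.toFinite _)
    rw [← index_stabilizer, hc8] at hle
    have h8 : (stabilizer φ.range u).index = 8 := by
      by_contra hne
      have := Nat.mul_le_mul (show (stabilizer φ.range u).index ≤ 7 by omega) hst
      omega
    refine ⟨Set.eq_of_subset_of_ncard_le hsub ?_ (Set.toFinite _), h8⟩
    rw [← index_stabilizer, h8, hc8]
  have htrans : ∀ u ∈ (P : Subgroup G), ∀ v ∈ (P : Subgroup G), u ≠ 1 → v ≠ 1 →
      ∃ g ∈ Ng (P : Subgroup G), g * u * g⁻¹ = v := by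
    intro u hu v hv hu1 hv1
    obtain ⟨⟨w, g, rfl⟩, hw⟩ : (⟨v, hv⟩ : (P : Subgroup G)) ∈ orbit φ.range (⟨u, hu⟩ : (P : Subgroup G)) := by
      rw [(horb _ fun e => hu1 (congrArg Subtype.val e)).1]
      exact fun e => hv1 (congrArg Subtype.val e)
    exact ⟨g, g.2, congrArg Subtype.val hw⟩
  refine ⟨fun u hu hu1 => ?_, htrans⟩
  have h3 : orderOf u = 3 := by
    obtain ⟨x, hx, hxu, -⟩ := exists_three hG hu hu1
    have hxP : x ∈ (P : Subgroup G) := (Subgroup.zpowers_le.2 hu) hxu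
    obtain ⟨g, -, hg⟩ := htrans x hxP u hu (fun e => by rw [e, orderOf_one] at hx; norm_num at hx) hu1
    rw [← hg, ← hx]
    exact orderOf_injective (MulAut.conj g).toMonoidHom (MulAut.conj g).injective x
  have hgood : inCard 3 (Cg u) = 1 := by
    rcases inCard_Cg hG hu hu1 with h | h
    · exact h
    exfalso
    have hall : ∀ v : (P : Subgroup G), v ≠ 1 → inCard 3 (Cg (v : G)) = 4 := by
      intro v hv
      have hv1 : (v : G) ≠ 1 := fun e => hv (Subtype.ext e)
      obtain ⟨g, -, hg⟩ := htrans u hu v v.2 hu1 hv1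
      rw [← fix3_eq hG v.2, ← hg, fixCard_conj, fix3_eq hG hu, h]
    have hc : Nat.card {v : (P : Subgroup G) // v ≠ 1 ∧ inCard 3 (Cg (v : G)) = 4} = 8 := by
      rw [Nat.card_congr (Equiv.subtypeEquivRight (q := fun v : (P : Subgroup G) => v ≠ 1)
        fun v => ⟨fun h => h.1, fun h => ⟨h, hall v h⟩⟩)]
      haveI := Fintype.ofFinite (P : Subgroup G)
      rw [Nat.card_eq_fintype_card, Fintype.card_subtype_compl, Fintype.card_subtype_eq,
        ← Nat.card_eq_fintype_card, hP]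
    have := nine_dvd_count hG P
    rw [h55, hc] at this
    norm_num at this
  have hle := Cg_le_Ng hG hu hgood
  refine ⟨h3, ?_, hle⟩
  have hcomap : (Cg u).subgroupOf (Ng (P : Subgroup G))
      = (stabilizer φ.range (⟨u, hu⟩ : (P : Subgroup G))).comap φ.rangeRestrict := by
    ext n
    rw [Subgroup.mem_subgroupOf, mem_Cg, Subgroup.mem_comap, mem_stabilizer_iff]
    constructor
    · intro h
      exact Subtype.ext (show (n : G) * u * (n : G)⁻¹ = u by rw [h, mul_inv_cancel_right])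
    · intro h
      exact mul_inv_eq_iff_eq_mul.1 (congrArg Subtype.val h : (n : G) * u * (n : G)⁻¹ = u)
  have hidx := ((Cg u).subgroupOf (Ng (P : Subgroup G))).index_mul_card
  rw [Nat.card_congr (Subgroup.subgroupOfEquivOfLe hle).toEquiv, hcomap,
    Subgroup.index_comap_of_surjective _ φ.rangeRestrict_surjective,
    (horb _ fun e => hu1 (congrArg Subtype.val e)).2, hN] at hidx
  omega

end CfsgLib.MElevenUnique
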