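import Cfsg.Agent.MElevenUnique.Frame

/-!
A simple group of order 7920: the seven points fixed by an involution form a triangle and a four-orbit.
-/

set_option autoImplicit false

open scoped Pointwise
open MulAction

namespace CfsgLib.MElevenUnique

variable {G : Type*} [Group G]

/-- The orbit of `P` under the centraliser of `t`. -/
structure Triangle (F : Frame G) where
  b : Sylow 3 G
  c : Sylow 3 G
  tb : F.t • b = b
  tc : F.t • c = c
  bP : b ≠ F.P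
  cP : c ≠ F.P
  bc : b ≠ c
  orb : ∃ g ∈ Cg F.t, g • F.P = b
  orb_le : ∀ g ∈ Cg F.t, g • F.P = F.P ∨ g • F.P = b ∨ g • F.P = c
  swap : ∃ τ ∈ F.T, τ • b = c ∧ τ • c = b
  image : ∀ τ ∈ F.T, τ • b = b ∨ τ • b = c
  four : ∀ f f' : Sylow 3 G, F.t • f = f → F.t • f' = f' → f ≠ F.P → f' ≠ F.P → f ≠ b → f' ≠ b → f ≠ c →
    f' ≠ c → ∃ τ ∈ F.T, τ • f = f'
  free : ∀ u ∈ (F.P : Subgroup G), u ≠ 1 → ∀ τ ∈ F.T, τ • b = b → τ ∈ Cg u → τ = 1

variable [Finite G] [IsSimpleGroup G] [Fact (Nat.Prime 3)] (hG : Nat.card G = 7920) (F : Frame G)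
include hG

theorem orbit_options {x : Sylow 3 G} (hx : F.t • x = x) :
    (orbit (Cg F.t) x).ncard = 3 ∧ (∀ e ∈ (x : Subgroup G), F.t * e * F.t⁻¹ = e⁻¹) ∨
      (orbit (Cg F.t) x).ncard = 4 ∧ ∃ u ∈ (x : Subgroup G), u ≠ 1 ∧ F.t ∈ Cg u := by
  have hN := smul_sylow_eq_iff.1 hx
  have h48 := (invol_data hG (frame_invol hG F) F.mem).1
  have hst : Nat.card (stabilizer (Cg F.t) x) = Nat.card ↥(Cg F.t ⊓ Ng (x : Subgroup G)) := by
    have : stabilizer (Cg F.t) x = (Cg F.t ⊓ Ng (x : Subgroup G)).subgroupOf (Cg F.t) := by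
      ext g
      rw [mem_stabilizer_iff, Subgroup.mem_subgroupOf, Subgroup.mem_inf]
      exact ⟨fun h => ⟨g.2, smul_sylow_eq_iff.1 h⟩, fun h => smul_sylow_eq_iff.2 h.2⟩
    rw [this]
    exact Nat.card_congr (Subgroup.subgroupOfEquivOfLe inf_le_left).toEquiv
  have hm := Subgroup.index_mul_card (stabilizer (Cg F.t) x)
  rw [index_stabilizer, hst, h48] at hm
  rcases invol_cases hG (frame_invol hG F) hN with h | ⟨u, hu, hu1, htu⟩
  · rw [card_Cg_inverter hG hN h] at hm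
    exact Or.inl ⟨by omega, h⟩
  · rw [(reflection_data hG (frame_invol hG F) hu hu1 htu).2.1] at hm
    exact Or.inr ⟨by omega, u, hu, hu1, htu⟩

theorem exists_triangle : Nonempty (Triangle F) := by
  classical
  have htP : F.t • F.P = F.P := smul_sylow_eq_iff.2 F.mem
  set O := orbit (Cg F.t) F.P with hO
  have hO3 : O.ncard = 3 := by
    rcases orbit_options hG F htP with ⟨h, -⟩ | ⟨-, u, hu, hu1, htu⟩
    · exact h
    · exact absurd (eq_one_of_inv_commute hG F hu (mem_Cg_comm.1 htu)) hu1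
  set X : Set (Sylow 3 G) := fixedBy (Sylow 3 G) F.t with hX
  have hX7 : X.ncard = 7 := by rw [← Nat.card_coe_set_eq]; exact frame_fix hG F
  have hinv : ∀ x ∈ X, ∀ g ∈ Cg F.t, g • x ∈ X := fun x hx g hg => by
    show F.t • g • x = g • x
    rw [smul_smul, ← mem_Cg.1 hg, mul_smul, hx]
  have hsub : ∀ x ∈ X, orbit (Cg F.t) x ⊆ X := by
    rintro x hx _ ⟨g, rfl⟩
    exact hinv x hx g g.2
  set Y := X \ O with hY
  have hY4 : Y.ncard = 4 := by
    rw [hY, Set.ncard_sdiff (hsub _ htP) (Set.toFinite _), hX7, hO3]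
  have horbY : ∀ y ∈ Y, orbit (Cg F.t) y ⊆ Y := by
    intro y hy z hz
    refine ⟨hsub y hy.1 hz, fun hzO => hy.2 ?_⟩
    rw [hO, ← orbit_eq_iff.2 hzO, orbit_eq_iff.2 hz]
    exact mem_orbit_self y
  have hY' : ∀ y ∈ Y, orbit (Cg F.t) y = Y ∧ ∃ u ∈ (y : Subgroup G), u ≠ 1 ∧ F.t ∈ Cg u := by
    intro y hy
    rcases orbit_options hG F hy.1 with ⟨h, -⟩ | ⟨h, hu⟩
    · exfalso
      have hd : (Y \ orbit (Cg F.t) y).ncard = 1 := by
        rw [Set.ncard_sdiff (horbY y hy) (Set.toFinite _), hY4, h]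
      obtain ⟨z, hz⟩ := Set.ncard_eq_one.1 hd
      have hzY : z ∈ Y \ orbit (Cg F.t) y := hz ▸ rfl
      have hle : orbit (Cg F.t) z ⊆ {z} := by
        rw [← hz]
        intro w hw
        refine ⟨horbY z hzY.1 hw, fun hwy => hzY.2 ?_⟩
        rw [← orbit_eq_iff.2 hwy, orbit_eq_iff.2 hw]
        exact mem_orbit_self z
      have hle' := Set.ncard_le_ncard hle (Set.toFinite _)
      rw [Set.ncard_singleton] at hle'
      rcases orbit_options hG F hzY.1.1 with ⟨h', -⟩ | ⟨h', -⟩ <;> omega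
    · exact ⟨Set.eq_of_subset_of_ncard_le (horbY y hy) (by rw [hY4, h]) (Set.toFinite _), hu⟩
  -- the action of T
  have hTO : ∀ τ ∈ F.T, ∀ x ∈ O, τ • x ∈ O := by
    rintro τ hτ _ ⟨g, rfl⟩
    exact ⟨⟨τ * g, mul_mem hτ.1 g.2⟩, mul_smul τ (g : G) F.P⟩
  have hTY : ∀ τ ∈ F.T, ∀ y ∈ Y, τ • y ∈ Y := fun τ hτ y hy =>
    ⟨hinv y hy.1 τ hτ.1, fun h => hy.2 (by
      have := hTO τ⁻¹ (inv_mem hτ) _ h
      rwa [inv_smul_smul] at this)⟩
  have hstab : ∀ y ∈ Y, Nat.card (stabilizer F.T y) = 4 ∧ orbit F.T y = Y ∧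
      ∀ τ : F.T, τ ∈ stabilizer F.T y → (τ : G) * τ = 1 := by
    intro y hy
    obtain ⟨-, u, hu, hu1, htu⟩ := hY' y hy
    have hd : Nat.card (stabilizer F.T y) ∣ 12 := by
      rw [← (reflection_data hG (frame_invol hG F) hu hu1 htu).2.1, ← Subgroup.card_subtype]
      refine Subgroup.card_dvd_of_le ?_
      rintro _ ⟨τ, hτ, rfl⟩
      exact ⟨τ.2.1, smul_sylow_eq_iff.1 hτ⟩
    have hsub : orbit F.T y ⊆ Y := by
      rintro _ ⟨τ, rfl⟩
      exact hTY τ τ.2 y hy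
    have hle := Set.ncard_le_ncard hsub (Set.toFinite _)
    have hm := Subgroup.index_mul_card (stabilizer F.T y)
    rw [index_stabilizer, card_frame_T hG F] at hm
    have h16 : Nat.card (stabilizer F.T y) ∣ 16 := Dvd.intro_left _ hm
    have h4d : Nat.card (stabilizer F.T y) ∣ 4 := Nat.dvd_gcd h16 hd
    have hle4 := Nat.le_of_dvd (by norm_num) h4d
    rw [hY4] at hle
    have hge := Nat.mul_le_mul hle hle4
    have he : Nat.card (stabilizer F.T y) = 4 := by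
      have := Nat.mul_le_mul_right (Nat.card (stabilizer F.T y)) hle
      omega
    refine ⟨he, Set.eq_of_subset_of_ncard_le hsub ?_ (Set.toFinite _), fun τ hτ => ?_⟩
    · rw [he] at hm
      omega
    · exact sq_eq_one_of_commute hG (frame_invol hG F) hu hu1 htu (smul_sylow_eq_iff.1 hτ) τ.2.1
        ((Subgroup.orderOf_dvd_natCard _ τ.2).trans (dvd_of_eq (card_frame_T hG F)))
  obtain ⟨y0, hy0⟩ : Y.Nonempty := (Set.ncard_pos (Set.toFinite _)).1 (by omega)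
  -- every reflection fixes one of the four
  have hrefl : ∀ u ∈ (F.P : Subgroup G), u ≠ 1 → ∀ r ∈ F.T, orderOf r = 2 → r ∈ Cg u →
      ∃ y ∈ Y, r • y = y := by
    intro u hu hu1 r hr hro hru
    obtain ⟨h4, -, hsq⟩ := hstab y0 hy0
    obtain ⟨r', hr', hr'1, hr't⟩ : ∃ r' : F.T, r' ∈ stabilizer F.T y0 ∧ (r' : G) ≠ 1 ∧ (r' : G) ≠ F.t := by
      by_contra hcon
      push Not at hcon
      have hle : Nat.card (stabilizer F.T y0) ≤ Nat.card Bool := by
        refine Nat.card_le_card_of_injective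
          (fun τ : stabilizer F.T y0 => decide (((τ : F.T) : G) = 1)) fun a b e => ?_
        simp only [decide_eq_decide] at e
        refine Subtype.ext (Subtype.ext ?_)
        by_cases ha : ((a : F.T) : G) = 1
        · rw [ha, e.1 ha]
        · rw [hcon a.1 a.2 ha, hcon b.1 b.2 (fun hb => ha (e.2 hb))]
      rw [h4, Nat.card_eq_fintype_card, Fintype.card_bool] at hle
      omega
    have hr'o : orderOf (r' : G) = 2 := orderOf_eq_prime (by rw [pow_two]; exact hsq r' hr') hr'1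
    rcases invol_cases hG hr'o r'.2.2 with h | ⟨v, hv, hv1, hr'v⟩
    · exact absurd (eq_t_of_inverts hG F r'.2 h) hr't
    obtain ⟨τ, hτ, hτv⟩ := frame_transitive hG F hv hu hv1 hu1
    obtain ⟨r0, -, -, -, huniq⟩ := exists_frame_reflection hG F hu hu1
    have hc : τ * (r' : G) * τ⁻¹ ∈ F.T := mul_mem (mul_mem hτ r'.2) (inv_mem hτ)
    have hcu : τ * (r' : G) * τ⁻¹ ∈ Cg u := hτv ▸ mem_Cg_conj.2 hr'v
    have e1 : τ * (r' : G) * τ⁻¹ = r0 :=
      (huniq _ hc hcu).resolve_left fun e => hr'1 (conj_eq_one_iff.1 e)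
    have e2 : r = r0 := (huniq _ hr hru).resolve_left (invol_ne hro)
    refine ⟨τ • y0, hTY τ hτ y0 hy0, ?_⟩
    have hr'y : (r' : G) • y0 = y0 := hr'
    rw [e2, ← e1, smul_smul, inv_mul_cancel_right, mul_smul, hr'y]
  obtain ⟨b, hbO, hbP⟩ : ∃ b ∈ O, b ≠ F.P := by
    by_contra h
    push Not at h
    have : O.ncard ≤ 1 := (Set.ncard_le_one_iff (Set.toFinite _)).2 fun ha hb => (h _ ha).trans (h _ hb).symm
    omega
  obtain ⟨c, hc⟩ := Set.ncard_eq_one.1 (show ((O \ {F.P}) \ {b}).ncard = 1 by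
    rw [Set.ncard_sdiff_singleton_of_mem (show b ∈ O \ {F.P} from ⟨hbO, hbP⟩),
      Set.ncard_sdiff_singleton_of_mem (show F.P ∈ O from mem_orbit_self F.P), hO3])
  have hcm : c ∈ (O \ {F.P}) \ {b} := hc ▸ rfl
  have hOe : ∀ x ∈ O, x = F.P ∨ x = b ∨ x = c := fun x hx => by
    by_cases h1 : x = F.P
    · exact Or.inl h1
    by_cases h2 : x = b
    · exact Or.inr (Or.inl h2)
    exact Or.inr (Or.inr (hc.le ⟨⟨hx, h1⟩, h2⟩))
  have hTP : ∀ τ ∈ F.T, τ • F.P = F.P := fun τ hτ => smul_sylow_eq_iff.2 hτ.2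
  have himg : ∀ x ∈ O, x ≠ F.P → ∀ τ ∈ F.T, τ • x = b ∨ τ • x = c := fun x hx hxP τ hτ =>
    (hOe _ (hTO τ hτ x hx)).resolve_left fun e => hxP (MulAction.injective τ (e.trans (hTP τ hτ).symm))
  have htb : F.t • b = b := hsub _ htP hbO
  have htc : F.t • c = c := hsub _ htP hcm.1.1
  have hcP : c ≠ F.P := hcm.1.2
  have hbc : b ≠ c := fun e => hcm.2 e.symm
  have hrb : ∀ u ∈ (F.P : Subgroup G), u ≠ 1 → ∀ r ∈ F.T, orderOf r = 2 → r ∈ Cg u → r • b = c := by
    intro u hu hu1 r hr hro hru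
    refine (himg b hbO hbP r hr).resolve_left fun hb => ?_
    have hcfix : r • c = c := (himg c hcm.1.1 hcP r hr).resolve_left fun e =>
      hbc (MulAction.injective r (hb.trans e.symm))
    obtain ⟨y, hy, hry⟩ := hrefl u hu hu1 r hr hro hru
    have hyP : y ≠ F.P := fun e => hy.2 (e ▸ mem_orbit_self F.P)
    let f : Fin 3 → {f : Sylow 3 G // F.t • f = f ∧ f ≠ F.P ∧ r • f = f} :=
      ![⟨b, htb, hbP, hb⟩, ⟨c, htc, hcP, hcfix⟩, ⟨y, hy.1, hyP, hry⟩]
    have hyb : y ≠ b := fun e => hy.2 (e ▸ hbO)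
    have hyc : y ≠ c := fun e => hy.2 (e ▸ hcm.1.1)
    have hf : Function.Injective f := by
      intro i j e
      have e' := congrArg Subtype.val e
      fin_cases i <;> fin_cases j <;> simp [f] at e' ⊢ <;>
        first | exact hbc e' | exact hbc e'.symm | exact hyb e' | exact hyb e'.symm | exact hyc e' | exact hyc e'.symm
    have := Nat.card_le_card_of_injective f hf
    rw [card_fix_reflection hG F hr hro hu hu1 hru] at this
    simp at this
  obtain ⟨u, hu, hu1⟩ := exists_ne_one_sylow hG F.P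
  obtain ⟨r, hr, hro, hru, -⟩ := exists_frame_reflection hG F hu hu1
  have hswap : r • b = c := hrb u hu hu1 r hr hro hru
  obtain ⟨gb, hgb⟩ := hbO
  refine ⟨⟨b, c, htb, htc, hbP, hcP, hbc, ⟨gb, gb.2, hgb⟩, fun g hg => hOe _ ⟨⟨g, hg⟩, rfl⟩,
    ⟨r, hr, hswap, ?_⟩, fun τ hτ => himg b ⟨gb, hgb⟩ hbP τ hτ, ?_, ?_⟩⟩
  · rw [← hswap, smul_smul, invol_sq hro, one_smul]
  · intro f f' hf hf' hfP hf'P hfb hf'b hfc hf'c
    have hfY : f ∈ Y := ⟨hf, fun h => by rcases hOe _ h with e | e | e <;> contradiction⟩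
    have hf'Y : f' ∈ Y := ⟨hf', fun h => by rcases hOe _ h with e | e | e <;> contradiction⟩
    obtain ⟨τ, hτ⟩ : f' ∈ orbit F.T f := (hstab f hfY).2.1.symm ▸ hf'Y
    exact ⟨τ, τ.2, hτ⟩
  · intro u hu hu1 τ hτ hτb hτu
    obtain ⟨r, hr, hro, hru, huniq⟩ := exists_frame_reflection hG F hu hu1
    rcases huniq τ hτ hτu with e | e
    · exact e
    · exact absurd (hτb.symm.trans (e ▸ hrb u hu hu1 r hr hro hru)) hbc

end CfsgLib.MElevenUnique
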