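import Cfsg.Agent.MElevenUnique.FourPoints

/-!
A simple group of order 7920: 220 Sylow 3-subgroups with centraliser of order 18 are impossible.
-/

set_option autoImplicit false

open scoped Pointwise
open MulAction

namespace CfsgLib.MElevenUnique

variable {G : Type*} [Group G] [Finite G] [IsSimpleGroup G] [Fact (Nat.Prime 3)]
  (hG : Nat.card G = 7920) (h220 : Nat.card (Sylow 3 G) = 220)
include hG h220

theorem card_Ng220 (P : Sylow 3 G) : Nat.card (Ng (P : Subgroup G)) = 36 := by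
  rcases normalizer_options hG P with ⟨h, -⟩ | ⟨-, h⟩
  · omega
  · exact h

theorem card_Cs220 (P : Sylow 3 G) :
    Nat.card (Cs (P : Subgroup G)) = 9 ∨ Nat.card (Cs (P : Subgroup G)) = 18 := by
  have h1 := Small.card_centralizer_mul_relIndex (P : Subgroup G)
  change Nat.card (Cs (P : Subgroup G)) * (Cs (P : Subgroup G)).relIndex (Ng (P : Subgroup G))
    = Nat.card (Ng (P : Subgroup G)) at h1
  rw [card_Ng220 hG h220 P] at h1
  obtain ⟨d, hd⟩ : 9 ∣ Nat.card (Cs (P : Subgroup G)) :=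
    (dvd_of_eq (card_sylow3 hG P).symm).trans (Subgroup.card_dvd_of_le (sylow_le_Cs hG P))
  have hne : (Cs (P : Subgroup G)).relIndex (Ng (P : Subgroup G)) ≠ 1 := fun e =>
    Small.not_normalizer_le_centralizer (nc hG) (p := 3) (by rw [hG]; norm_num) P
      (Subgroup.relIndex_eq_one.1 e)
  rw [hd, show 36 = 9 * 4 by norm_num, mul_assoc] at h1
  have h4 := Nat.eq_of_mul_eq_mul_left (by norm_num : 0 < 9) h1
  have : d ∣ 4 := Dvd.intro _ h4
  have := Nat.le_of_dvd (by norm_num) this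
  rw [hd]
  interval_cases d <;> omega

theorem exists_bad (P : Sylow 3 G) :
    ∃ u ∈ (P : Subgroup G), u ≠ 1 ∧ inCard 3 (Cg u) = 4 := by
  by_contra h
  push Not at h
  have hz : Nat.card {u : (P : Subgroup G) // u ≠ 1 ∧ inCard 3 (Cg (u : G)) = 4} = 0 := by
    rw [Nat.card_eq_zero]
    exact Or.inl ⟨fun u => h u.1 u.1.2 (fun e => u.2.1 (Subtype.ext e)) u.2.2⟩
  have := nine_dvd_count hG P
  rw [hz, h220] at this
  norm_num at this

theorem bad_card {P : Sylow 3 G} {u : G} (hu : u ∈ (P : Subgroup G)) (hu1 : u ≠ 1)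
    (hb : inCard 3 (Cg u) = 4) :
    (Nat.card ↥(Cg u ⊓ Ng (P : Subgroup G)) = 9 ∨ Nat.card ↥(Cg u ⊓ Ng (P : Subgroup G)) = 18) ∧
      Nat.card (Cg u) = 4 * Nat.card ↥(Cg u ⊓ Ng (P : Subgroup G)) := by
  obtain ⟨-, h2⟩ := inCard_spec P (sylow_le_Cg hG P hu)
  rw [hb] at h2
  refine ⟨?_, h2⟩
  obtain ⟨d, hd⟩ := nine_dvd_Cg hG hu
  have h3 := card_Cg_three_dvd hG hu hu1
  have h4 := card_Cg_three_lt hG hu hu1
  rw [h2, hd, show 4 * (9 * d) = 36 * d by ring] at h3 h4
  rw [show 144 = 36 * 4 by norm_num] at h3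
  have hd4 := (Nat.mul_dvd_mul_iff_left (by norm_num : 0 < 36)).1 h3
  have := Nat.le_of_dvd (by norm_num) hd4
  rw [hd]
  interval_cases d <;> omega

theorem Ng_le_Ng_bad {P : Sylow 3 G} {u : G} (hu : u ∈ (P : Subgroup G)) (hu1 : u ≠ 1)
    (hb : inCard 3 (Cg u) = 4) (h18 : Nat.card ↥(Cg u ⊓ Ng (P : Subgroup G)) = 18) :
    Ng (P : Subgroup G) ≤ Ng (Subgroup.zpowers u) ∧ Nat.card (Cg u) = 72 ∧
      Nat.card (Ng (Subgroup.zpowers u)) = 144 := by
  have h3 := orderOf_bad hG hu hu1 hb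
  have h72 : Nat.card (Cg u) = 72 := by rw [(bad_card hG h220 hu hu1 hb).2, h18]
  refine ⟨?_, h72, by rw [card_Ng_three hG h3, h72]⟩
  have hCL : Cg u ≤ Ng (Subgroup.zpowers u) := fun c hc =>
    mem_Ng_zpowers (by rw [mem_Cg.1 hc, mul_inv_cancel_right]; exact Subgroup.mem_zpowers u)
  set H := Ng (Subgroup.zpowers u) ⊓ Ng (P : Subgroup G) with hH
  have hle : Cg u ⊓ Ng (P : Subgroup G) ≤ H := inf_le_inf_right _ hCL
  have hd : Nat.card H ∣ 36 := card_Ng220 hG h220 P ▸ Subgroup.card_dvd_of_le inf_le_right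
  have h18' : 18 ∣ Nat.card H := h18 ▸ Subgroup.card_dvd_of_le hle
  have hne : Nat.card H ≠ 18 := fun e => by
    obtain ⟨g, hgN, hg⟩ := exists_inverting hG P
    have hgH : g ∈ H := ⟨mem_Ng_zpowers (by rw [hg u hu]; exact inv_mem (Subgroup.mem_zpowers u)), hgN⟩
    rw [← Subgroup.eq_of_le_of_card_ge hle (by rw [e, h18])] at hgH
    have h := hg u hu
    rw [mem_Cg.1 hgH.1, mul_inv_cancel_right] at h
    have h2 : u ^ 2 = 1 := by rw [pow_two]; nth_rewrite 1 [h]; exact inv_mul_cancel u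
    have := orderOf_dvd_of_pow_eq_one h2
    rw [h3] at this
    norm_num at this
  have h36 : Nat.card H = 36 := by
    have hpos : 0 < Nat.card H := Nat.card_pos
    obtain ⟨k, hk⟩ := h18'
    have := Nat.le_of_dvd (by norm_num) hd
    rw [hk] at this hpos hne ⊢
    omega
  exact (Subgroup.eq_of_le_of_card_ge (inf_le_right : H ≤ _)
    (by rw [card_Ng220 hG h220 P, h36])).symm.le.trans inf_le_left

omit hG h220 [IsSimpleGroup G] in
theorem card_Cs_conj (P Q : Sylow 3 G) :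
    Nat.card (Cs (Q : Subgroup G)) = Nat.card (Cs (P : Subgroup G)) := by
  obtain ⟨g, rfl⟩ := exists_smul_eq G P Q
  refine Nat.card_congr (((MulAut.conj g).toEquiv.subtypeEquiv fun c => ?_).symm)
  show c ∈ Cs (P : Subgroup G) ↔ g * c * g⁻¹ ∈ Cs ((g • P : Sylow 3 G) : Subgroup G)
  rw [mem_Cs, mem_Cs]
  constructor
  · intro h b hb
    have hb' := (mem_smul_sylow P g (x := g⁻¹ * b * g)).1 (by simpa [mul_assoc] using hb)
    calc b * (g * c * g⁻¹) = g * (g⁻¹ * b * g * c) * g⁻¹ := by group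
      _ = g * (c * (g⁻¹ * b * g)) * g⁻¹ := by rw [h _ hb']
      _ = g * c * g⁻¹ * b := by group
  · intro h b hb
    have h' := h _ ((mem_smul_sylow P g).2 hb)
    rw [show g * b * g⁻¹ * (g * c * g⁻¹) = g * (b * c) * g⁻¹ by group,
      show g * c * g⁻¹ * (g * b * g⁻¹) = g * (c * b) * g⁻¹ by group] at h'
    exact mul_left_cancel (mul_right_cancel h')

section Eighteen

variable (hC : ∀ Q : Sylow 3 G, Nat.card (Cs (Q : Subgroup G)) = 18)
include hC

theorem exists_invol (P : Sylow 3 G) : ∃ z ∈ Cs (P : Subgroup G), orderOf z = 2 ∧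
    Ng (P : Subgroup G) ≤ Cg z ∧
      ∀ z' ∈ Cs (P : Subgroup G), orderOf z' = 2 → z' = z := by
  haveI := Fact.mk Nat.prime_two
  set C := Cs (P : Subgroup G) with hCdef
  have hC18 : Nat.card C = 18 := hC P
  obtain ⟨⟨z, hzC⟩, hz⟩ := exists_prime_orderOf_dvd_card' (G := C) 2 (by rw [hC18]; norm_num)
  rw [← Subgroup.orderOf_coe] at hz
  simp only at hz
  have hidx : ((P : Subgroup G).subgroupOf C).index = 2 := by
    have h := ((P : Subgroup G).subgroupOf C).index_mul_card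
    rw [Nat.card_congr (Subgroup.subgroupOfEquivOfLe (sylow_le_Cs hG P)).toEquiv, card_sylow3 hG P, hC18] at h
    omega
  have hnP : ∀ w : G, orderOf w = 2 → w ∉ (P : Subgroup G) := fun w hw hwP => by
    obtain ⟨k, hk⟩ := three_pow hG hwP
    rw [hw] at hk
    rcases k with _ | k
    · norm_num at hk
    · have : 3 ∣ 2 := ⟨3 ^ k, by rw [hk, pow_succ']⟩
      norm_num at this
  have huniq : ∀ z' ∈ C, orderOf z' = 2 → z' = z := by
    intro z' hz' ho
    have hw : z * z' ∈ (P : Subgroup G) := by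
      have := (Subgroup.mul_mem_iff_of_index_two hidx (a := ⟨z, hzC⟩) (b := ⟨z', hz'⟩)).2
        (iff_of_false (hnP z hz) (hnP z' ho))
      exact this
    have hzz : z * z = 1 := by rw [← pow_two, ← hz, pow_orderOf_eq_one]
    have hzz' : z' * z' = 1 := by rw [← pow_two, ← ho, pow_orderOf_eq_one]
    have h1 := mem_Cs.1 hzC _ hw
    rw [← mul_assoc z z z', hzz, one_mul] at h1
    have h2 : (z * z') * (z * z') = 1 := by
      rw [← mul_assoc, h1, hzz']
    have h3 : z * z' = 1 := by rw [eq_self_of_pow_nine (pow_nine hG hw), h2, one_pow]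
    exact (eq_inv_of_mul_eq_one_right h3).trans (inv_eq_of_mul_eq_one_right hzz)
  refine ⟨z, hzC, hz, fun g hg => ?_, huniq⟩
  have hgz : g * z * g⁻¹ ∈ C := by
    refine mem_Cs.2 fun b hb => ?_
    have hb' : g⁻¹ * b * g ∈ (P : Subgroup G) := (Subgroup.mem_normalizer_iff''.1 hg b).1 hb
    calc b * (g * z * g⁻¹) = g * ((g⁻¹ * b * g) * z) * g⁻¹ := by group
      _ = g * (z * (g⁻¹ * b * g)) * g⁻¹ := by rw [mem_Cs.1 hzC _ hb']
      _ = g * z * g⁻¹ * b := by group
  have ho : orderOf (g * z * g⁻¹) = 2 := by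
    rw [← hz]; exact orderOf_injective (MulAut.conj g).toMonoidHom (MulAut.conj g).injective z
  exact mem_Cg.2 (mul_inv_eq_iff_eq_mul.1 (huniq _ hgz ho))

theorem bad_inf {P : Sylow 3 G} {u : G} (hu : u ∈ (P : Subgroup G)) (hu1 : u ≠ 1)
    (hb : inCard 3 (Cg u) = 4) :
    Nat.card ↥(Cg u ⊓ Ng (P : Subgroup G)) = 18 := by
  have h1 : Cs (P : Subgroup G) ≤ Cg u ⊓ Ng (P : Subgroup G) :=
    le_inf (fun c hc => mem_Cg.2 (mem_Cs.1 hc u hu).symm) (Cs_le_Ng _)
  have := Subgroup.card_le_of_le h1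
  rw [hC P] at this
  rcases (bad_card hG h220 hu hu1 hb).1 with h | h <;> omega

theorem invol_centralizes {P R : Sylow 3 G} {u z : G} (hu : u ∈ (P : Subgroup G)) (hu1 : u ≠ 1)
    (hb : inCard 3 (Cg u) = 4) (hz : z ∈ Cs (P : Subgroup G)) (hz2 : z * z = 1)
    (hR : (R : Subgroup G) ≤ Cg u) : (R : Subgroup G) ≤ Cg z :=
  centralizes_of_fix_all hG hu hu1 hb (mem_Cg.2 (mem_Cs.1 hz u hu).symm) hz2
    (fun _ hT => fix_all hG hu hu1 hb hz hz2 hT) hR

theorem false_eighteen : False := by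
  classical
  obtain ⟨P⟩ : Nonempty (Sylow 3 G) := inferInstance
  obtain ⟨u, hu, hu1, hb⟩ := exists_bad hG h220 P
  obtain ⟨z, hzC, hz, hNz, -⟩ := exists_invol hG h220 hC P
  have hzz : z * z = 1 := by rw [← pow_two, ← hz, pow_orderOf_eq_one]
  have hz1 : z ≠ 1 := fun e => by rw [e, orderOf_one] at hz; norm_num at hz
  have h18 := bad_inf hG h220 hC hu hu1 hb
  obtain ⟨-, h72, hL144⟩ := Ng_le_Ng_bad hG h220 hu hu1 hb h18
  have h3 := orderOf_bad hG hu hu1 hb
  set L := Cg z with hLdef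
  have hP := card_sylow3 hG P
  have hPL : (P : Subgroup G) ≤ L := le_Cg_of_mem_Cs hzC
  have hRL : ∀ R : Sylow 3 G, (R : Subgroup G) ≤ Cg u → (R : Subgroup G) ≤ L := fun R hR =>
    invol_centralizes hG h220 hC hu hu1 hb hzC hzz hR
  obtain ⟨hm1, hm2⟩ := inCard_spec P hPL
  rw [show L ⊓ Ng (P : Subgroup G) = Ng (P : Subgroup G) from inf_eq_right.2 hNz,
    card_Ng220 hG h220 P] at hm2
  have h4n : 4 ≤ inCard 3 L := hb ▸ Nat.card_le_card_of_injective
    (fun R : {R : Sylow 3 G // (R : Subgroup G) ≤ Cg u} =>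
      (⟨R.1, hRL R.1 R.2⟩ : {R : Sylow 3 G // (R : Subgroup G) ≤ L}))
    fun a b e => Subtype.ext (congrArg Subtype.val e :)
  have hL : Nat.card L = 144 ∧ inCard 3 L = 4 := by
    have hle := card_le hG (Cg_ne_top hG hz1)
    have hd := card_dvd hG L
    rw [← hLdef, hm2] at hle
    rw [hm2] at hd
    have : inCard 3 L ≤ 20 := by omega
    interval_cases hk : inCard 3 L <;> first
      | omega
      | (exfalso; norm_num at hd; done)
      | (exfalso
         have h360 : Nat.card L = 360 := by omega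
         obtain ⟨y, -, -, hy1, hy2⟩ := invol_five hG hz (by rw [← hLdef, h360]; norm_num)
         rw [← hLdef] at hy1 hy2
         rw [h360] at hy2
         omega)
  have hLN : L ≤ Ng (Subgroup.zpowers u) := le_Ng_of_sylows hG hu hu1 hb hL.2 hRL
  have hLeq : L = Ng (Subgroup.zpowers u) := Subgroup.eq_of_le_of_card_ge hLN (by rw [hL.1, hL144])
  have hCL : Cg u ≤ L := by
    rw [hLeq]
    exact fun c hc => mem_Ng_zpowers (by rw [mem_Cg.1 hc, mul_inv_cancel_right]; exact Subgroup.mem_zpowers u)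
  -- the action on 55 points
  have hX : Nat.card (G ⧸ L) = 55 := by
    have h1 := L.index_mul_card
    rw [hL.1, hG, Subgroup.index_eq_card] at h1
    omega
  have hbase : ∀ g ∈ L, g • ((1 : G) : G ⧸ L) = ((1 : G) : G ⧸ L) := fun g hg => by
    show ((g * 1 : G) : G ⧸ L) = _
    rw [mul_one, QuotientGroup.eq, mul_one]
    exact inv_mem hg
  have hkey : ∀ g a : G, a • (g : G ⧸ L) = g ↔ g⁻¹ * a * g ∈ L := fun g a => by
    show ((a * g : G) : G ⧸ L) = g ↔ _
    rw [eq_comm, QuotientGroup.eq, ← mul_assoc]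
  have hfree : ∀ Q : Sylow 3 G, (Q : Subgroup G) ≤ L → ∀ a ∈ (Q : Subgroup G), a ≠ 1 →
      ∀ x : G ⧸ L, a • x = x → x = ((1 : G) : G ⧸ L) := by
    intro Q hQ a ha ha1 x hx
    induction x using QuotientGroup.induction_on with
    | _ g =>
      obtain ⟨k, hk⟩ := three_pow hG ha
      obtain ⟨R0, hR0, hR0L⟩ := exists_le_sylow_of_mem (a := 2) (x := g⁻¹ * a * g) (k := k)
        (by rw [← hk]; simpa [MulAut.conj_apply] using
          orderOf_injective (MulAut.conj g⁻¹).toMonoidHom (MulAut.conj g⁻¹).injective a)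
        ((hkey g a).1 hx) (by rw [hL.1]; norm_num) (fun T => by rw [card_sylow3 hG T]; norm_num)
      set R := g • R0 with hR
      have haR : a ∈ (R : Subgroup G) := by
        have := (mem_smul_sylow R0 g).2 hR0
        rwa [show g * (g⁻¹ * a * g) * g⁻¹ = a by group] at this
      have hRz : g * z * g⁻¹ ∈ Cs (R : Subgroup G) := by
        refine mem_Cs_of_le_Cg fun b hb => ?_
        have hb0 := (mem_smul_sylow R0 g (x := g⁻¹ * b * g)).1 (by simpa [mul_assoc] using hb)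
        have := (mem_Cg_conj (g := g)).2 (hR0L hb0)
        rwa [show g * (g⁻¹ * b * g) * g⁻¹ = b by group] at this
      have hzR : z ∈ Cs (R : Subgroup G) := by
        rcases inCard_Cg hG ha ha1 with h | h
        · rw [eq_of_inCard_one h (sylow_le_Cg hG R haR) (sylow_le_Cg hG Q ha)]
          exact mem_Cs_of_le_Cg hQ
        · exact mem_Cs_of_le_Cg (invol_centralizes hG h220 hC ha ha1 h (mem_Cs_of_le_Cg hQ) hzz
            (sylow_le_Cg hG R haR))
      obtain ⟨zR, -, -, -, huniq⟩ := exists_invol hG h220 hC R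
      have ho : orderOf (g * z * g⁻¹) = 2 := by
        rw [← hz]; exact orderOf_injective (MulAut.conj g).toMonoidHom (MulAut.conj g).injective z
      have he : g * z * g⁻¹ = z := (huniq _ hRz ho).trans (huniq _ hzR hz).symm
      have hgL : g ∈ L := mem_Cg.2 (mul_inv_eq_iff_eq_mul.1 he)
      exact QuotientGroup.eq.2 (by simpa using inv_mem hgL)
  have hea : ∀ e ∈ (P : Subgroup G), e • ((1 : G) : G ⧸ L) = ((1 : G) : G ⧸ L) := fun e he =>
    hbase e (hPL he)
  haveI : Nontrivial (G ⧸ L) := Finite.one_lt_card_iff_nontrivial.1 (by omega)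
  have h19 : fixCard (G ⧸ L) z = 19 := by
    have h9 := fix_mod_nine hG P (X := G ⧸ L) hPL (hfree P hPL) hea (hbase z (mem_Cg.2 rfl))
    have h4 := four_dvd_moved (X := G ⧸ L) (nc hG) hz
    have hle := fixCard_le (X := G ⧸ L) z
    have hlt : fixCard (G ⧸ L) z < 55 := by
      by_contra hge
      exact hz1 (eq_one_of_fixCard (X := G ⧸ L) (by omega))
    rw [hX] at h4
    omega
  obtain ⟨x, hzx, hx⟩ := exists_fixed_ne hG ((1 : G) : G ⧸ L) (t := z) (X := G ⧸ L) (by omega)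
  obtain ⟨g, rfl⟩ := QuotientGroup.mk_surjective x
  set z' := g * z * g⁻¹ with hz'def
  have hz'L : z' ∈ L := by
    have h := (mem_Cg_conj (g := g) (x := z)).2 ((hkey g z).1 hzx)
    rw [show g * (g⁻¹ * z * g) * g⁻¹ = z by group] at h
    exact mem_Cg_comm.1 h
  have hz'2 : z' * z' = 1 := by rw [hz'def, conj_mul, hzz, mul_one, mul_inv_cancel]
  have hfp : ∀ Q : Sylow 3 G, (Q : Subgroup G) ≤ L → ∀ a ∈ (Q : Subgroup G), z' * a = a * z' → a = 1 := by
    intro Q hQ a ha hc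
    by_contra ha1
    refine hx (hfree Q hQ a ha ha1 _ ((hkey g a).2 ?_))
    show g⁻¹ * a * g ∈ L
    rw [hLdef, ← mem_Cg_conj (g := g), ← hz'def, show g * (g⁻¹ * a * g) * g⁻¹ = a by group]
    exact mem_Cg.2 hc.symm
  -- parity on the four Sylow subgroups
  set Y := insideSylows 3 L
  haveI := Fintype.ofFinite Y
  have hY4 : Fintype.card Y = 4 := by
    rw [← Nat.card_eq_fintype_card]
    exact hL.2
  let f : L →* ℤˣ := Equiv.Perm.sign.comp (toPermHom L Y)
  set K0 := f.ker.map L.subtype with hK0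
  have h3K : ∀ R : Sylow 3 G, (R : Subgroup G) ≤ L → (R : Subgroup G) ≤ K0 := by
    intro R hR b hb
    refine ⟨⟨b, hR hb⟩, ?_, rfl⟩
    rcases Int.units_eq_one_or (f ⟨b, hR hb⟩) with h | h
    · exact h
    · exfalso
      have h9 := congrArg f (show (⟨b, hR hb⟩ : L) ^ 9 = 1 from Subtype.ext (pow_nine hG hb))
      rw [map_pow, h, map_one] at h9
      exact absurd h9 (by decide)
  have hzK : z ∈ K0 := by
    refine ⟨⟨z, mem_Cg.2 rfl⟩, ?_, rfl⟩
    show Equiv.Perm.sign (toPermHom L Y ⟨z, mem_Cg.2 rfl⟩) = 1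
    rw [show toPermHom L Y ⟨z, mem_Cg.2 rfl⟩ = 1 from Equiv.ext fun R => Subtype.ext
      (smul_sylow_eq_iff.2 (Cs_le_Ng _ (mem_Cs_of_le_Cg R.2))), map_one]
  have hCK : Cg u ≤ K0 := by
    set H := Cg u ⊓ K0
    have hPH : (P : Subgroup G) ≤ H := le_inf (sylow_le_Cg hG P hu) (h3K P hPL)
    obtain ⟨-, hH⟩ := inCard_spec P hPH
    have h4' : 4 ≤ inCard 3 H := hb ▸ Nat.card_le_card_of_injective
      (fun R : {R : Sylow 3 G // (R : Subgroup G) ≤ Cg u} =>
        (⟨R.1, le_inf R.2 (h3K R.1 (hRL R.1 R.2))⟩ : {R : Sylow 3 G // (R : Subgroup G) ≤ H}))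
      fun a b e => Subtype.ext (congrArg Subtype.val e :)
    have h18' : 18 ≤ Nat.card ↥(H ⊓ Ng (P : Subgroup G)) := by
      refine Nat.le_of_dvd Nat.card_pos (Nat.Coprime.mul_dvd_of_dvd_of_dvd (show Nat.Coprime 9 2 by norm_num)
        ((dvd_of_eq hP.symm).trans (Subgroup.card_dvd_of_le (le_inf hPH Subgroup.le_normalizer)))
        (hz ▸ Subgroup.orderOf_dvd_natCard _ ?_))
      exact ⟨⟨mem_Cg.2 (mem_Cs.1 hzC u hu).symm, hzK⟩, Cs_le_Ng _ hzC⟩
    have h72' : 72 ≤ Nat.card H := by rw [hH]; exact Nat.mul_le_mul h4' h18'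
    exact (Subgroup.eq_of_le_of_card_ge (inf_le_left : H ≤ Cg u) (by rw [h72]; exact h72')).symm.le.trans inf_le_right
  obtain ⟨h, hhN, hh⟩ := exists_inverting hG P
  have hhL : h ∈ L := hNz hhN
  have hhodd : (⟨h, hhL⟩ : L) ∉ f.ker := by
    intro hk
    obtain ⟨R, hR, hRP, hhR, huniq⟩ := exactly_two hG hu hu1 hb hhN (fun e he => by
      rw [hh e he, inv_mul_cancel]; exact one_mem _)
    have hsw : (toPermHom L Y ⟨h, hhL⟩).IsSwap := by
      refine isSwap_of_two_fixed hY4 (a := ⟨P, hPL⟩) (b := ⟨R, hRL R hR⟩)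
        (fun e => hRP (congrArg Subtype.val e).symm) ?_ ?_ ?_
      · exact Subtype.ext (smul_sylow_eq_iff.2 hhN)
      · exact Subtype.ext hhR
      · intro T hT
        have hTu : ((T : Sylow 3 G) : Subgroup G) ≤ Cg u :=
          sylow_le_of_Ng hG h3 (T.2.trans hLN)
        rcases huniq T hTu (congrArg Subtype.val hT) with e | e
        · exact Or.inl (Subtype.ext e)
        · exact Or.inr (Subtype.ext e)
    have : Equiv.Perm.sign (toPermHom L Y ⟨h, hhL⟩) = 1 := hk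
    rw [hsw.sign_eq] at this
    exact absurd this (by decide)
  have hK72 : K0 = Cg u := by
    refine (Subgroup.eq_of_le_of_card_ge hCK ?_).symm
    rw [h72]
    by_contra hlt
    have hd : Nat.card K0 ∣ 144 := hL.1 ▸ Subgroup.card_dvd_of_le (Subgroup.map_subtype_le _)
    have hd' : 72 ∣ Nat.card K0 := h72 ▸ Subgroup.card_dvd_of_le hCK
    obtain ⟨c, hc⟩ := hd'
    have hc2 := Nat.le_of_dvd (by norm_num) hd
    have htop : f.ker = ⊤ := by
      refine Subgroup.eq_top_of_card_eq _ ?_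
      rw [← Subgroup.card_subtype, ← hK0, hL.1]
      omega
    exact hhodd (htop ▸ Subgroup.mem_top _)
  have hz'odd : f ⟨z', hz'L⟩ = -1 := by
    refine (Int.units_eq_one_or _).resolve_left fun e => ?_
    have hzu : z' ∈ Cg u := hK72 ▸ ⟨⟨z', hz'L⟩, e, rfl⟩
    exact hu1 (hfp P hPL u hu (mem_Cg.1 hzu))
  obtain ⟨R, hR⟩ := exists_fixed_of_odd hY4 (σ := toPermHom L Y ⟨z', hz'L⟩)
    (by rw [← map_mul, show (⟨z', hz'L⟩ : L) * ⟨z', hz'L⟩ = 1 from Subtype.ext hz'2, map_one]) hz'odd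
  have hz'R : z' ∈ Ng ((R : Sylow 3 G) : Subgroup G) := smul_sylow_eq_iff.1 (congrArg Subtype.val hR)
  have hinv : ∀ e ∈ ((R : Sylow 3 G) : Subgroup G), z' * e * z'⁻¹ = e⁻¹ := fun e he => by
    rw [inv_eq_of_mul_eq_one_right hz'2]
    exact GraphSimple.inverts_of_fpf hz'2 hz'R (hfp R R.2) he
  have h7 := fix_le_seven hG hX R (hfree R R.2) hinv (hbase z' hz'L) (fun e he => hbase e (R.2 he))
  rw [hz'def, fixCard_conj, h19] at h7
  norm_num at h7

end Eighteen

end CfsgLib.MElevenUnique
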