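import Cfsg.Agent.MElevenUnique.TwoTwentyA

/-!
A simple group of order 7920 with 220 self-centralising Sylow 3-subgroups: bad elements have centralisers
of order 72.
-/

set_option autoImplicit false

open scoped Pointwise
open MulAction

namespace CfsgLib.MElevenUnique

variable {G : Type*} [Group G] [Finite G] [IsSimpleGroup G] [Fact (Nat.Prime 3)]
  (hG : Nat.card G = 7920) (h220 : Nat.card (Sylow 3 G) = 220)
  (hC : ∀ Q : Sylow 3 G, Nat.card (Cs (Q : Subgroup G)) = 9)
include hG h220 hC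

omit h220 in
theorem not_le_Cg_invol {R : Sylow 3 G} {v : G} (hv : orderOf v = 2) : ¬ (R : Subgroup G) ≤ Cg v := by
  intro h
  have h1 := Subgroup.orderOf_dvd_natCard _ (mem_Cs_of_le_Cg h)
  rw [hv, hC R] at h1
  norm_num at h1

omit h220 in
theorem Cs_eq (P : Sylow 3 G) : Cs (P : Subgroup G) = (P : Subgroup G) :=
  (Subgroup.eq_of_le_of_card_ge (sylow_le_Cs hG P) (by rw [hC P, card_sylow3 hG P])).symm

theorem bad_eighteen {P : Sylow 3 G} {u : G} (hu : u ∈ (P : Subgroup G)) (hu1 : u ≠ 1)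
    (hb : inCard 3 (Cg u) = 4) : Nat.card ↥(Cg u ⊓ Ng (P : Subgroup G)) = 18 := by
  classical
  by_contra hne
  obtain ⟨h9or, hCu⟩ := bad_card hG h220 hu hu1 hb
  have h9 := h9or.resolve_right hne
  rw [h9] at hCu
  haveI := Fact.mk Nat.prime_two
  have hP := card_sylow3 hG P
  have h3 := orderOf_bad hG hu hu1 hb
  have hPC := sylow_le_Cg hG P hu
  set C := Cg u with hCdef
  set P' := (P : Subgroup G).subgroupOf C with hP'
  have hP'c : Nat.card P' = 3 ^ 2 := by
    rw [hP', Nat.card_congr (Subgroup.subgroupOfEquivOfLe hPC).toEquiv, hP]; norm_num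
  have heq : C ⊓ Ng (P : Subgroup G) = (P : Subgroup G) :=
    (Subgroup.eq_of_le_of_card_ge (le_inf hPC Subgroup.le_normalizer) (by rw [hP]; exact h9.le)).symm
  obtain ⟨V', hVn, -, hVc⟩ := GraphSimple.exists_normal_complement (G := C) (p := 3) (a := 2)
    (K := (⊤ : Subgroup C)) (H := P') le_top hP'c (by rw [Subgroup.card_top, hCu, hP'c]; norm_num) (by
      rintro c ⟨hc, -⟩ q hq
      have hcN : (c : G) ∈ C ⊓ Ng (P : Subgroup G) := by
        refine ⟨c.2, ?_⟩
        rw [hP', ← Subgroup.subgroupOf_normalizer_eq hPC] at hc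
        exact hc
      rw [heq] at hcN
      exact Subtype.ext (mem_Cs.1 (sylow_le_Cs hG P hcN) q hq))
  rw [Subgroup.card_top, hCu, hP'c] at hVc
  set V := V'.map C.subtype with hVdef
  have hV : Nat.card V = 4 := by rw [Subgroup.card_subtype]; omega
  have hVC : V ≤ C := Subgroup.map_subtype_le _
  have hVmem : ∀ x, x ∈ V ↔ x ∈ C ∧ x ^ 4 = 1 := by
    intro x
    constructor
    · intro hx
      refine ⟨hVC hx, ?_⟩
      rw [← hV]
      exact congrArg Subtype.val (pow_card_eq_one' (x := (⟨x, hx⟩ : V)))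
    · rintro ⟨hxC, hx4⟩
      refine ⟨⟨x, hxC⟩, ?_, rfl⟩
      have h1 : orderOf (QuotientGroup.mk' V' ⟨x, hxC⟩) ∣ 4 := by
        refine (orderOf_map_dvd _ _).trans ?_
        rw [← Subgroup.orderOf_coe]
        exact orderOf_dvd_of_pow_eq_one hx4
      have h2 : orderOf (QuotientGroup.mk' V' ⟨x, hxC⟩) ∣ 9 := by
        refine (orderOf_dvd_natCard _).trans ?_
        have := V'.index_mul_card
        rw [← Subgroup.index_eq_card]
        rw [hCu] at this
        exact dvd_of_eq (by nlinarith)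
      exact (QuotientGroup.eq_one_iff _).1
        (orderOf_eq_one_iff.1 (Nat.eq_one_of_dvd_coprimes (by norm_num) h1 h2))
  set X := Subgroup.zpowers u with hXdef
  have hconjV : ∀ n ∈ Ng X, ∀ x ∈ V, n * x * n⁻¹ ∈ V := by
    intro n hn x hx
    obtain ⟨h1, h2⟩ := (hVmem x).1 hx
    exact (hVmem _).2 ⟨Ng_zpowers_Cg hn h1, by rw [conj_pow, h2, mul_one, mul_inv_cancel]⟩
  have hXV : Ng X ≤ Ng V := by
    intro n hn
    rw [Subgroup.mem_normalizer_iff]
    refine fun x => ⟨hconjV n hn x, fun h => ?_⟩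
    have := hconjV n⁻¹ (inv_mem hn) _ h
    simpa [mul_assoc] using this
  have hM72 : Nat.card (Ng X) = 72 := by rw [hXdef, card_Ng_three hG h3, hCu]
  have hCX : C ≤ Ng X := fun c hc =>
    mem_Ng_zpowers (by rw [mem_Cg.1 hc, mul_inv_cancel_right]; exact Subgroup.mem_zpowers u)
  set M := Ng V with hMdef
  have hMne : M ≠ ⊤ := Small.normalizer_ne_top (fun e => by rw [e, Subgroup.card_bot] at hV; norm_num at hV)
    (fun e => by rw [e, Subgroup.card_top, hG] at hV; norm_num at hV)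
  have hM11 : ¬ 11 ∣ Nat.card M := by
    intro h
    haveI := Fact.mk (show Nat.Prime 11 by norm_num)
    obtain ⟨⟨y, hyM⟩, hy⟩ := exists_prime_orderOf_dvd_card' (G := M) 11 h
    rw [← Subgroup.orderOf_coe] at hy
    simp only at hy
    have hc := GraphSimple.le_centralizer_of_mod (p := 11) (H := Subgroup.zpowers y) (Q := V)
      (IsPGroup.of_card (n := 1) (by rw [Nat.card_zpowers, hy, pow_one])) (Subgroup.zpowers_le.2 hyM) (by
        rw [hV]
        intro d hd hmod
        have := Nat.le_of_dvd (by norm_num) hd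
        omega)
    obtain ⟨⟨v, hvV⟩, hv⟩ := exists_prime_orderOf_dvd_card' (G := V) 2 (by rw [hV]; norm_num)
    rw [← Subgroup.orderOf_coe] at hv
    simp only at hv
    have hyv : y ∈ Cg v := mem_Cg.2 (mem_Cs.1 (hc hvV) y (Subgroup.mem_zpowers y))
    exact not_eleven_Cg hG (fun e => by rw [e, orderOf_one] at hv; norm_num at hv) (by rw [hv]; norm_num)
      (hy ▸ Subgroup.orderOf_dvd_natCard _ hyv)
  have hM5 : ¬ 5 ∣ Nat.card M := fun h => not_five_normalizes hG h hV le_rfl
  have hMd := coprime_dvd_144 hG hM5 hM11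
  have hMeq : M = Ng X := by
    refine (Subgroup.eq_of_le_of_card_ge hXV ?_).symm
    by_contra hlt
    rw [hM72] at hlt
    obtain ⟨c, hc⟩ : 72 ∣ Nat.card M := hM72 ▸ Subgroup.card_dvd_of_le hXV
    have h144 : Nat.card M = 144 := by
      have := Nat.le_of_dvd (by norm_num) hMd
      omega
    have hPM : (P : Subgroup G) ≤ M := hPC.trans (hCX.trans hXV)
    obtain ⟨hn1, hn2⟩ := inCard_spec P hPM
    have hle18 : 18 ≤ Nat.card ↥(M ⊓ Ng (P : Subgroup G)) := by
      obtain ⟨g, hgN, hg⟩ := exists_inverting hG P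
      have hgX : g ∈ Ng X := mem_Ng_zpowers (by rw [hg u hu]; exact inv_mem (Subgroup.mem_zpowers u))
      obtain ⟨d, hd⟩ : 9 ∣ Nat.card ↥(M ⊓ Ng (P : Subgroup G)) :=
        (dvd_of_eq hP.symm).trans (Subgroup.card_dvd_of_le (le_inf hPM Subgroup.le_normalizer))
      have hne9 : Nat.card ↥(M ⊓ Ng (P : Subgroup G)) ≠ 9 := fun e => by
        have he := Subgroup.eq_of_le_of_card_ge (le_inf hPM Subgroup.le_normalizer) (by rw [e, hP])
        have hgP : g ∈ (P : Subgroup G) := he.symm.le ⟨hXV hgX, hgN⟩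
        have h := hg u hu
        rw [mem_Cg.1 (sylow_le_Cg hG P hu hgP), mul_inv_cancel_right] at h
        have h2 : u ^ 2 = 1 := by rw [pow_two]; nth_rewrite 1 [h]; exact inv_mul_cancel u
        have := orderOf_dvd_of_pow_eq_one h2
        rw [h3] at this
        norm_num at this
      have := Nat.card_pos (α := ↥(M ⊓ Ng (P : Subgroup G)))
      omega
    have h4 : 4 ≤ inCard 3 M := hb ▸ Nat.card_le_card_of_injective
      (fun R : {R : Sylow 3 G // (R : Subgroup G) ≤ C} =>
        (⟨R.1, R.2.trans (hCX.trans hXV)⟩ : {R : Sylow 3 G // (R : Subgroup G) ≤ M}))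
      fun a b e => Subtype.ext (congrArg Subtype.val e :)
    have h8 : inCard 3 M ≤ 8 := by
      rw [h144] at hn2
      have := Nat.mul_le_mul_left (inCard 3 M) hle18
      omega
    have hin : inCard 3 M = 4 := by
      rw [h144] at hn2
      have hd : inCard 3 M ∣ 144 := Dvd.intro _ hn2.symm
      interval_cases hk : inCard 3 M <;> first | omega | (exfalso; norm_num at hd; done)
    have := Subgroup.card_le_of_le (le_Ng_of_sylows hG hu hu1 hb hin fun R hR => hR.trans (hCX.trans hXV))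
    rw [h144, show Nat.card (Ng (Subgroup.zpowers u)) = 72 from hM72] at this
    norm_num at this
  have hM : Nat.card M = 72 := by rw [hMeq, hM72]
  obtain ⟨g, hgN, hg⟩ := exists_inverting hG P
  have hgM : g ∈ M := hXV (mem_Ng_zpowers (by rw [hg u hu]; exact inv_mem (Subgroup.mem_zpowers u)))
  obtain ⟨w, hwP, hwX⟩ : ∃ w ∈ (P : Subgroup G), w ∉ X := by
    by_contra h
    push Not at h
    have := Subgroup.card_le_of_le (show (P : Subgroup G) ≤ X from h)
    rw [hP, Nat.card_zpowers, h3] at this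
    norm_num at this
  have hwM : w ∈ M := hXV (hCX (hPC hwP))
  have hfp : ∀ v ∈ V, Commute w v → v = 1 := by
    intro v hv hc
    have hle : (P : Subgroup G) ≤ Cg v := by
      set E := (P : Subgroup G) ⊓ Cg v
      have huE : u ∈ E := ⟨hu, mem_Cg.2 (mem_Cg.1 (hVC hv)).symm⟩
      have hwE : w ∈ E := ⟨hwP, mem_Cg.2 hc⟩
      have hd : Nat.card E ∣ 9 := hP ▸ Subgroup.card_dvd_of_le inf_le_left
      have hgt : ¬ Nat.card E ≤ 3 := fun h => hwX ((Subgroup.eq_of_le_of_card_ge (Subgroup.zpowers_le.2 huE)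
        (by rw [Nat.card_zpowers, h3]; exact h)).symm.le hwE)
      have := Nat.le_of_dvd (by norm_num) hd
      have h9 : Nat.card E = 9 := by interval_cases Nat.card E <;> omega
      exact (Subgroup.eq_of_le_of_card_ge (inf_le_left : E ≤ _) (by rw [h9, hP])).symm.le.trans inf_le_right
    have hvP : v ∈ (P : Subgroup G) := Cs_eq hG hC P ▸ mem_Cs_of_le_Cg hle
    obtain ⟨k, hk⟩ := three_pow hG hvP
    exact orderOf_eq_one_iff.1 (Nat.eq_one_of_dvd_coprimes (show Nat.Coprime 4 9 by norm_num)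
      (orderOf_dvd_of_pow_eq_one ((hVmem v).1 hv).2)
      ((Subgroup.orderOf_dvd_natCard _ hvP).trans (dvd_of_eq hP)))
  -- the kernel of the action on V
  set φ := V.normalizerMonoidHom with hφ
  have hCsd : 8 ∣ Nat.card (Cs V) → False := by
    intro h8
    have hle : Cs V ≤ M := Cs_le_Ng V
    have h1 := Small.card_centralizer_mul_relIndex V
    change Nat.card (Cs V) * (Cs V).relIndex M = Nat.card M at h1
    have hu' : u ∈ Cs V := mem_Cs_of_le_Cg hVC
    have h3d : 3 ∣ Nat.card (Cs V) := h3 ▸ Subgroup.orderOf_dvd_natCard _ hu'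
    have h24 : 24 ∣ Nat.card (Cs V) := Nat.Coprime.mul_dvd_of_dvd_of_dvd (by norm_num : Nat.Coprime 8 3) h8 h3d
    obtain ⟨c, hc⟩ := h24
    rw [hc, hM, show 72 = 24 * 3 by norm_num, mul_assoc] at h1
    have h33 := Nat.eq_of_mul_eq_mul_left (by norm_num : 0 < 24) h1
    have hR : Nat.card φ.range ∣ 3 := by
      rw [← Nat.card_congr (QuotientGroup.quotientKerEquivRange φ).toEquiv, ← Subgroup.index_eq_card, hφ,
        Subgroup.normalizerMonoidHom_ker]
      exact Dvd.intro_left c h33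
    have hcomm : ∀ a b : φ.range, a * b = b * a := by
      rcases (Nat.dvd_prime Nat.prime_three).1 hR with e | e
      · haveI := (Nat.card_eq_one_iff_unique.1 e).1
        exact fun a b => Subsingleton.elim _ _
      · haveI : IsCyclic φ.range := isCyclic_of_prime_card e
        letI := IsCyclic.commGroup (α := φ.range)
        exact mul_comm
    have h2 : φ (⟨g, hgM⟩ * ⟨w, hwM⟩ * (⟨g, hgM⟩ : M)⁻¹) = φ ⟨w, hwM⟩ := by
      have := congrArg Subtype.val (hcomm ⟨φ ⟨g, hgM⟩, ⟨g, hgM⟩, rfl⟩ ⟨φ ⟨w, hwM⟩, ⟨w, hwM⟩, rfl⟩)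
      simp only [Subgroup.coe_mul] at this
      rw [map_mul, map_mul, this, map_inv, mul_inv_cancel_right]
    rw [show (⟨g, hgM⟩ * ⟨w, hwM⟩ * (⟨g, hgM⟩ : M)⁻¹ : M) = (⟨w, hwM⟩ : M)⁻¹ from
      Subtype.ext (hg w hwP), map_inv] at h2
    have hsq : φ ⟨w, hwM⟩ * φ ⟨w, hwM⟩ = 1 := by nth_rewrite 1 [← h2]; rw [inv_mul_cancel]
    have h9 : φ ⟨w, hwM⟩ = 1 := by
      rw [eq_self_of_pow_nine (v := φ ⟨w, hwM⟩) (by rw [← map_pow, show (⟨w, hwM⟩ : M) ^ 9 = 1 from
        Subtype.ext (pow_nine hG hwP), map_one]), hsq, one_pow]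
    obtain ⟨v, hv, hv1⟩ : ∃ v ∈ V, v ≠ 1 := by
      by_contra h
      push Not at h
      have : V = ⊥ := (Subgroup.eq_bot_iff_forall _).2 h
      rw [this, Subgroup.card_bot] at hV
      norm_num at hV
    refine hv1 (hfp v hv ?_)
    have := congrArg Subtype.val (congrArg (fun a : MulAut V => a ⟨v, hv⟩) h9)
    exact mul_inv_eq_iff_eq_mul.1 this
  have hVp : IsPGroup 2 V := IsPGroup.of_card (n := 2) (by rw [hV]; norm_num)
  obtain ⟨S, hS⟩ := hVp.exists_le_sylow
  have hS16 : Nat.card (S : Subgroup G) = 16 :=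
    Small.card_sylow_eq (k := 4) (m := 495) (by rw [hG]; norm_num) (by norm_num) S
  haveI : Nontrivial (S : Subgroup G) := Finite.one_lt_card_iff_nontrivial.1 (by omega)
  haveI := S.2.center_nontrivial
  obtain ⟨n, hn, hcard⟩ := (S.2.to_subgroup (Subgroup.center (S : Subgroup G))).nontrivial_iff_card.1 inferInstance
  obtain ⟨z, hz⟩ := exists_prime_orderOf_dvd_card' (G := Subgroup.center (S : Subgroup G)) 2
    (hcard ▸ dvd_pow_self 2 hn.ne')
  rw [← Subgroup.orderOf_coe, ← Subgroup.orderOf_coe] at hz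
  set v := ((z : (S : Subgroup G)) : G) with hvdef
  have hSv : (S : Subgroup G) ≤ Cg v := fun s hs =>
    mem_Cg.2 (congrArg Subtype.val (Subgroup.mem_center_iff.1 z.2 ⟨s, hs⟩))
  have hvV : v ∈ V := by
    by_contra hn
    set E := (S : Subgroup G) ⊓ Cs V
    have hVab : ∀ a ∈ V, a ∈ Cs V := by
      intro a ha
      haveI := IsPGroup.isMulCommutative_of_card_eq_prime_sq (p := 2) (G := V) (by rw [hV]; norm_num)
      exact mem_Cs.2 fun b hb => congrArg Subtype.val (mul_comm' (⟨b, hb⟩ : V) ⟨a, ha⟩)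
    have hVE : V ≤ E := fun a ha => ⟨hS ha, hVab a ha⟩
    have hvE : v ∈ E := ⟨(z : (S : Subgroup G)).2, mem_Cs_of_le_Cg (hS.trans hSv)⟩
    obtain ⟨m, hm⟩ := IsPGroup.iff_card.1 (S.2.to_le (inf_le_left : E ≤ _))
    refine hCsd (dvd_trans ?_ (Subgroup.card_dvd_of_le (inf_le_right : E ≤ Cs V)))
    rw [hm, show 8 = 2 ^ 3 by norm_num]
    refine pow_dvd_pow 2 ?_
    by_contra hm3
    have h4 : Nat.card E ≤ 4 := by
      rw [hm, show 4 = 2 ^ 2 by norm_num]
      exact Nat.pow_le_pow_right (by norm_num) (by omega)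
    exact hn ((Subgroup.eq_of_le_of_card_ge hVE (by rw [hV]; exact h4)).symm.le hvE)
  have hv1 : v ≠ 1 := fun e => by rw [e, orderOf_one] at hz; norm_num at hz
  have h16 : 16 ∣ Nat.card (Cg v) := hS16 ▸ Subgroup.card_dvd_of_le hSv
  have huv : u ∈ Cg v := mem_Cg.2 (mem_Cg.1 (hVC hvV)).symm
  have hCd := coprime_dvd_144 hG (no_five hG hz h16) (not_eleven_Cg hG hv1 (by rw [hz]; norm_num))
  have h48 : Nat.card (Cg v) = 48 := by
    have h3d : 3 ∣ Nat.card (Cg v) := h3 ▸ Subgroup.orderOf_dvd_natCard _ huv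
    obtain ⟨c, hc⟩ := Nat.Coprime.mul_dvd_of_dvd_of_dvd (by norm_num : Nat.Coprime 16 3) h16 h3d
    have hle := Nat.le_of_dvd (by norm_num) hCd
    have hpos := Nat.card_pos (α := Cg v)
    have hc3 : c ≠ 3 := fun e => by
      obtain ⟨R, hR, hRle⟩ := exists_le_sylow_of_mem (a := 2) (k := 1) (x := u) (H := Cg v)
        (by rw [h3, pow_one]) huv (by rw [hc, e]; norm_num) (fun T => by rw [card_sylow3 hG T]; norm_num)
      exact not_le_Cg_invol hG hC hz hRle
    have hc2 : c ≠ 2 := fun e => by rw [hc, e] at hCd; norm_num at hCd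
    omega
  -- the stabiliser of v
  have hnc : ∀ n : G, n ∈ (P : Subgroup G) → n ∉ X → ¬ Commute n v := by
    intro n hn hnX hc
    have hle : (P : Subgroup G) ≤ Cg v := by
      set E := (P : Subgroup G) ⊓ Cg v
      have huE : u ∈ E := ⟨hu, huv⟩
      have hwE : n ∈ E := ⟨hn, mem_Cg.2 hc⟩
      have hd : Nat.card E ∣ 9 := hP ▸ Subgroup.card_dvd_of_le inf_le_left
      have hgt : ¬ Nat.card E ≤ 3 := fun h => hnX ((Subgroup.eq_of_le_of_card_ge (Subgroup.zpowers_le.2 huE)
        (by rw [Nat.card_zpowers, h3]; exact h)).symm.le hwE)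
      have := Nat.le_of_dvd (by norm_num) hd
      have h9 : Nat.card E = 9 := by interval_cases Nat.card E <;> omega
      exact (Subgroup.eq_of_le_of_card_ge (inf_le_left : E ≤ _) (by rw [h9, hP])).symm.le.trans inf_le_right
    exact not_le_Cg_invol hG hC hz hle
  set Hv := (Cg v).subgroupOf M with hHv
  have hidx : Hv.index = 3 := by
    have hinj : Function.Injective fun q : M ⧸ Hv =>
        (⟨⟨(q.out : G) * v * (q.out : G)⁻¹, (Subgroup.mem_normalizer_iff.1 q.out.2 v).1 hvV⟩, fun e => hv1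
          (conj_eq_one_iff.1 (congrArg Subtype.val e))⟩ : {a : V // a ≠ 1}) := by
      intro q q' e
      have e' : (q.out : G) * v * (q.out : G)⁻¹ = (q'.out : G) * v * (q'.out : G)⁻¹ :=
        congrArg (fun a : {a : V // a ≠ 1} => ((a : V) : G)) e
      rw [← q.out_eq', ← q'.out_eq']
      refine QuotientGroup.eq.2 (Subgroup.mem_subgroupOf.2 (mem_Cg.2 ?_))
      show (q.out : G)⁻¹ * (q'.out : G) * v = v * ((q.out : G)⁻¹ * (q'.out : G))
      calc (q.out : G)⁻¹ * (q'.out : G) * v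
          = (q.out : G)⁻¹ * ((q'.out : G) * v * (q'.out : G)⁻¹) * (q'.out : G) := by group
        _ = (q.out : G)⁻¹ * ((q.out : G) * v * (q.out : G)⁻¹) * (q'.out : G) := by rw [e']
        _ = _ := by group
    have hle3 := Nat.card_le_card_of_injective _ hinj
    haveI := Fintype.ofFinite V
    rw [Nat.card_eq_fintype_card (α := {a : V // a ≠ 1}), Fintype.card_subtype_compl, Fintype.card_subtype_eq,
      ← Nat.card_eq_fintype_card, hV, ← Subgroup.index_eq_card] at hle3
    -- the conjugates by 1, w, w²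
    have hge : 3 ∣ Hv.index := by
      by_contra h3n
      have hdv : Hv.index ∣ 72 := hM ▸ Subgroup.index_dvd_card _
      have h2 : 3 ^ 2 ∣ Nat.card Hv := by
        refine (Nat.Coprime.pow_left 2 (Nat.prime_three.coprime_iff_not_dvd.2 h3n)).dvd_of_dvd_mul_left ?_
        rw [Hv.index_mul_card, hM]
        norm_num
      rw [hHv, ← Subgroup.inf_subgroupOf_right,
        Nat.card_congr (Subgroup.subgroupOfEquivOfLe inf_le_right).toEquiv] at h2
      obtain ⟨R, -, hR⟩ := exists_le_sylow_of_mem (a := 2) (k := 1) (x := u) (H := Cg v ⊓ M)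
        (by rw [h3, pow_one]) ⟨huv, hXV (hCX (hPC hu))⟩ h2 (fun T => by rw [card_sylow3 hG T]; norm_num)
      exact not_le_Cg_invol hG hC hz (hR.trans inf_le_left)
    have := Nat.le_of_dvd (Nat.pos_of_ne_zero Subgroup.index_ne_zero_of_finite) hge
    omega
  have h24 : Nat.card ↥(Cg v ⊓ Ng X) = 24 := by
    rw [← hMeq, ← Nat.card_congr (Subgroup.subgroupOfEquivOfLe (inf_le_right : Cg v ⊓ M ≤ M)).toEquiv,
      Subgroup.inf_subgroupOf_right]
    have := Hv.index_mul_card
    rw [hidx, hM] at this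
    rw [← hHv]
    omega
  have hXle : X ≤ Cg v := Subgroup.zpowers_le.2 huv
  have hXS : IsPGroup 3 (X.subgroupOf (Cg v)) := IsPGroup.of_card (n := 1) (by
    rw [Nat.card_congr (Subgroup.subgroupOfEquivOfLe hXle).toEquiv, Nat.card_zpowers, h3, pow_one])
  have hXi : ¬ 3 ∣ (X.subgroupOf (Cg v)).index := by
    have := (X.subgroupOf (Cg v)).index_mul_card
    rw [Nat.card_congr (Subgroup.subgroupOfEquivOfLe hXle).toEquiv, Nat.card_zpowers, h3, h48] at this
    omega
  have hk := Small.card_sylow_mul_card_normalizer (hXS.toSylow hXi)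
  rw [h48, show ((hXS.toSylow hXi) : Subgroup (Cg v)) = X.subgroupOf (Cg v) from rfl,
    ← Subgroup.subgroupOf_normalizer_eq hXle, ← Subgroup.inf_subgroupOf_left (Ng X) (Cg v),
    Nat.card_congr (Subgroup.subgroupOfEquivOfLe inf_le_left).toEquiv, h24] at hk
  have := Small.card_sylow_mod 3 (G := Cg v)
  omega

end CfsgLib.MElevenUnique
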